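import Groth.Agent.Epp23.Lemmas
import Mathlib.FieldTheory.Separable
import Mathlib.Data.Rat.Floor
import Mathlib.Algebra.Order.Archimedean.Basic
import Mathlib.Algebra.Order.Floor.Semiring

/-!
# Approximation in a valued field: closures of subfields, continuity of roots, Krasner's lemma
-/

set_option autoImplicit false
set_option linter.style.haveILetI false
set_option linter.unusedSectionVars false
universe u

open Polynomial

namespace Groth.Agent.Epp23

variable {Ω : Type u} [Field Ω] (v : AddValuation Ω (WithTop ℚ))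

theorem v_sub_gt {x y z : Ω} {q : ℚ} (h₁ : ((q : ℚ) : WithTop ℚ) < v (x - y))
    (h₂ : ((q : ℚ) : WithTop ℚ) < v (y - z)) : ((q : ℚ) : WithTop ℚ) < v (x - z) := by
  rw [show x - z = (x - y) + (y - z) by ring]
  exact v.map_lt_add h₁ h₂

/-- Values of finitely many elements are bounded below. -/
theorem exists_lower_bound (x : Ω) : ∃ n : ℕ, ((-(n : ℚ) : ℚ) : WithTop ℚ) ≤ v x := by
  rcases eq_or_ne x 0 with rfl | hx
  · exact ⟨0, by rw [v.map_zero]; exact le_top⟩
  obtain ⟨q, hq⟩ := val_exists v hx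
  refine ⟨⌈-q⌉₊, ?_⟩
  rw [hq, WithTop.coe_le_coe]
  linarith [Nat.le_ceil (-q)]

/-- The elements approximated by the subfields satisfying an eventual property. -/
def approxField (P : ℕ → Subfield Ω → Prop) (hP : ∀ {N N'}, N ≤ N' → ∀ {T}, P N' T → P N T) :
    Subfield Ω where
  carrier := {x | ∀ M : ℕ, ∃ N, ∀ T, P N T → ∃ y ∈ T, ((M : ℚ) : WithTop ℚ) < v (x - y)}
  one_mem' M := ⟨0, fun T _ => ⟨1, T.one_mem, by rw [sub_self, v.map_zero]; exact WithTop.coe_lt_top _⟩⟩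
  zero_mem' M := ⟨0, fun T _ => ⟨0, T.zero_mem, by rw [sub_self, v.map_zero]; exact WithTop.coe_lt_top _⟩⟩
  neg_mem' {x} hx M := by
    obtain ⟨N, hN⟩ := hx M
    refine ⟨N, fun T hT => ?_⟩
    obtain ⟨y, hy, hxy⟩ := hN T hT
    exact ⟨-y, T.neg_mem hy, by rwa [show -x - -y = -(x - y) by ring, v.map_neg]⟩
  add_mem' {x y} hx hy M := by
    obtain ⟨N, hN⟩ := hx M
    obtain ⟨N', hN'⟩ := hy M
    refine ⟨max N N', fun T hT => ?_⟩
    obtain ⟨a, ha, hxa⟩ := hN T (hP (le_max_left _ _) hT)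
    obtain ⟨b, hb, hyb⟩ := hN' T (hP (le_max_right _ _) hT)
    exact ⟨a + b, T.add_mem ha hb, by
      rw [show x + y - (a + b) = (x - a) + (y - b) by ring]; exact v.map_lt_add hxa hyb⟩
  mul_mem' {x y} hx hy M := by
    obtain ⟨i, hi⟩ := exists_lower_bound v x
    obtain ⟨j, hj⟩ := exists_lower_bound v y
    obtain ⟨N, hN⟩ := hx (M + j)
    obtain ⟨N', hN'⟩ := hy (M + i)
    refine ⟨max N N', fun T hT => ?_⟩
    obtain ⟨a, ha, hxa⟩ := hN T (hP (le_max_left _ _) hT)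
    obtain ⟨b, hb, hyb⟩ := hN' T (hP (le_max_right _ _) hT)
    refine ⟨a * b, T.mul_mem ha hb, ?_⟩
    have hai : ((-(i : ℚ) : ℚ) : WithTop ℚ) ≤ v a := by
      rw [show a = x - (x - a) by ring]
      refine v.map_le_sub hi (le_trans ?_ hxa.le)
      rw [WithTop.coe_le_coe]
      push_cast
      linarith [(Nat.cast_nonneg i : (0 : ℚ) ≤ i), (Nat.cast_nonneg M : (0 : ℚ) ≤ M),
        (Nat.cast_nonneg j : (0 : ℚ) ≤ j)]
    rw [show x * y - a * b = (x - a) * y + a * (y - b) by ring]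
    refine v.map_lt_add ?_ ?_
    · rw [v.map_mul, show (M : ℚ) = ((M + j : ℕ) : ℚ) + -(j : ℚ) by push_cast; ring, WithTop.coe_add]
      exact WithTop.add_lt_add_of_lt_of_le WithTop.coe_ne_top hxa hj
    · rw [v.map_mul, show (M : ℚ) = -(i : ℚ) + ((M + i : ℕ) : ℚ) by push_cast; ring, WithTop.coe_add]
      exact WithTop.add_lt_add_of_le_of_lt WithTop.coe_ne_top hai hyb
  inv_mem' x hx M := by
    rcases eq_or_ne x 0 with rfl | hx0
    · exact ⟨0, fun T _ => ⟨0, T.zero_mem, by simp⟩⟩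
    obtain ⟨q, hq⟩ := val_exists v hx0
    obtain ⟨k, hk⟩ : ∃ k : ℕ, q < k ∧ -q < k :=
      ⟨⌈|q|⌉₊ + 1, by push_cast; linarith [Nat.le_ceil |q|, le_abs_self q],
        by push_cast; linarith [Nat.le_ceil |q|, neg_le_abs q]⟩
    obtain ⟨N, hN⟩ := hx (M + k + k)
    refine ⟨N, fun T hT => ?_⟩
    obtain ⟨a, ha, hxa⟩ := hN T hT
    have hqlt : (q : WithTop ℚ) < v (x - a) := by
      refine lt_trans ?_ hxa
      rw [WithTop.coe_lt_coe]
      push_cast
      linarith [hk.1, (Nat.cast_nonneg M : (0 : ℚ) ≤ M), (Nat.cast_nonneg k : (0 : ℚ) ≤ k)]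
    have hva : v a = (q : WithTop ℚ) := by
      rw [← hq]
      exact v.map_eq_of_lt_sub (by rw [hq, v.map_sub_swap]; exact hqlt)
    have ha0 := ne_zero_of_eq v hva
    refine ⟨a⁻¹, T.inv_mem ha, ?_⟩
    rcases eq_or_ne (x - a) 0 with h0 | h0
    · rw [sub_eq_zero.1 h0, sub_self, v.map_zero]; exact WithTop.coe_lt_top _
    obtain ⟨d, hd⟩ := val_exists v h0
    rw [hd, WithTop.coe_lt_coe] at hxa
    rw [show x⁻¹ - a⁻¹ = -(x - a) / (x * a) by field_simp; ring, v_div v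
      (show v (-(x - a)) = (d : WithTop ℚ) by rw [v.map_neg, hd]) (v_mul v hq hva), WithTop.coe_lt_coe]
    push_cast at hxa
    linarith [hk.1]

/-- The closure of a subfield. -/
def clos (K : Subfield Ω) : Subfield Ω := approxField v (fun _ T => K ≤ T) fun _ _ h => h

theorem mem_clos {K : Subfield Ω} {x : Ω} :
    x ∈ clos v K ↔ ∀ M : ℕ, ∃ y ∈ K, ((M : ℚ) : WithTop ℚ) < v (x - y) :=
  ⟨fun h M => let ⟨_, hN⟩ := h M; hN K le_rfl,
    fun h M => ⟨0, fun _ hT => let ⟨y, hy, hxy⟩ := h M; ⟨y, hT hy, hxy⟩⟩⟩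

theorem le_clos (K : Subfield Ω) : K ≤ clos v K := fun x hx =>
  (mem_clos v).2 fun M => ⟨x, hx, by rw [sub_self, v.map_zero]; exact WithTop.coe_lt_top _⟩

theorem exists_gt (q : ℚ) : ∃ M : ℕ, q < M := exists_nat_gt q

/-- Polynomials with nearby coefficients have nearby values. -/
theorem eval_near (θ : Ω) (n : ℕ) (M : ℚ) : ∃ N : ℕ, ∀ f g : Ω[X], f.natDegree ≤ n → g.natDegree ≤ n →
    (∀ i, ((N : ℚ) : WithTop ℚ) < v (f.coeff i - g.coeff i)) →
    ((M : ℚ) : WithTop ℚ) < v (f.eval θ - g.eval θ) := by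
  obtain ⟨b, hb⟩ := exists_lower_bound v θ
  obtain ⟨N, hN⟩ := exists_nat_gt (M + n * b)
  refine ⟨N, fun f g hf hg h => ?_⟩
  rw [← eval_sub, eval_eq_sum_range' (n := n + 1)
    (Nat.lt_succ_of_le ((natDegree_sub_le _ _).trans (max_le hf hg)))]
  refine v.map_lt_sum WithTop.coe_ne_top fun i hi => ?_
  rw [coeff_sub, v.map_mul, show M = (M + n * b) + -((n : ℚ) * b) by ring, WithTop.coe_add]
  refine WithTop.add_lt_add_of_lt_of_le WithTop.coe_ne_top
    (lt_trans (WithTop.coe_lt_coe.2 hN) (h i)) ?_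
  rw [v.map_pow]
  refine le_trans ?_ (nsmul_le_nsmul_right hb i)
  rw [← WithTop.coe_nsmul, WithTop.coe_le_coe, nsmul_eq_mul]
  have : (i : ℚ) ≤ n := by exact_mod_cast Nat.lt_succ_iff.1 (Finset.mem_range.1 hi)
  nlinarith [(Nat.cast_nonneg b : (0 : ℚ) ≤ b)]

/-- A root near a point where a monic polynomial is small. -/
theorem exists_root_near [IsAlgClosed Ω] {g : Ω[X]} (hg : g.Monic) {θ : Ω} {c : ℚ}
    (h : (((g.natDegree : ℚ) * c : ℚ) : WithTop ℚ) < v (g.eval θ)) :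
    ∃ r ∈ g.roots, (c : WithTop ℚ) < v (θ - r) := by
  by_contra! hall
  refine absurd h (not_lt.2 ?_)
  conv_lhs => rw [(IsAlgClosed.splits g).eq_prod_roots_of_monic hg]
  rw [eval_multiset_prod, Multiset.map_map, (IsAlgClosed.splits g).natDegree_eq_card_roots]
  revert hall
  induction g.roots using Multiset.induction_on with
  | empty => intro _; simp
  | cons a s ih =>
    intro hall
    rw [Multiset.map_cons, Multiset.prod_cons, v.map_mul, Multiset.card_cons, Nat.cast_add,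
      Nat.cast_one, show ((s.card : ℚ) + 1) * c = c + s.card * c by ring, WithTop.coe_add]
    exact add_le_add (by simpa using hall a (Multiset.mem_cons_self a s))
      (ih fun x hx => hall x (Multiset.mem_cons_of_mem hx))

/-- The distances between the elements of a finite set are bounded. -/
theorem exists_sep (s : Finset Ω) : ∃ c : ℚ, 0 ≤ c ∧ ∀ a ∈ s, ∀ b ∈ s, a ≠ b → v (a - b) ≤ (c : WithTop ℚ) := by
  classical
  have hq : ∀ x : Ω, ∃ q : ℚ, x ≠ 0 → v x = q := fun x => by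
    rcases eq_or_ne x 0 with h | h
    · exact ⟨0, fun h' => absurd h h'⟩
    · exact ⟨_, fun _ => (val_exists v h).choose_spec⟩
  choose q hq using hq
  refine ⟨∑ a ∈ s, ∑ b ∈ s, |q (a - b)|,
    Finset.sum_nonneg fun _ _ => Finset.sum_nonneg fun _ _ => abs_nonneg _, fun a ha b hb hab => ?_⟩
  rw [hq _ (sub_ne_zero.2 hab), WithTop.coe_le_coe]
  refine (le_abs_self _).trans ?_
  exact (Finset.single_le_sum (f := fun b => |q (a - b)|) (fun _ _ => abs_nonneg _) hb).trans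
    (Finset.single_le_sum (f := fun a => ∑ b ∈ s, |q (a - b)|)
      (fun _ _ => Finset.sum_nonneg fun _ _ => abs_nonneg _) ha)

/-- The roots of a polynomial near a separable one. -/
theorem roots_near [IsAlgClosed Ω] {f : Ω[X]} (hf : f.Monic) (hs : f.Separable) (n : ℕ) (hn : f.natDegree = n)
    (c : ℚ) :
    ∃ N : ℕ, ∀ g : Ω[X], g.Monic → g.natDegree = n →
      (∀ i, ((N : ℚ) : WithTop ℚ) < v (f.coeff i - g.coeff i)) →
      g.Separable ∧ (∀ a ∈ f.roots, ∃ b ∈ g.roots, (c : WithTop ℚ) < v (a - b)) ∧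
        (∀ b ∈ g.roots, ∃ a ∈ f.roots, (c : WithTop ℚ) < v (a - b)) ∧
        ∀ b ∈ g.roots, ∀ b' ∈ g.roots, (c : WithTop ℚ) < v (b - b') → (∀ a ∈ f.roots, ∀ a' ∈ f.roots,
          a ≠ a' → v (a - a') ≤ (c : WithTop ℚ)) → b = b' := by
  classical
  obtain ⟨c₀, hc₀, hsep⟩ := exists_sep v f.roots.toFinset
  set c₁ := max c c₀
  have hN' : ∀ a : Ω, ∃ N : ℕ, ∀ g : Ω[X], g.natDegree = n →
      (∀ i, ((N : ℚ) : WithTop ℚ) < v (f.coeff i - g.coeff i)) →
      (((n : ℚ) * c₁ : ℚ) : WithTop ℚ) < v (f.eval a - g.eval a) := fun a => by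
    obtain ⟨N, hN⟩ := eval_near v a n ((n : ℚ) * c₁)
    exact ⟨N, fun g hg h => hN f g hn.le hg.le h⟩
  choose N hN using hN'
  refine ⟨f.roots.toFinset.sup N, fun g hg hgn hnear => ?_⟩
  have hfind : ∀ a ∈ f.roots, ∃ b ∈ g.roots, (c₁ : WithTop ℚ) < v (a - b) := by
    intro a ha
    refine exists_root_near v hg ?_
    rw [hgn]
    have h1 := hN a g hgn fun i => lt_of_le_of_lt (by
      rw [WithTop.coe_le_coe]
      exact_mod_cast Finset.le_sup (f := N) (Multiset.mem_toFinset.2 ha)) (hnear i)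
    rwa [(mem_roots hf.ne_zero).1 ha, zero_sub, v.map_neg] at h1
  choose! φ hφ hφv using hfind
  have hinj : Set.InjOn φ {a | a ∈ f.roots} := by
    intro a ha a' ha' heq
    by_contra hne
    have h1 : (c₁ : WithTop ℚ) < v (a - a') := v_sub_gt v (hφv a ha) (by
      rw [heq, v.map_sub_swap]; exact hφv a' ha')
    refine absurd (hsep a (Multiset.mem_toFinset.2 ha) a' (Multiset.mem_toFinset.2 ha') hne)
      (not_le.2 (lt_of_le_of_lt (WithTop.coe_le_coe.2 (le_max_right c c₀)) h1))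
  have hnodup : f.roots.Nodup := nodup_roots hs
  have hsub : f.roots.map φ ≤ g.roots := by
    rw [Multiset.le_iff_subset (hnodup.map_on fun a ha b hb h => hinj ha hb h)]
    intro b hb
    obtain ⟨a, ha, rfl⟩ := Multiset.mem_map.1 hb
    exact hφ a ha
  have heq : f.roots.map φ = g.roots := Multiset.eq_of_le_of_card_le hsub (by
    rw [Multiset.card_map, ← (IsAlgClosed.splits f).natDegree_eq_card_roots,
      ← (IsAlgClosed.splits g).natDegree_eq_card_roots, hn, hgn])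
  have hcc : (c : WithTop ℚ) ≤ (c₁ : WithTop ℚ) := WithTop.coe_le_coe.2 (le_max_left _ _)
  refine ⟨(nodup_roots_iff_of_splits hg.ne_zero (IsAlgClosed.splits g)).1
    (heq ▸ hnodup.map_on fun a ha b hb h => hinj ha hb h),
    fun a ha => ⟨φ a, hφ a ha, lt_of_le_of_lt hcc (hφv a ha)⟩, fun b hb => ?_,
    fun b hb b' hb' hbb hsepc => ?_⟩
  · rw [← heq, Multiset.mem_map] at hb
    obtain ⟨a, ha, rfl⟩ := hb
    exact ⟨a, ha, lt_of_le_of_lt hcc (hφv a ha)⟩
  · rw [← heq, Multiset.mem_map] at hb hb'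
    obtain ⟨a, ha, rfl⟩ := hb
    obtain ⟨a', ha', rfl⟩ := hb'
    by_contra hne
    have h1 : (c : WithTop ℚ) < v (a - a') :=
      v_sub_gt v (lt_of_le_of_lt hcc (hφv a ha)) (v_sub_gt v hbb (by
        rw [v.map_sub_swap]; exact lt_of_le_of_lt hcc (hφv a' ha')))
    exact absurd (hsepc a ha a' ha' fun h => hne (h ▸ rfl)) (not_le.2 h1)

/-- Krasner's lemma. -/
theorem krasner [IsAlgClosed Ω] {M : Subfield Ω} [Algebra.IsAlgebraic M Ω] {z y : Ω}
    (hz : IsSeparable M z) (hy : y ∈ M) {c : ℚ} (hzy : (c : WithTop ℚ) < v (z - y))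
    (hinv : ∀ σ : Ω ≃ₐ[M] Ω, v (σ (z - y)) = v (z - y))
    (hfar : ∀ σ : Ω ≃ₐ[M] Ω, σ z ≠ z → v (σ z - z) ≤ (c : WithTop ℚ)) : z ∈ M := by
  haveI : IsAlgClosure M Ω := ⟨inferInstance, inferInstance⟩
  have hall : ∀ r : Ω, aeval r (minpoly M z) = 0 → r = z := by
    intro r hr
    have hconj : IsConjRoot M z r := (isConjRoot_iff_aeval_eq_zero hz.isIntegral).2 hr
    obtain ⟨σ, rfl⟩ := (isConjRoot_iff_exists_algEquiv).1 hconj.symm
    by_contra hne
    have h1 : (c : WithTop ℚ) < v (σ z - y) := by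
      have h2 := hinv σ
      rw [map_sub, show σ y = y from σ.commutes ⟨y, hy⟩] at h2
      rw [h2]; exact hzy
    exact absurd (hfar σ hne) (not_le.2 (v_sub_gt v h1 (by rw [v.map_sub_swap]; exact hzy)))
  have hcard : ((minpoly M z).rootSet Ω).ncard ≤ 1 := by
    refine (Set.ncard_le_ncard (t := {z}) ?_ (Set.finite_singleton z)).trans (Set.ncard_singleton z).le
    intro r hr
    exact hall r (mem_rootSet.1 hr).2
  rw [← Nat.card_coe_set_eq, Nat.card_eq_fintype_card,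
    card_rootSet_eq_natDegree hz (IsAlgClosed.splits _)] at hcard
  have h1 : (minpoly M z).natDegree = 1 :=
    le_antisymm hcard (minpoly.natDegree_pos hz.isIntegral)
  obtain ⟨a, rfl⟩ := minpoly.natDegree_eq_one_iff.1 h1
  exact a.2

end Groth.Agent.Epp23
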