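import Groth.Agent.Epp23.PerfCore
import Groth.Agent.Cohen12.CohenExists
import Groth.Agent.Cohen12.CohenLift
import Groth.Agent.Cohen12.Finite
import Groth.Agent.Cohen12.Completion
import Groth.Agent.Cohen12.GeomRegular
import Groth.Agent.CAlg6.CompleteSurj
import Groth.Agent.CAlg5.Cohen
import Mathlib.RingTheory.DiscreteValuationRing.TFAE
import Mathlib.RingTheory.MvPowerSeries.NoZeroDivisors

/-!
# Weakly unramified models inside a complete discrete valuation ring
-/

set_option autoImplicit false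
set_option linter.style.haveILetI false
universe u

open IsLocalRing

namespace Groth.Agent.Epp23

/-- A model `A₀ → B₀ → C`. -/
structure BaseData (p : ℕ) [Fact p.Prime] (C : Type u) [CommRing C] [IsLocalRing C]
    [CharP (ResidueField C) p] (πA : C) where
  /-- the lower ring -/
  A₀ : Type u
  /-- the upper ring -/
  B₀ : Type u
  [iA : CommRing A₀]
  [dA : IsDomain A₀]
  [vA : IsDiscreteValuationRing A₀]
  [cA : IsAdicComplete (maximalIdeal A₀) A₀]
  [iB : CommRing B₀]
  [dB : IsDomain B₀]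
  [vB : IsDiscreteValuationRing B₀]
  [cB : IsAdicComplete (maximalIdeal B₀) B₀]
  /-- the lower map -/
  φ : A₀ →+* B₀
  /-- the upper map -/
  ψ : B₀ →+* C
  φloc : IsLocalHom φ
  ψloc : IsLocalHom ψ
  /-- the uniformizer -/
  ϖ : A₀
  ϖirr : Irreducible ϖ
  ϖB : Ideal.span {φ ϖ} = maximalIdeal B₀
  ϖC : ψ (φ ϖ) = πA ∨ ψ (φ ϖ) = (p : C)
  ϖC0 : ψ (φ ϖ) ≠ 0
  resB : Function.Surjective ((residue C).comp ψ)
  resA : ∀ x : ResidueField C, x ∈ perfCore p (ResidueField C) ↔ ∃ a, residue C (ψ (φ a)) = x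

attribute [instance] BaseData.iA BaseData.dA BaseData.vA BaseData.cA BaseData.iB BaseData.dB
  BaseData.vB BaseData.cB

theorem isLocalHom_to_quotient {R S : Type u} [CommRing R] [IsLocalRing R] [CommRing S]
    [Nontrivial S] (u : R →+* S) (h : ∀ x ∈ maximalIdeal R, u x = 0) : IsLocalHom u :=
  ⟨fun x hx => by
    by_contra hn
    rw [h x ((mem_maximalIdeal x).2 hn)] at hx
    exact not_isUnit_zero hx⟩

/-- A lift of a map of residue fields to complete rings, from a Cohen ring. -/
theorem exists_cohen_map {W C : Type u} [CommRing W] [IsLocalRing W] (hW : EGA41.IsCohenRingEGA W)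
    [CommRing C] [IsLocalRing C] [IsNoetherianRing C] [IsAdicComplete (maximalIdeal C) C]
    (g : ResidueField W →+* ResidueField C) :
    ∃ v : W →+* C, IsLocalHom v ∧ ∀ w, residue C (v w) = g (residue W w) := by
  haveI : IsLocalRing (C ⧸ maximalIdeal C) := inferInstanceAs (IsLocalRing (ResidueField C))
  let u : W →+* C ⧸ maximalIdeal C := g.comp (residue W)
  haveI : IsLocalHom u := isLocalHom_to_quotient u fun x hx => by
    show g (residue W x) = 0
    rw [(residue_eq_zero_iff x).2 hx, map_zero]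
  obtain ⟨v, hv, hvu⟩ := Cohen12.exists_lift_cohen hW (maximalIdeal C) u
  exact ⟨v, hv, fun w => RingHom.congr_fun hvu w⟩

/-- A Cohen ring of positive residue characteristic. -/
theorem cohen_dvr {W : Type u} [CommRing W] [IsLocalRing W] (hW : EGA41.IsCohenRingEGA W) (p : ℕ)
    [hcp : CharP (ResidueField W) p] (hp : p.Prime) :
    ∃ (_ : IsDomain W) (_ : IsDiscreteValuationRing W) (_ : IsAdicComplete (maximalIdeal W) W),
      CharZero W ∧ maximalIdeal W = Ideal.span {(p : W)} := by
  obtain ⟨hN, hc, hd, h0, q, hq, hm⟩ := Cohen12.cohen_struct hW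
  haveI := hd
  obtain rfl : q = p := CharP.eq (ResidueField W) hq hcp
  haveI : CharZero W := h0
  obtain ⟨_, hdvr⟩ := Cohen12.isDVR_of_maximalIdeal_eq_span (q : W) hm
    (mem_nonZeroDivisors_of_ne_zero (by exact_mod_cast hp.ne_zero))
  exact ⟨hd, hdvr, hc, h0, hm⟩

variable (p : ℕ) [hp : Fact p.Prime] (C : Type u) [CommRing C] [IsDomain C] [IsDiscreteValuationRing C]
  [IsAdicComplete (maximalIdeal C) C] [CharP (ResidueField C) p]

theorem exists_baseData_mixed (πA : C) (hp0 : (p : C) ≠ 0) : Nonempty (BaseData p C πA) := by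
  haveI : CharP (perfCore p (ResidueField C)) p :=
    ((perfCore p (ResidueField C)).subtype).charP (perfCore p (ResidueField C)).subtype_injective p
  obtain ⟨W, iW, lW, eW, hW⟩ := Cohen12.exists_cohenRing (ResidueField C)
  obtain ⟨W', iW', lW', eW', hW'⟩ := Cohen12.exists_cohenRing.{u} (perfCore p (ResidueField C))
  letI := iW; letI := iW'; haveI := lW; haveI := lW'
  haveI : CharP (ResidueField W) p := eW.symm.toRingHom.charP_iff eW.symm.injective p |>.1 inferInstance
  haveI : CharP (ResidueField W') p := eW'.symm.toRingHom.charP_iff eW'.symm.injective p |>.1 inferInstance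
  obtain ⟨_, _, _, hW0, hWm⟩ := cohen_dvr hW p hp.out
  obtain ⟨_, _, _, hW'0, hW'm⟩ := cohen_dvr hW' p hp.out
  obtain ⟨φ, hφl, hφ⟩ := exists_cohen_map hW' (C := W)
    (eW.symm.toRingHom.comp ((perfCore p (ResidueField C)).subtype.comp eW'.toRingHom))
  obtain ⟨ψ, hψl, hψ⟩ := exists_cohen_map hW (C := C) eW.toRingHom
  refine ⟨{ A₀ := W', B₀ := W, φ := φ, ψ := ψ, φloc := hφl, ψloc := hψl, ϖ := (p : W')
            ϖirr := (IsDiscreteValuationRing.irreducible_iff_uniformizer _).2 hW'm
            ϖB := by rw [map_natCast]; exact hWm.symm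
            ϖC := Or.inr (by rw [map_natCast, map_natCast])
            ϖC0 := by rw [map_natCast, map_natCast]; exact hp0
            resB := fun x => ?_
            resA := fun x => ?_ }⟩
  · obtain ⟨w, hw⟩ := residue_surjective (eW.symm x)
    exact ⟨w, by rw [RingHom.comp_apply, hψ, hw]; exact eW.apply_symm_apply x⟩
  · constructor
    · intro hx
      obtain ⟨a, ha⟩ := residue_surjective (eW'.symm ⟨x, hx⟩)
      refine ⟨a, ?_⟩
      rw [hψ, hφ, ha]
      simp
    · rintro ⟨a, rfl⟩
      rw [hψ, hφ]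
      simp

theorem exists_baseData_equal (πA : C) (hπ : πA ∈ maximalIdeal C) (hπ0 : πA ≠ 0) (hp0 : (p : C) = 0) :
    Nonempty (BaseData p C πA) := by
  obtain ⟨σ, hσ⟩ := Cohen12.exists_coefficientField C p hp0
  let k' := perfCore p (ResidueField C)
  let B₀ := MvPowerSeries (Fin 1) (ResidueField C)
  let A₀ := MvPowerSeries (Fin 1) k'
  obtain ⟨ψ, hψC, hψX⟩ := LA18.exists_powerSeries_hom (maximalIdeal C) σ (fun _ : Fin 1 => πA)
    fun _ => hπ
  let φ : A₀ →+* B₀ := MvPowerSeries.map k'.subtype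
  have dvr : ∀ (k : Type u) [Field k], ∃ (_ : IsDomain (MvPowerSeries (Fin 1) k)) (_ : IsDiscreteValuationRing (MvPowerSeries (Fin 1) k))
      (_ : IsAdicComplete (maximalIdeal (MvPowerSeries (Fin 1) k)) (MvPowerSeries (Fin 1) k)),
      maximalIdeal (MvPowerSeries (Fin 1) k) = Ideal.span {MvPowerSeries.X 0} := by
    intro k _
    haveI : IsDomain (MvPowerSeries (Fin 1) k) := NoZeroDivisors.to_isDomain _
    haveI : IsRegularLocalRing (MvPowerSeries (Fin 1) k) := CAlg6.isRegularLocalRing_mvPowerSeries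
    have hm : maximalIdeal (MvPowerSeries (Fin 1) k) = Ideal.span {MvPowerSeries.X 0} := by
      rw [CAlg6.maximalIdeal_eq_span_X]
      congr 1
      ext f
      simp [Fin.exists_fin_one, eq_comm]
    obtain ⟨_, h⟩ := Cohen12.isDVR_of_maximalIdeal_eq_span (MvPowerSeries.X (0 : Fin 1) :
      MvPowerSeries (Fin 1) k) hm (mem_nonZeroDivisors_of_ne_zero fun h => by
        have h1 := congrArg (MvPowerSeries.coeff (Finsupp.single (0 : Fin 1) 1)) h
        rw [MvPowerSeries.coeff_index_single_self_X, map_zero] at h1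
        exact one_ne_zero h1)
    exact ⟨inferInstance, h, CAlg6.isAdicComplete_maximalIdeal, hm⟩
  obtain ⟨_, _, _, hmB⟩ := dvr (ResidueField C)
  obtain ⟨_, _, _, hmA⟩ := dvr k'
  have hφX : φ (MvPowerSeries.X 0) = MvPowerSeries.X 0 := MvPowerSeries.map_X _ _
  have hψloc : IsLocalHom ψ := ((local_hom_TFAE ψ).out 2 0).mp (by
    rw [hmB, Ideal.map_span, Set.image_singleton, hψX, Ideal.span_singleton_le_iff_mem]
    exact hπ)
  have hφloc : IsLocalHom φ := ((local_hom_TFAE φ).out 2 0).mp (by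
    rw [hmA, Ideal.map_span, Set.image_singleton, hφX, hmB])
  refine ⟨{ A₀ := A₀, B₀ := B₀, φ := φ, ψ := ψ, φloc := hφloc, ψloc := hψloc, ϖ := MvPowerSeries.X 0
            ϖirr := (IsDiscreteValuationRing.irreducible_iff_uniformizer _).2 hmA
            ϖB := by rw [hφX]; exact hmB.symm
            ϖC := Or.inl (by rw [hφX, hψX])
            ϖC0 := by rw [hφX, hψX]; exact hπ0
            resB := fun x => ⟨MvPowerSeries.C x, by rw [RingHom.comp_apply, hψC, hσ]⟩
            resA := fun x => ?_ }⟩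
  constructor
  · intro hx
    refine ⟨MvPowerSeries.C ⟨x, hx⟩, ?_⟩
    rw [show φ (MvPowerSeries.C ⟨x, hx⟩) = MvPowerSeries.C x from MvPowerSeries.map_C _ _, hψC, hσ]
  · rintro ⟨a, rfl⟩
    have hdec : a - MvPowerSeries.C (MvPowerSeries.constantCoeff a) ∈ maximalIdeal A₀ :=
      CAlg6.mem_maximalIdeal_iff.2 (by simp)
    have h : residue C (ψ (φ (a - MvPowerSeries.C (MvPowerSeries.constantCoeff a)))) = 0 :=
      (residue_eq_zero_iff _).2 (map_nonunit ψ _ (map_nonunit φ _ hdec))
    rw [map_sub, map_sub, map_sub, sub_eq_zero] at h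
    rw [h, show φ (MvPowerSeries.C (MvPowerSeries.constantCoeff a)) =
      MvPowerSeries.C ((MvPowerSeries.constantCoeff a : k') : ResidueField C) from MvPowerSeries.map_C _ _,
      hψC, hσ]
    exact (MvPowerSeries.constantCoeff a).2

theorem exists_baseData (πA : C) (hπ : πA ∈ maximalIdeal C) (hπ0 : πA ≠ 0) :
    Nonempty (BaseData p C πA) := by
  by_cases h : (p : C) = 0
  · exact exists_baseData_equal p C πA hπ hπ0 h
  · exact exists_baseData_mixed p C πA h

variable {p C}

theorem isSepClosed_of_ringEquiv {k k' : Type u} [Field k] [Field k'] (e : k ≃+* k') [IsSepClosed k] :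
    IsSepClosed k' := by
  refine IsSepClosed.of_exists_root k' fun P hm hirr hsep => ?_
  obtain ⟨x, hx⟩ := IsSepClosed.exists_root (P.map e.symm.toRingHom)
    (by rw [Polynomial.degree_map]; exact (Polynomial.degree_pos_of_irreducible hirr).ne')
    hsep.map
  refine ⟨e x, ?_⟩
  rw [Polynomial.IsRoot, Polynomial.eval_map] at hx
  have h := congrArg e hx
  rw [map_zero, show e (Polynomial.eval₂ e.symm.toRingHom x P) = e.toRingHom _ from rfl,
    Polynomial.hom_eval₂, show e.toRingHom.comp e.symm.toRingHom = RingHom.id k' from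
      RingHom.ext fun y => e.apply_symm_apply y] at h
  exact h

namespace BaseData

variable {πA : C} (D : BaseData p C πA)

theorem ψ_injective : Function.Injective D.ψ := by
  rw [injective_iff_map_eq_zero]
  intro b hb
  by_contra hb0
  have hirr : Irreducible (D.φ D.ϖ) :=
    (IsDiscreteValuationRing.irreducible_iff_uniformizer _).2 D.ϖB.symm
  obtain ⟨n, v, rfl⟩ := IsDiscreteValuationRing.eq_unit_mul_pow_irreducible hb0 hirr
  rw [map_mul, map_pow, mul_eq_zero] at hb
  exact hb.elim (v.isUnit.map D.ψ).ne_zero (pow_ne_zero _ D.ϖC0)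

theorem φ_injective : Function.Injective D.φ := by
  rw [injective_iff_map_eq_zero]
  intro b hb
  by_contra hb0
  obtain ⟨n, v, rfl⟩ := IsDiscreteValuationRing.eq_unit_mul_pow_irreducible hb0 D.ϖirr
  rw [map_mul, map_pow, mul_eq_zero] at hb
  exact hb.elim (v.isUnit.map D.φ).ne_zero (pow_ne_zero _ fun h => D.ϖC0 (by rw [h, map_zero]))

theorem map_maximalIdeal : (maximalIdeal D.A₀).map D.φ = maximalIdeal D.B₀ := by
  rw [(IsDiscreteValuationRing.irreducible_iff_uniformizer _).1 D.ϖirr, Ideal.map_span,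
    Set.image_singleton, D.ϖB]

theorem residue_props [IsSepClosed (ResidueField C)] :
    letI := D.φloc
    IsAlgClosed (ResidueField D.A₀) ∧ IsSepClosed (ResidueField D.B₀) ∧
      CharP (ResidueField D.B₀) p ∧ ∀ x : ResidueField D.B₀, (∀ n : ℕ, ∃ y, y ^ p ^ n = x) →
        x ∈ Set.range (ResidueField.map D.φ) := by
  haveI := D.φloc
  haveI := D.ψloc
  let ρ := ResidueField.map D.ψ
  have hρ : Function.Bijective ρ := ⟨ρ.injective, fun x => by
    obtain ⟨b, hb⟩ := D.resB x
    exact ⟨residue _ b, hb⟩⟩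
  let e := RingEquiv.ofBijective ρ hρ
  let ρA : ResidueField D.A₀ →+* perfCore p (ResidueField C) :=
    (ρ.comp (ResidueField.map D.φ)).codRestrict _ fun z => by
      obtain ⟨a, rfl⟩ := residue_surjective z
      exact (D.resA _).2 ⟨a, rfl⟩
  have hρA : Function.Bijective ρA := ⟨ρA.injective, fun x => by
    obtain ⟨a, ha⟩ := (D.resA _).1 x.2
    exact ⟨residue _ a, Subtype.ext ha⟩⟩
  haveI := isAlgClosed_perfCore p (ResidueField C)
  refine ⟨IsAlgClosed.of_ringEquiv _ _ (RingEquiv.ofBijective ρA hρA).symm,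
    isSepClosed_of_ringEquiv e.symm, (ρ.charP_iff ρ.injective p).2 inferInstance, fun x hx => ?_⟩
  obtain ⟨z, hz⟩ := hρA.2 ⟨ρ x, (mem_perfCore p _).2 fun n => by
    obtain ⟨y, hy⟩ := hx n
    exact ⟨ρ y, by rw [← map_pow, hy]⟩⟩
  exact ⟨z, ρ.injective (congrArg Subtype.val hz)⟩

theorem finite : letI := D.ψ.toAlgebra; Module.Finite D.B₀ C := by
  letI := D.ψ.toAlgebra
  haveI := D.ψloc
  refine Cohen12.finite_of_residue (R := D.B₀) (B := C) (maximalIdeal D.B₀)
    (Ideal.map_le_iff_le_comap.2 fun x hx => map_nonunit D.ψ x hx) {1} (fun b => ?_) ?_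
  · obtain ⟨x, hx⟩ := D.resB (residue C b)
    refine ⟨D.ψ x, ?_, ?_⟩
    · rw [Finset.coe_singleton, Submodule.mem_span_singleton]
      exact ⟨x, by rw [Algebra.smul_def, mul_one]; rfl⟩
    · rw [← residue_eq_zero_iff, map_sub, sub_eq_zero]
      exact hx.symm
  · obtain ⟨w, hw⟩ := IsDiscreteValuationRing.exists_irreducible C
    obtain ⟨n, v, hn⟩ := IsDiscreteValuationRing.eq_unit_mul_pow_irreducible D.ϖC0 hw
    refine ⟨n, ?_⟩
    rw [(IsDiscreteValuationRing.irreducible_iff_uniformizer _).1 hw, Ideal.span_singleton_pow,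
      ← D.ϖB, Ideal.map_span, Set.image_singleton]
    refine (le_of_eq ?_)
    rw [Ideal.span_singleton_eq_span_singleton]
    exact ⟨v, by rw [mul_comm]; exact hn.symm⟩

end BaseData

end Groth.Agent.Epp23
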