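import Groth.Agent.WE91.LocalIntegral
import Groth.Agent.EtAlg23.HenselBasic
import Groth.Agent.Ram24.Nagata
import Groth.Agent.S0568
import Mathlib.RingTheory.DiscreteValuationRing.TFAE
import Mathlib.RingTheory.Valuation.Basic
import Mathlib.RingTheory.IntegralClosure.IntegrallyClosed
import Mathlib.RingTheory.AdicCompletion.Basic
import Mathlib.FieldTheory.IntermediateField.Adjoin.Algebra

/-!
# The valuation on an algebraic extension of a complete discretely valued field
-/

set_option autoImplicit false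
set_option linter.style.haveILetI false
universe u

open IsLocalRing

namespace Groth.Agent.Epp23

section Finite

variable (A K F : Type u) [CommRing A] [IsDomain A] [IsDiscreteValuationRing A]
  [IsAdicComplete (maximalIdeal A) A] [Field K] [Algebra A K] [IsFractionRing A K]
  [Field F] [Algebra K F] [Algebra A F] [IsScalarTower A K F] [FiniteDimensional K F]

include K in
theorem finite_integralClosure : Module.Finite A (integralClosure A F) :=
  Ram24.finite_integralClosure_of_isNagata A K F (Groth.Agent.S0568.result A)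

include K in
theorem dvr_integralClosure : IsDiscreteValuationRing (integralClosure A F) := by
  haveI := finite_integralClosure A K F
  haveI : HenselianLocalRing A := EtAlg23.henselianLocalRing_of_henselianRing A
  haveI : IsLocalRing (integralClosure A F) := WE91.isLocalRing_of_isIntegral_of_isDomain A _
  have hinj : Function.Injective (algebraMap A (integralClosure A F)) := fun a b h =>
    IsFractionRing.injective A K ((algebraMap K F).injective (by
      rw [← IsScalarTower.algebraMap_apply, ← IsScalarTower.algebraMap_apply]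
      exact congrArg Subtype.val h))
  haveI : IsNoetherianRing (integralClosure A F) :=
    IsNoetherianRing.of_finite A (integralClosure A F)
  have hnf : ¬ IsField (integralClosure A F) := fun hf =>
    IsDiscreteValuationRing.not_isField A
      ((Algebra.IsIntegral.isField_iff_isField hinj).2 hf)
  haveI : IsIntegrallyClosed (integralClosure A F) :=
    integralClosure.isIntegrallyClosedOfFiniteExtension K
  haveI : IsDedekindDomain (integralClosure A F) := { }
  have h := (IsDiscreteValuationRing.TFAE (integralClosure A F) hnf).out 0 2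
  exact h.2 inferInstance

include K in
theorem isIntegral_or_inv (x : F) : IsIntegral A x ∨ IsIntegral A x⁻¹ := by
  haveI := dvr_integralClosure A K F
  haveI : IsFractionRing (integralClosure A F) F :=
    integralClosure.isFractionRing_of_finite_extension K F
  obtain ⟨a, b, -, rfl⟩ := IsFractionRing.div_surjective (A := integralClosure A F) x
  rcases ValuationRing.dvd_total b a with ⟨c, rfl⟩ | ⟨c, rfl⟩
  · rcases eq_or_ne (algebraMap _ F b) 0 with h | h
    · exact Or.inl (by rw [h, div_zero]; exact isIntegral_zero)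
    · exact Or.inl (by rw [map_mul, mul_div_cancel_left₀ _ h]; exact c.2)
  · rcases eq_or_ne (algebraMap _ F a) 0 with h | h
    · exact Or.inl (by rw [h, zero_div]; exact isIntegral_zero)
    · exact Or.inr (by rw [inv_div, map_mul, mul_div_cancel_left₀ _ h]; exact c.2)

end Finite

section Valuation

variable (B L Ω : Type u) [CommRing B] [IsDomain B] [IsDiscreteValuationRing B]
  [IsAdicComplete (maximalIdeal B) B] [Field L] [Algebra B L] [IsFractionRing B L]
  [Field Ω] [Algebra L Ω] [Algebra B Ω] [IsScalarTower B L Ω] [Algebra.IsAlgebraic L Ω]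

include L in
theorem isIntegral_or_inv_alg (x : Ω) : IsIntegral B x ∨ IsIntegral B x⁻¹ := by
  let F := IntermediateField.adjoin L ({x} : Set Ω)
  haveI : FiniteDimensional L F :=
    IntermediateField.adjoin.finiteDimensional (Algebra.IsIntegral.isIntegral x)
  haveI : IsScalarTower B F Ω := .of_algebraMap_eq fun b => rfl
  have h := isIntegral_or_inv B L F (⟨x, IntermediateField.mem_adjoin_simple_self L x⟩ : F)
  exact h.imp (fun h => h.map (IsScalarTower.toAlgHom B F Ω))
    (fun h => by simpa using h.map (IsScalarTower.toAlgHom B F Ω))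

/-- The units of the valuation ring. -/
def unitGrp : Subgroup Ωˣ where
  carrier := {u | IsIntegral B (u : Ω) ∧ IsIntegral B ((u⁻¹ : Ωˣ) : Ω)}
  one_mem' := ⟨isIntegral_one, by simpa using isIntegral_one (R := B) (B := Ω)⟩
  mul_mem' {a b} ha hb := ⟨by simpa using ha.1.mul hb.1,
    by simpa [mul_comm] using ha.2.mul hb.2⟩
  inv_mem' {a} ha := ⟨ha.2, by simpa using ha.1⟩

variable {B L Ω}

include L in
theorem pi_inv_not_integral {π : B} (hπ : Irreducible π) :
    ¬ IsIntegral B (algebraMap B Ω π)⁻¹ := by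
  intro h
  have hinj : Function.Injective (algebraMap L Ω) := (algebraMap L Ω).injective
  rw [IsScalarTower.algebraMap_apply B L Ω, ← map_inv₀,
    isIntegral_algebraMap_iff hinj] at h
  obtain ⟨b, hb⟩ := IsIntegrallyClosed.algebraMap_eq_of_integral h
  refine hπ.not_isUnit (IsUnit.of_mul_eq_one b (IsFractionRing.injective B L ?_))
  rw [map_mul, hb, map_one, mul_inv_cancel₀]
  exact (map_ne_zero_iff _ (IsFractionRing.injective B L)).2 hπ.ne_zero

include L in
theorem zpow_mem_unitGrp {π : B} (hπ : Irreducible π) (P : Ωˣ) (hP : (P : Ω) = algebraMap B Ω π)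
    {n : ℤ} (h : P ^ n ∈ unitGrp B Ω) : n = 0 := by
  by_contra hn
  have key : ∀ m : ℕ, 0 < m → P ^ m ∈ unitGrp B Ω → False := by
    intro m hm hmem
    refine pi_inv_not_integral (L := L) hπ (Ω := Ω) ?_
    refine IsIntegral.of_pow hm ?_
    have := hmem.2
    rwa [Units.val_inv_eq_inv_val, Units.val_pow_eq_pow_val, hP, ← inv_pow] at this
  rcases n with n | n
  · rw [Int.ofNat_eq_natCast, zpow_natCast] at h
    exact key n (Nat.pos_of_ne_zero fun h0 => hn (by simp [h0])) h
  · rw [zpow_negSucc] at h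
    exact key (n + 1) n.succ_pos ((Subgroup.inv_mem_iff _).1 h)

include L in
theorem exists_val_rel {π : B} (hπ : Irreducible π) (P : Ωˣ) (hP : (P : Ω) = algebraMap B Ω π)
    (x : Ωˣ) : ∃ (a : ℤ) (b : ℕ), 0 < b ∧ x ^ b * (P ^ a)⁻¹ ∈ unitGrp B Ω := by
  let F := IntermediateField.adjoin L ({(x : Ω)} : Set Ω)
  haveI : FiniteDimensional L F :=
    IntermediateField.adjoin.finiteDimensional (Algebra.IsIntegral.isIntegral _)
  haveI : IsScalarTower B F Ω := .of_algebraMap_eq fun b => rfl
  haveI := dvr_integralClosure B L F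
  haveI := finite_integralClosure B L F
  haveI : IsFractionRing (integralClosure B F) F :=
    integralClosure.isFractionRing_of_finite_extension L F
  obtain ⟨ϖ, hϖ⟩ := IsDiscreteValuationRing.exists_irreducible (integralClosure B F)
  have hϖF : algebraMap (integralClosure B F) F ϖ ≠ 0 :=
    (map_ne_zero_iff _ (IsFractionRing.injective _ F)).2 hϖ.ne_zero
  let R : Ωˣ := Units.mk0 ((algebraMap (integralClosure B F) F ϖ : F) : Ω)
    (fun h => hϖF (Subtype.ext h))
  have hint : ∀ c : integralClosure B F, IsIntegral B (((algebraMap _ F c : F)) : Ω) :=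
    fun c => c.2.map (IsScalarTower.toAlgHom B F Ω)
  -- units of the closure
  have hunit : ∀ (u : (integralClosure B F)ˣ) (U : Ωˣ),
      (U : Ω) = ((algebraMap _ F (u : integralClosure B F) : F) : Ω) → U ∈ unitGrp B Ω := by
    intro u U hU
    refine ⟨hU ▸ hint _, ?_⟩
    rw [Units.val_inv_eq_inv_val, hU,
      show (((algebraMap _ F (u : integralClosure B F) : F)) : Ω)⁻¹ =
        ((algebraMap _ F ((u⁻¹ : (integralClosure B F)ˣ) : integralClosure B F) : F) : Ω) by
        refine inv_eq_of_mul_eq_one_right ?_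
        show (((algebraMap _ F (u : integralClosure B F)) *
          (algebraMap _ F ((u⁻¹ : (integralClosure B F)ˣ) : integralClosure B F)) : F) : Ω) = _
        rw [← map_mul, u.mul_inv, map_one]
        rfl]
    exact hint _
  have key : ∀ y : F, y ≠ 0 → ∀ Y : Ωˣ, (Y : Ω) = y → ∃ n : ℤ, Y * (R ^ n)⁻¹ ∈ unitGrp B Ω := by
    intro y hy Y hY
    obtain ⟨a, b, hb, rfl⟩ := IsFractionRing.div_surjective (A := integralClosure B F) y
    have hb0 : b ≠ 0 := nonZeroDivisors.ne_zero hb
    have ha0 : a ≠ 0 := fun h => hy (by rw [h, map_zero, zero_div])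
    obtain ⟨i, ua, rfl⟩ := IsDiscreteValuationRing.eq_unit_mul_pow_irreducible ha0 hϖ
    obtain ⟨j, ub, rfl⟩ := IsDiscreteValuationRing.eq_unit_mul_pow_irreducible hb0 hϖ
    refine ⟨(i : ℤ) - j, hunit (ua * ub⁻¹) _ ?_⟩
    have hub : algebraMap _ F (ub : integralClosure B F) ≠ 0 := (ub.isUnit.map _).ne_zero
    have e : (algebraMap _ F ((ua : integralClosure B F) * ϖ ^ i) /
        algebraMap _ F ((ub : integralClosure B F) * ϖ ^ j)) *
        (algebraMap (integralClosure B F) F ϖ ^ ((i : ℤ) - j))⁻¹ =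
        algebraMap _ F ((ua * ub⁻¹ : (integralClosure B F)ˣ) : integralClosure B F) := by
      have h1 : algebraMap _ F ((ub⁻¹ : (integralClosure B F)ˣ) : integralClosure B F) *
          algebraMap _ F (ub : integralClosure B F) = 1 := by rw [← map_mul, ub.inv_mul, map_one]
      rw [Units.val_mul, map_mul, map_mul, map_mul, map_pow, map_pow, zpow_sub₀ hϖF, zpow_natCast,
        zpow_natCast, eq_inv_of_mul_eq_one_left h1]
      field_simp
    rw [Units.val_mul, hY, Units.val_inv_eq_inv_val, Units.val_zpow_eq_zpow_val, Units.val_mk0, ← e]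
    push_cast
    rfl
  have hπF : algebraMap B F π ≠ 0 := fun h => by
    have := congrArg (algebraMap F Ω) h
    rw [← IsScalarTower.algebraMap_apply, map_zero, ← hP] at this
    exact P.ne_zero this
  obtain ⟨e, he⟩ := key _ hπF P (hP.trans (IsScalarTower.algebraMap_apply B F Ω π))
  obtain ⟨n, hn⟩ := key ⟨x, IntermediateField.mem_adjoin_simple_self L _⟩
    (fun h => x.ne_zero (congrArg Subtype.val h)) x rfl
  have he0 : e ≠ 0 := fun h => by
    rw [h, zpow_zero, inv_one, mul_one] at he
    exact one_ne_zero (zpow_mem_unitGrp (L := L) hπ P hP (n := 1) (by rwa [zpow_one]))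
  -- `x ^ e` against `P ^ n`
  have hmem : x ^ e * (P ^ n)⁻¹ ∈ unitGrp B Ω := by
    have h1 := Subgroup.mul_mem _ (Subgroup.zpow_mem _ hn e) (Subgroup.inv_mem _ (Subgroup.zpow_mem _ he n))
    have e1 : x ^ e * (P ^ n)⁻¹ = (x * (R ^ n)⁻¹) ^ e * ((P * (R ^ e)⁻¹) ^ n)⁻¹ := by
      rw [mul_zpow, mul_zpow, inv_zpow, inv_zpow, ← zpow_mul, ← zpow_mul, mul_inv, inv_inv,
        mul_comm n e, mul_mul_mul_comm, inv_mul_cancel, mul_one]
    rw [e1]
    exact h1
  rcases Int.natAbs_eq e with h | h
  · refine ⟨n, e.natAbs, Int.natAbs_pos.2 he0, ?_⟩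
    rw [← zpow_natCast, ← h]
    exact hmem
  · refine ⟨-n, e.natAbs, Int.natAbs_pos.2 he0, ?_⟩
    have h1 := Subgroup.inv_mem _ hmem
    rw [h, zpow_neg, zpow_natCast, mul_inv, inv_inv, inv_inv] at h1
    rw [zpow_neg, inv_inv]
    exact h1

include L in
theorem val_rel_unique {π : B} (hπ : Irreducible π) (P : Ωˣ) (hP : (P : Ω) = algebraMap B Ω π)
    {x : Ωˣ} {a a' : ℤ} {b b' : ℕ} (hb : 0 < b) (hb' : 0 < b')
    (h : x ^ b * (P ^ a)⁻¹ ∈ unitGrp B Ω) (h' : x ^ b' * (P ^ a')⁻¹ ∈ unitGrp B Ω) :
    (a : ℚ) / b = (a' : ℚ) / b' := by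
  have h1 := Subgroup.mul_mem _ (Subgroup.inv_mem _ (Subgroup.pow_mem _ h b'))
    (Subgroup.pow_mem _ h' b)
  have e1 : ((x ^ b * (P ^ a)⁻¹) ^ b')⁻¹ * (x ^ b' * (P ^ a')⁻¹) ^ b =
      P ^ (a * b' - a' * b) := by
    rw [mul_pow, mul_pow, ← pow_mul, ← pow_mul, mul_comm b' b, mul_inv, inv_pow, inv_pow, inv_inv,
      ← zpow_natCast (P ^ a), ← zpow_natCast (P ^ a'), ← zpow_mul, ← zpow_mul, zpow_sub]
    rw [mul_mul_mul_comm, inv_mul_cancel, one_mul]
  rw [e1] at h1
  have h2 := zpow_mem_unitGrp (L := L) hπ P hP h1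
  rw [div_eq_div_iff (by positivity) (by positivity)]
  exact_mod_cast sub_eq_zero.1 h2

variable (B L Ω)

include L in
/-- The valuation on `Ω`, normalized on `B`, whose ring is the integral closure of `B`. -/
theorem exists_valuation {π : B} (hπ : Irreducible π) :
    ∃ v : AddValuation Ω (WithTop ℚ), v (algebraMap B Ω π) = ((1 : ℚ) : WithTop ℚ) ∧
      ∀ x, 0 ≤ v x ↔ IsIntegral B x := by
  classical
  have hπ0 : algebraMap B Ω π ≠ 0 := by
    rw [IsScalarTower.algebraMap_apply B L Ω, Ne, map_eq_zero, map_eq_zero_iff _ (IsFractionRing.injective B L)]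
    exact hπ.ne_zero
  let P : Ωˣ := Units.mk0 _ hπ0
  have hP : (P : Ω) = algebraMap B Ω π := rfl
  choose num den hden hrel using fun x : Ωˣ => exists_val_rel (L := L) hπ P hP x
  let w : Ωˣ → ℚ := fun x => (num x : ℚ) / den x
  have huniq : ∀ (x : Ωˣ) (a : ℤ) (b : ℕ), 0 < b → x ^ b * (P ^ a)⁻¹ ∈ unitGrp B Ω →
      w x = (a : ℚ) / b :=
    fun x a b hb h => val_rel_unique (L := L) hπ P hP (hden x) hb (hrel x) h
  have hmul : ∀ x y, w (x * y) = w x + w y := by
    intro x y
    rw [huniq (x * y) (num x * den y + num y * den x) (den x * den y) (Nat.mul_pos (hden x) (hden y)) ?_]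
    · have hx' : (den x : ℚ) ≠ 0 := by exact_mod_cast (hden x).ne'
      have hy' : (den y : ℚ) ≠ 0 := by exact_mod_cast (hden y).ne'
      show _ = (num x : ℚ) / den x + (num y : ℚ) / den y
      push_cast
      field_simp
    · have h1 := Subgroup.mul_mem _ (Subgroup.pow_mem _ (hrel x) (den y)) (Subgroup.pow_mem _ (hrel y) (den x))
      rw [mul_pow, mul_pow, ← pow_mul, ← pow_mul, mul_comm (den y) (den x), inv_pow, inv_pow,
        ← zpow_natCast (P ^ num x), ← zpow_natCast (P ^ num y), ← zpow_mul, ← zpow_mul,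
        mul_mul_mul_comm, ← mul_inv, ← zpow_add, ← mul_pow] at h1
      exact h1
  have hint : ∀ x : Ωˣ, 0 ≤ w x ↔ IsIntegral B (x : Ω) := by
    intro x
    have hd : (0 : ℚ) < den x := by exact_mod_cast hden x
    constructor
    · intro h
      have hn : 0 ≤ num x := by
        by_contra hneg
        have : (num x : ℚ) < 0 := by exact_mod_cast not_le.1 hneg
        exact absurd h (not_le.2 (div_neg_of_neg_of_pos this hd))
      obtain ⟨n, hn'⟩ := Int.eq_ofNat_of_zero_le hn
      refine IsIntegral.of_pow (hden x) ?_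
      have h1 := (hrel x).1
      have h2 : IsIntegral B ((P : Ω) ^ n) := (hP ▸ isIntegral_algebraMap).pow n
      have h3 := h1.mul h2
      rw [hn', zpow_natCast, Units.val_mul, Units.val_inv_eq_inv_val, Units.val_pow_eq_pow_val,
        Units.val_pow_eq_pow_val, inv_mul_cancel_right₀ (pow_ne_zero _ P.ne_zero)] at h3
      exact h3
    · intro h
      by_contra hneg
      rw [not_le] at hneg
      have hn : num x < 0 := by
        by_contra hpos
        have : (0 : ℚ) ≤ num x := by exact_mod_cast not_lt.1 hpos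
        exact absurd hneg (not_lt.2 (div_nonneg this hd.le))
      obtain ⟨n, hn'⟩ : ∃ n : ℕ, num x = -((n + 1 : ℕ) : ℤ) := ⟨(-num x).toNat - 1, by omega⟩
      refine pi_inv_not_integral (L := L) (Ω := Ω) hπ (IsIntegral.of_pow n.succ_pos ?_)
      have h1 := (hrel x).2
      have h3 := (h.pow (den x)).mul h1
      rw [hn', zpow_neg, zpow_natCast, inv_inv, mul_inv, Units.val_mul, Units.val_inv_eq_inv_val,
        Units.val_inv_eq_inv_val, Units.val_pow_eq_pow_val, Units.val_pow_eq_pow_val, ← mul_assoc,
        mul_inv_cancel₀ (pow_ne_zero _ x.ne_zero), one_mul, ← inv_pow, hP] at h3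
      exact h3
  let f : Ω → WithTop ℚ := fun x => if h : x = 0 then ⊤ else ((w (Units.mk0 x h) : ℚ) : WithTop ℚ)
  have hw1 : w 1 = 0 := by
    have := hmul 1 1
    rw [one_mul] at this
    linarith
  have hf : ∀ x (h : x ≠ 0), f x = ((w (Units.mk0 x h) : ℚ) : WithTop ℚ) := fun x h => dif_neg h
  have hfmul : ∀ x y, f (x * y) = f x + f y := by
    intro x y
    rcases eq_or_ne x 0 with rfl | hx
    · simp [f]
    rcases eq_or_ne y 0 with rfl | hy
    · simp [f]
    rw [hf _ (mul_ne_zero hx hy), hf x hx, hf y hy, ← WithTop.coe_add, ← hmul, Units.mk0_mul]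
  have hfint : ∀ x, 0 ≤ f x ↔ IsIntegral B x := by
    intro x
    rcases eq_or_ne x 0 with rfl | hx
    · simp [f, isIntegral_zero]
    rw [hf x hx, ← WithTop.coe_zero, WithTop.coe_le_coe]
    exact hint (Units.mk0 x hx)
  have hfadd : ∀ x y, min (f x) (f y) ≤ f (x + y) := by
    suffices key : ∀ x y, f x ≤ f y → f x ≤ f (x + y) by
      intro x y
      rcases le_total (f x) (f y) with h | h
      · exact (min_le_left _ _).trans (key x y h)
      · exact (min_le_right _ _).trans (add_comm x y ▸ key y x h)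
    intro x y hxy
    rcases eq_or_ne x 0 with rfl | hx
    · rw [zero_add]; exact hxy
    have e : x + y = x * (1 + y / x) := by field_simp
    rw [e, hfmul]
    refine le_add_of_nonneg_right ((hfint _).2 (isIntegral_one.add ((hfint _).1 ?_)))
    rcases eq_or_ne y 0 with rfl | hy
    · simp [f]
    rw [hf x hx, hf y hy, WithTop.coe_le_coe] at hxy
    have h2 := hfmul x (y / x)
    rw [mul_div_cancel₀ _ hx, hf x hx, hf y hy, hf (y / x) (div_ne_zero hy hx), ← WithTop.coe_add,
      WithTop.coe_eq_coe] at h2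
    rw [hf (y / x) (div_ne_zero hy hx), ← WithTop.coe_zero, WithTop.coe_le_coe]
    linarith
  refine ⟨AddValuation.of f (by simp [f])
    (by rw [hf 1 one_ne_zero, Units.mk0_one, hw1]; rfl) hfadd hfmul, ?_, fun x => hfint x⟩
  show f _ = _
  rw [hf _ hπ0, WithTop.coe_eq_coe, huniq P 1 1 one_pos (by simpa using (unitGrp B Ω).one_mem)]
  simp

end Valuation

end Groth.Agent.Epp23
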