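import Groth.Agent.Epp23.Setup
import Groth.Agent.Epp23.Val
import Mathlib.FieldTheory.IsSepClosed
import Mathlib.FieldTheory.PurelyInseparable.Basic
import Mathlib.RingTheory.Nakayama
import Mathlib.RingTheory.LocalRing.ResidueField.Basic
import Mathlib.RingTheory.LocalRing.Module

/-!
# The setting of Epp's theorem from a weakly unramified extension of complete DVRs
-/

set_option autoImplicit false
set_option linter.style.haveILetI false
set_option linter.unusedSectionVars false
universe u

open IsLocalRing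

namespace Groth.Agent.Epp23

variable {Ω : Type u} [Field Ω]

/-- An injective map out of a domain makes the range of the fraction field a fraction field. -/
theorem isFractionRing_fieldRange (A : Type u) [CommRing A] [IsDomain A] (f : A →+* Ω)
    (hf : Function.Injective f) :
    letI : Algebra A (IsFractionRing.lift (K := FractionRing A) hf).fieldRange :=
      (f.codRestrict (IsFractionRing.lift (K := FractionRing A) hf).fieldRange fun a => by exact ⟨algebraMap A _ a, IsFractionRing.lift_algebraMap hf a⟩).toAlgebra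
    IsFractionRing A (IsFractionRing.lift (K := FractionRing A) hf).fieldRange := by
  letI : Algebra A (IsFractionRing.lift (K := FractionRing A) hf).fieldRange :=
    (f.codRestrict (IsFractionRing.lift (K := FractionRing A) hf).fieldRange fun a => by exact ⟨algebraMap A _ a, IsFractionRing.lift_algebraMap hf a⟩).toAlgebra
  haveI : FaithfulSMul A (IsFractionRing.lift (K := FractionRing A) hf).fieldRange :=
    (faithfulSMul_iff_algebraMap_injective _ _).2 fun a b h => hf (congrArg Subtype.val h)
  refine IsFractionRing.of_field A _ fun z => ?_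
  obtain ⟨w, hw⟩ := z.2
  obtain ⟨a, b, -, rfl⟩ := IsFractionRing.div_surjective (A := A) w
  refine ⟨a, b, Subtype.ext ?_⟩
  rw [← hw, map_div₀, IsFractionRing.lift_algebraMap, IsFractionRing.lift_algebraMap]
  rfl

/-- A ring map fixing `π` and respecting integrality preserves values. -/
theorem map_val_eq (v : AddValuation Ω (WithTop ℚ)) {π : Ω} (hπ : v π = ((1 : ℚ) : WithTop ℚ))
    (T : Subfield Ω) (hπT : π ∈ T) (σ : T →+* Ω) (hσ : σ ⟨π, hπT⟩ = π)
    (h : ∀ y : T, 0 ≤ v (y : Ω) → 0 ≤ v (σ y)) {x : T} : v (σ x) = v (x : Ω) := by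
  rcases eq_or_ne x 0 with rfl | hx0
  · rw [map_zero]; rfl
  obtain ⟨q, hq⟩ := val_exists v (x := (x : Ω)) fun h0 => hx0 (Subtype.ext h0)
  obtain ⟨q', hq'⟩ := val_exists v ((map_ne_zero σ).2 hx0)
  have hπz : ∀ n : ℤ, v (π ^ n) = (((n : ℚ)) : WithTop ℚ) := fun n => by
    rcases n with n | n
    · rw [Int.ofNat_eq_natCast, zpow_natCast, v_pow v hπ, Int.cast_natCast, mul_one]
    · rw [zpow_negSucc, v_inv v (v_pow v hπ (n + 1)), mul_one, Int.cast_negSucc]
  set y : T := x ^ q.den * (⟨π, hπT⟩ : T) ^ (-q.num) with hy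
  have hqd : (q.den : ℚ) * q = q.num := by rw [mul_comm, Rat.mul_den_eq_num]
  have hy0 : v (y : Ω) = 0 := by
    rw [hy, show ((x ^ q.den * (⟨π, hπT⟩ : T) ^ (-q.num) : T) : Ω) = (x : Ω) ^ q.den * π ^ (-q.num) from
      (map_mul T.subtype _ _).trans (congrArg₂ (· * ·) (map_pow T.subtype _ _) (map_zpow₀ T.subtype _ _)),
      v_mul v (v_pow v hq _) (hπz _), ← WithTop.coe_zero, WithTop.coe_eq_coe, hqd,
      Int.cast_neg, add_neg_cancel]
  have h1 := h y hy0.ge
  have h2 := h y⁻¹ (by
    show 0 ≤ v ((y : Ω)⁻¹)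
    rw [v.map_inv, hy0]; exact le_of_eq rfl)
  have hσy : σ y = σ x ^ q.den * π ^ (-q.num) := by rw [hy, map_mul, map_pow, map_zpow₀, hσ]
  have hv : v (σ y) = ((((q.den : ℚ) * q' - q.num) : ℚ) : WithTop ℚ) := by
    rw [hσy, v_mul v (v_pow v hq' _) (hπz _), Int.cast_neg, sub_eq_add_neg]
  rw [hv, ← WithTop.coe_zero, WithTop.coe_le_coe] at h1
  rw [map_inv₀, v_inv v hv, ← WithTop.coe_zero, WithTop.coe_le_coe] at h2
  have hd : (0 : ℚ) < q.den := by exact_mod_cast q.pos
  rw [hq, hq', WithTop.coe_eq_coe]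
  nlinarith

/-- A combination of powers of an element of value `1 / e` vanishes only if it is trivial. -/
theorem ne_zero_of_sum (v : AddValuation Ω (WithTop ℚ)) {e : ℕ} {E : Subfield Ω} {ρ : Ω}
    (hρ : v ρ = (((1 : ℚ) / e : ℚ) : WithTop ℚ)) (hE : Disc v E 1) (c : ℕ → Ω) (hc : ∀ i, c i ∈ E)
    (hne : ∃ k < e, c k ≠ 0) : ∑ i ∈ Finset.range e, c i * ρ ^ i ≠ 0 := by
  classical
  intro hsum
  obtain ⟨k, hk, hck⟩ := hne
  have he : (e : ℚ) ≠ 0 := by exact_mod_cast (by omega : e ≠ 0)
  let c' : ℕ → Ω := fun i => if i = k then 0 else c i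
  have hρ0 : ρ ≠ 0 := ne_zero_of_eq v hρ
  have hc' : ∀ i, c' i ∈ E := fun i => by
    show (if i = k then 0 else c i) ∈ E
    split_ifs <;> [exact E.zero_mem; exact hc i]
  have hsplit : ∑ i ∈ Finset.range e, c' i * ρ ^ i = -(c k * ρ ^ k) := by
    rw [← Finset.add_sum_erase _ _ (Finset.mem_range.2 hk)] at hsum ⊢
    rw [eq_neg_of_add_eq_zero_left hsum, neg_neg]
    show (if k = k then 0 else c k) * ρ ^ k + _ = _
    rw [if_pos rfl, zero_mul, zero_add]
    exact Finset.sum_congr rfl fun i hi => by
      show (if i = k then 0 else c i) * _ = _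
      rw [if_neg (Finset.ne_of_mem_erase hi)]
  have hne' : ∑ i ∈ Finset.range e, c' i * ρ ^ i ≠ 0 := by
    rw [hsplit]; exact neg_ne_zero.2 (mul_ne_zero hck (pow_ne_zero _ hρ0))
  obtain ⟨i, hi, hci, hv, -⟩ := sum_val v one_pos hE hρ c' hc' hne'
  have hik : i ≠ k := fun h => hci (by rw [h]; exact if_pos rfl)
  obtain ⟨a, ha⟩ := hE _ (hc' i) hci
  obtain ⟨b, hb⟩ := hE _ (hc k) hck
  rw [hsplit, v.map_neg, v_mul v hb (v_pow v hρ k), v_mul v ha (v_pow v hρ i), WithTop.coe_eq_coe] at hv
  field_simp at hv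
  have h1 : ((b * e + k : ℤ) : ℚ) = ((a * e + i : ℤ) : ℚ) := by push_cast; linarith
  have h2 : b * e + k = a * e + i := by exact_mod_cast h1
  have h3 : (b - a) * (e : ℤ) = (i : ℤ) - k := by linarith
  have h4 : |(b - a) * (e : ℤ)| < e := by rw [h3, abs_lt]; omega
  rw [abs_mul, Nat.abs_cast] at h4
  have h5 : b - a = 0 := by rw [← abs_eq_zero]; nlinarith [abs_nonneg (b - a)]
  rw [h5, zero_mul] at h3
  omega

section Totally

variable (A K : Type u) [CommRing A] [IsDomain A] [IsDiscreteValuationRing A]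
  [IsAdicComplete (maximalIdeal A) A] [Field K] [Algebra A K] [IsFractionRing A K]
  [Algebra K Ω] [Algebra A Ω] [IsScalarTower A K Ω] [IsAlgClosed (ResidueField A)]
  (v : AddValuation Ω (WithTop ℚ))

/-- Finite extensions are totally ramified. -/
theorem totally {π : A} (hπ : Irreducible π) (hv : v (algebraMap A Ω π) = ((1 : ℚ) : WithTop ℚ))
    (h0 : ∀ x, IsIntegral A x → 0 ≤ v x) (F : IntermediateField K Ω) [FiniteDimensional K F] :
    (Disc v F.toSubfield ((1 : ℚ) / Module.finrank K F) ∧
      ∃ ϖ ∈ F, v ϖ = (((1 : ℚ) / Module.finrank K F : ℚ) : WithTop ℚ)) ∧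
      ∀ x ∈ F, 0 ≤ v x → IsIntegral A x := by
  classical
  haveI : IsScalarTower A F Ω := .of_algebraMap_eq fun b => rfl
  haveI := dvr_integralClosure A K F
  haveI := finite_integralClosure A K F
  haveI : IsFractionRing (integralClosure A F) F :=
    integralClosure.isFractionRing_of_finite_extension K F
  obtain ⟨w, hw⟩ := IsDiscreteValuationRing.exists_irreducible (integralClosure A F)
  let ι : integralClosure A F →+* Ω :=
    (F.val : F →+* Ω).comp (algebraMap (integralClosure A F) F)
  have hι : Function.Injective ι :=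
    F.val.injective.comp (IsFractionRing.injective (integralClosure A F) F)
  have hι0 : ∀ c, 0 ≤ v (ι c) := fun c => h0 _ (c.2.map (IsScalarTower.toAlgHom A F Ω))
  have hιA : ∀ a, ι (algebraMap A _ a) = algebraMap A Ω a := fun a => rfl
  have hunit : ∀ u : (integralClosure A F)ˣ, v (ι u) = 0 := fun u => by
    have h : v (ι u) + v (ι ((u⁻¹ : (integralClosure A F)ˣ) : integralClosure A F)) = 0 := by
      rw [← v.map_mul, ← map_mul, u.mul_inv, map_one, v.map_one]
    exact le_antisymm (h ▸ le_add_of_nonneg_right (hι0 _)) (hι0 _)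
  have hinj : Function.Injective (algebraMap A (integralClosure A F)) := fun a b h => by
    refine IsFractionRing.injective A K ((algebraMap K Ω).injective ?_)
    rw [← IsScalarTower.algebraMap_apply, ← IsScalarTower.algebraMap_apply]
    exact congrArg ι h
  haveI hlocA : IsLocalHom (algebraMap A (integralClosure A F)) :=
    RingHom.IsIntegral.isLocalHom (algebraMap_isIntegral_iff.2 inferInstance) hinj
  obtain ⟨e, u, he⟩ := IsDiscreteValuationRing.eq_unit_mul_pow_irreducible
    ((map_ne_zero_iff _ hinj).2 hπ.ne_zero) hw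
  obtain ⟨r, hr⟩ := val_exists v (x := ι w) ((map_ne_zero_iff _ hι).2 hw.ne_zero)
  have her : (e : ℚ) * r = 1 := by
    have h := congrArg (fun c => v (ι c)) he
    simp only [hιA, map_mul, map_pow, v.map_mul, hunit, zero_add, hv] at h
    rw [v.map_pow, hr, ← WithTop.coe_nsmul, WithTop.coe_eq_coe, nsmul_eq_mul] at h
    exact h.symm
  have he0 : e ≠ 0 := fun h => by rw [h, Nat.cast_zero, zero_mul] at her; exact zero_ne_one her
  have hr' : r = 1 / e := by rw [eq_div_iff (by exact_mod_cast he0), mul_comm]; exact her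
  -- the values on `F`
  have hform : ∀ x ∈ F, x ≠ 0 → ∃ (i j : ℕ) (u : (integralClosure A F)ˣ),
      x * ι w ^ j = ι u * ι w ^ i := by
    intro x hx hx0
    obtain ⟨a, b, hb, hab⟩ := IsFractionRing.div_surjective (A := integralClosure A F) (⟨x, hx⟩ : F)
    have hb0 := nonZeroDivisors.ne_zero hb
    have ha0 : a ≠ 0 := fun h => hx0 (by
      rw [h, map_zero, zero_div] at hab; exact (congrArg Subtype.val hab).symm)
    obtain ⟨i, ua, rfl⟩ := IsDiscreteValuationRing.eq_unit_mul_pow_irreducible ha0 hw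
    obtain ⟨j, ub, rfl⟩ := IsDiscreteValuationRing.eq_unit_mul_pow_irreducible hb0 hw
    refine ⟨i, j, ua * ub⁻¹, ?_⟩
    have hx' : x * ι ((ub : integralClosure A F) * w ^ j) = ι ((ua : integralClosure A F) * w ^ i) := by
      have h1 := congrArg (F.val : F →+* Ω) hab
      rw [map_div₀] at h1
      exact ((div_eq_iff ((map_ne_zero_iff _ hι).2 hb0)).1 h1).symm
    rw [map_mul, map_mul, map_pow, map_pow] at hx'
    have hub : ι (ub : integralClosure A F) * ι ((ub⁻¹ : (integralClosure A F)ˣ) : integralClosure A F) = 1 := by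
      rw [← map_mul, ub.mul_inv, map_one]
    rw [Units.val_mul, map_mul]
    linear_combination (ι ((ub⁻¹ : (integralClosure A F)ˣ) : integralClosure A F)) * hx' -
      x * ι w ^ j * hub
  have hdisc : ∀ x ∈ F, x ≠ 0 → ∃ (i j : ℕ) (u : (integralClosure A F)ˣ),
      x * ι w ^ j = ι u * ι w ^ i ∧ v x = (((((i : ℤ) - j : ℤ) : ℚ) * (1 / e) : ℚ) : WithTop ℚ) := by
    intro x hx hx0
    obtain ⟨i, j, u, hu⟩ := hform x hx hx0
    refine ⟨i, j, u, hu, ?_⟩
    obtain ⟨q, hq⟩ := val_exists v hx0
    have h := congrArg v hu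
    rw [v_mul v hq (v_pow v hr j), v.map_mul, hunit, zero_add, v_pow v hr i, WithTop.coe_eq_coe] at h
    rw [hq, WithTop.coe_eq_coe, ← hr']
    push_cast
    linarith
  -- residue field
  haveI : Module.Finite (ResidueField A) (ResidueField (integralClosure A F)) :=
    ResidueField.finite_of_module_finite
  have hsurj : Function.Surjective
      (algebraMap (ResidueField A) (ResidueField (integralClosure A F))) :=
    IsAlgClosed.algebraMap_bijective_of_isIntegral.2
  have hdigit : ∀ c, ∃ (a : A) (c' : integralClosure A F), c = algebraMap A _ a + w * c' := by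
    intro c
    obtain ⟨z, hz⟩ := hsurj (residue _ c)
    obtain ⟨a, rfl⟩ := residue_surjective z
    have hmem : c - algebraMap A _ a ∈ maximalIdeal (integralClosure A F) := by
      rw [← residue_eq_zero_iff, map_sub, sub_eq_zero, ← hz]
      rfl
    rw [(IsDiscreteValuationRing.irreducible_iff_uniformizer w).1 hw, Ideal.mem_span_singleton] at hmem
    obtain ⟨c', hc'⟩ := hmem
    exact ⟨a, c', by rw [← hc', add_sub_cancel]⟩
  let S : Submodule A (integralClosure A F) :=
    Submodule.span A (Set.range fun i : Fin e => w ^ (i : ℕ))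
  have hexp : ∀ j ≤ e, ∀ c, ∃ s ∈ S, ∃ c', c = s + w ^ j * c' := by
    intro j
    induction j with
    | zero => exact fun _ c => ⟨0, S.zero_mem, c, by rw [pow_zero, one_mul, zero_add]⟩
    | succ j ih =>
      intro hj c
      obtain ⟨s, hs, c', rfl⟩ := ih (Nat.le_of_succ_le hj) c
      obtain ⟨a, c'', rfl⟩ := hdigit c'
      refine ⟨s + a • w ^ j, S.add_mem hs (S.smul_mem a (Submodule.subset_span ⟨⟨j, hj⟩, rfl⟩)), c'', ?_⟩
      rw [Algebra.smul_def, pow_succ]
      ring
  have hS : (⊤ : Submodule A (integralClosure A F)) ≤ S := by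
    refine Submodule.le_of_le_smul_of_le_jacobson_bot (Module.Finite.fg_top)
      (maximalIdeal_le_jacobson ⊥) fun c _ => ?_
    obtain ⟨s, hs, c', rfl⟩ := hexp e le_rfl c
    refine Submodule.add_mem_sup hs ?_
    have hwe : w ^ e * c' = π • (((u⁻¹ : (integralClosure A F)ˣ) : integralClosure A F) * c') := by
      rw [Algebra.smul_def, he, mul_comm (u : integralClosure A F), mul_assoc, ← mul_assoc (u : integralClosure A F),
        u.mul_inv, one_mul]
    rw [hwe]
    exact Submodule.smul_mem_smul ((mem_maximalIdeal π).2 hπ.not_isUnit) Submodule.mem_top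
  let f : Fin e → F := fun i => (algebraMap (integralClosure A F) F w) ^ (i : ℕ)
  have hspan : ⊤ ≤ Submodule.span K (Set.range f) := by
    intro y _
    have hC : ∀ c : integralClosure A F, algebraMap _ F c ∈ Submodule.span K (Set.range f) := by
      intro c
      have hc := hS (Submodule.mem_top (x := c))
      induction hc using Submodule.span_induction with
      | mem x hx =>
        obtain ⟨i, rfl⟩ := hx
        rw [map_pow]
        exact Submodule.subset_span ⟨i, rfl⟩
      | zero => rw [map_zero]; exact zero_mem _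
      | add x y _ _ hx hy => rw [map_add]; exact add_mem hx hy
      | smul a x _ hx =>
        rw [Algebra.smul_def, map_mul, ← IsScalarTower.algebraMap_apply A (integralClosure A F) F,
          IsScalarTower.algebraMap_apply A K F, ← Algebra.smul_def]
        exact Submodule.smul_mem _ _ hx
    haveI := IsIntegralClosure.isLocalization A K F (integralClosure A F)
    obtain ⟨⟨c, ⟨_, a, ha, rfl⟩⟩, hca⟩ :=
      IsLocalization.surj (Algebra.algebraMapSubmonoid (integralClosure A F) (nonZeroDivisors A)) y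
    have haK : algebraMap A K a ≠ 0 :=
      (map_ne_zero_iff _ (IsFractionRing.injective A K)).2 (nonZeroDivisors.ne_zero ha)
    have hyc : y = (algebraMap A K a)⁻¹ • algebraMap _ F c := by
      rw [← hca, ← IsScalarTower.algebraMap_apply A (integralClosure A F) F,
        IsScalarTower.algebraMap_apply A K F, Algebra.smul_def, map_inv₀, mul_comm y,
        inv_mul_cancel_left₀ ((map_ne_zero_iff _ (algebraMap K F).injective).2 haK)]
    rw [hyc]
    exact Submodule.smul_mem _ _ (hC c)
  have hn_le : Module.finrank K F ≤ e := by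
    have h1 := finrank_span_le_card (R := K) (Set.range f)
    rw [top_le_iff.1 hspan, finrank_top] at h1
    refine h1.trans ?_
    rw [Set.toFinset_range]
    exact Finset.card_image_le.trans (by simp)
  have hK1 : Disc v (algebraMap K Ω).fieldRange 1 := by
    rintro _ ⟨y, rfl⟩ hy0
    obtain ⟨a, b, hb, rfl⟩ := IsFractionRing.div_surjective (A := A) y
    have hb0 := nonZeroDivisors.ne_zero hb
    have ha0 : a ≠ 0 := fun h => hy0 (by rw [h, map_zero, zero_div, map_zero])
    obtain ⟨i, ua, rfl⟩ := IsDiscreteValuationRing.eq_unit_mul_pow_irreducible ha0 hπ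
    obtain ⟨j, ub, rfl⟩ := IsDiscreteValuationRing.eq_unit_mul_pow_irreducible hb0 hπ
    have hu : ∀ ua : Aˣ, v (algebraMap A Ω ua) = 0 := fun ua => by
      have := hunit (Units.map (algebraMap A (integralClosure A F) : A →* _) ua)
      exact this
    have hval : ∀ (ua : Aˣ) (i : ℕ), v (algebraMap A Ω ((ua : A) * π ^ i)) = (((i : ℚ)) : WithTop ℚ) :=
      fun ua i => by rw [map_mul, map_pow, v.map_mul, hu, zero_add, v_pow v hv, mul_one]
    refine ⟨(i : ℤ) - j, ?_⟩
    rw [map_div₀, ← IsScalarTower.algebraMap_apply, ← IsScalarTower.algebraMap_apply,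
      v_div v (hval ua i) (hval ub j), mul_one]
    push_cast
    rfl
  have hli : LinearIndependent K f := by
    rw [Fintype.linearIndependent_iff]
    intro g hg i
    by_contra hi
    let c : ℕ → Ω := fun k => if hk : k < e then algebraMap K Ω (g ⟨k, hk⟩) else 0
    have hsum : ∑ k ∈ Finset.range e, c k * ι w ^ k = 0 := by
      rw [← Fin.sum_univ_eq_sum_range]
      have h := congrArg F.val hg
      rw [map_sum, map_zero] at h
      refine Eq.trans (Finset.sum_congr rfl fun k _ => ?_) h
      rw [map_smul, Algebra.smul_def, map_pow]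
      simp [c, k.2, ι]
    have hc : ∀ k, c k ∈ (algebraMap K Ω).fieldRange := fun k => by
      show (if hk : k < e then algebraMap K Ω (g ⟨k, hk⟩) else 0) ∈ _
      split_ifs
      · exact ⟨_, rfl⟩
      · exact zero_mem _
    have hρ : v (ι w) = (((1 : ℚ) / e : ℚ) : WithTop ℚ) := by rw [hr, hr']
    -- one term is strictly smaller
    have hne : ∃ k < e, c k ≠ 0 := ⟨i, i.2, by simp [c, i.2, hi]⟩
    exact ne_zero_of_sum v hρ hK1 c hc hne hsum
  have hn_ge : e ≤ Module.finrank K F := by
    have := hli.fintype_card_le_finrank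
    simpa using this
  have hne : Module.finrank K F = e := le_antisymm hn_le hn_ge
  refine ⟨⟨fun x hx hx0 => ?_, ⟨ι w, (algebraMap (integralClosure A F) F w).2, ?_⟩⟩, fun x hx hx0 => ?_⟩
  · obtain ⟨i, j, -, -, h⟩ := hdisc x hx hx0
    exact ⟨_, by rw [hne]; exact h⟩
  · rw [hne, hr, hr']
  · rcases eq_or_ne x 0 with rfl | hne0
    · exact isIntegral_zero
    obtain ⟨i, j, u, hu, h⟩ := hdisc x hx hne0
    rw [h, ← WithTop.coe_zero, WithTop.coe_le_coe] at hx0
    have heq : (0 : ℚ) < 1 / e := one_div_pos.2 (by exact_mod_cast Nat.pos_of_ne_zero he0)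
    have hij : j ≤ i := by
      have : (0 : ℚ) ≤ (((i : ℤ) - j : ℤ) : ℚ) := nonneg_of_mul_nonneg_left hx0 heq
      have : (0 : ℤ) ≤ (i : ℤ) - j := by exact_mod_cast this
      omega
    obtain ⟨d, rfl⟩ := Nat.exists_eq_add_of_le hij
    have hxeq : x = ι ((u : integralClosure A F) * w ^ d) := by
      rw [map_mul, map_pow]
      refine mul_right_cancel₀ (pow_ne_zero j ((map_ne_zero_iff _ hι).2 hw.ne_zero)) ?_
      rw [hu, pow_add]
      ring
    rw [hxeq]
    exact ((u : integralClosure A F) * w ^ d).2.map (IsScalarTower.toAlgHom A F Ω)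

/-- Embeddings of finite extensions preserve values. -/
theorem algHom_val_eq {π : A} (hπ : Irreducible π) (hv : v (algebraMap A Ω π) = ((1 : ℚ) : WithTop ℚ))
    (h0 : ∀ x, IsIntegral A x → 0 ≤ v x) (T : IntermediateField K Ω) (hT : FiniteDimensional K T)
    (φ : T →ₐ[K] Ω) (x : T) : v (φ x) = v (x : Ω) := by
  haveI := hT
  have hπT : algebraMap A Ω π ∈ T := by
    rw [IsScalarTower.algebraMap_apply A K Ω]
    exact T.algebraMap_mem _
  refine map_val_eq v hv T.toSubfield hπT φ.toRingHom ?_ (fun y hy => ?_) (x := x)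
  · show φ ⟨algebraMap A Ω π, hπT⟩ = _
    rw [show (⟨algebraMap A Ω π, hπT⟩ : T) = algebraMap K T (algebraMap A K π) from
      Subtype.ext (IsScalarTower.algebraMap_apply A K Ω π), AlgHom.commutes,
      ← IsScalarTower.algebraMap_apply]
  · obtain ⟨P, hP, hP0⟩ := (totally A K v hπ hv h0 T).2 y y.2 hy
    rw [← Polynomial.aeval_def] at hP0
    refine h0 _ ⟨P, hP, ?_⟩
    have h2 : Polynomial.aeval (⟨(y : Ω), y.2⟩ : T) (P.map (algebraMap A K)) = 0 := by
      refine Subtype.ext ?_
      show T.val (Polynomial.aeval _ _) = 0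
      rw [← Polynomial.aeval_algHom_apply]
      exact (Polynomial.aeval_map_algebraMap K _ P).trans hP0
    have h3 := congrArg φ h2
    rw [← Polynomial.aeval_algHom_apply, map_zero, Polynomial.aeval_map_algebraMap] at h3
    exact h3

end Totally

/-- The setting from a weakly unramified extension of complete discrete valuation rings, with
algebraically closed residue field below and separably closed residue field above. -/
theorem exists_setup (A B : Type u) [CommRing A] [IsDomain A] [IsDiscreteValuationRing A]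
    [IsAdicComplete (maximalIdeal A) A] [IsAlgClosed (ResidueField A)]
    [CommRing B] [IsDomain B] [IsDiscreteValuationRing B] [IsAdicComplete (maximalIdeal B) B]
    [IsSepClosed (ResidueField B)] [Algebra A B] [IsLocalHom (algebraMap A B)]
    [Algebra A Ω] [Algebra B Ω] [IsScalarTower A B Ω] [Algebra.IsAlgebraic B Ω]
    (hA : Function.Injective (algebraMap A Ω)) (hB : Function.Injective (algebraMap B Ω))
    {p : ℕ} (hp : p.Prime) [CharP (ResidueField B) p]
    {π : A} (hπ : Irreducible π) (hw : (maximalIdeal A).map (algebraMap A B) = maximalIdeal B)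
    (hres : ∀ x : ResidueField B, (∀ n : ℕ, ∃ y, y ^ p ^ n = x) →
      x ∈ Set.range (algebraMap (ResidueField A) (ResidueField B))) :
    ∃ S : Setup Ω, S.p = p ∧ S.π = algebraMap A Ω π ∧
      S.K = (IsFractionRing.lift (K := FractionRing A) hA).fieldRange ∧
      S.L = (IsFractionRing.lift (K := FractionRing B) hB).fieldRange ∧
      (∀ x, 0 ≤ S.v x ↔ IsIntegral B x) ∧
      ∀ (T : IntermediateField S.K Ω), FiniteDimensional S.K T →
        ∀ (φ : T →ₐ[S.K] Ω) (x : T), S.v (φ x) = S.v (x : Ω) := by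
  set K₁ := (IsFractionRing.lift (K := FractionRing A) hA).fieldRange with hK₁
  set L₁ := (IsFractionRing.lift (K := FractionRing B) hB).fieldRange with hL₁
  letI algA : Algebra A K₁ :=
    ((algebraMap A Ω).codRestrict K₁ fun a => by exact ⟨algebraMap A _ a, IsFractionRing.lift_algebraMap hA a⟩).toAlgebra
  letI algB : Algebra B L₁ :=
    ((algebraMap B Ω).codRestrict L₁ fun a => by exact ⟨algebraMap B _ a, IsFractionRing.lift_algebraMap hB a⟩).toAlgebra
  haveI : IsFractionRing A K₁ := isFractionRing_fieldRange A _ hA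
  haveI : IsFractionRing B L₁ := isFractionRing_fieldRange B _ hB
  haveI : IsScalarTower A K₁ Ω := .of_algebraMap_eq fun _ => rfl
  haveI : IsScalarTower B L₁ Ω := .of_algebraMap_eq fun _ => rfl
  haveI : Algebra.IsAlgebraic L₁ Ω := ⟨fun x =>
    ((Algebra.IsAlgebraic.isAlgebraic (R := B) x).extendScalars (IsFractionRing.injective B L₁))⟩
  have hπB : Irreducible (algebraMap A B π) := by
    rw [IsDiscreteValuationRing.irreducible_iff_uniformizer, ← hw,
      (IsDiscreteValuationRing.irreducible_iff_uniformizer π).1 hπ, Ideal.map_span, Set.image_singleton]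
  obtain ⟨v, hvπ, hvint⟩ := exists_valuation B L₁ Ω hπB
  rw [← IsScalarTower.algebraMap_apply] at hvπ
  have hB0 : ∀ b : B, 0 ≤ v (algebraMap B Ω b) := fun b => (hvint _).2 isIntegral_algebraMap
  have hBpos : ∀ b ∈ maximalIdeal B, 0 < v (algebraMap B Ω b) := by
    intro b hb
    rw [(IsDiscreteValuationRing.irreducible_iff_uniformizer _).1 hπB, Ideal.mem_span_singleton] at hb
    obtain ⟨c, rfl⟩ := hb
    rw [map_mul, ← IsScalarTower.algebraMap_apply, v.map_mul]
    exact add_pos_of_pos_of_nonneg (by rw [hvπ, ← WithTop.coe_zero, WithTop.coe_lt_coe]; exact one_pos) (hB0 c)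
  have hBunit : ∀ b : Bˣ, v (algebraMap B Ω b) = 0 := fun b => by
    have h : v (algebraMap B Ω b) + v (algebraMap B Ω ((b⁻¹ : Bˣ) : B)) = 0 := by
      rw [← v.map_mul, ← map_mul, b.mul_inv, map_one, v.map_one]
    exact le_antisymm (h ▸ le_add_of_nonneg_right (hB0 _)) (hB0 _)
  have hdiscL : Disc v L₁ 1 := by
    intro x hx hx0
    obtain ⟨a, b, hb, hab⟩ := IsFractionRing.div_surjective (A := B) (⟨x, hx⟩ : L₁)
    have hb0 := nonZeroDivisors.ne_zero hb
    have hxe : x = algebraMap B Ω a / algebraMap B Ω b := (congrArg Subtype.val hab).symm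
    have ha0 : a ≠ 0 := fun h => hx0 (by rw [hxe, h, map_zero, zero_div])
    obtain ⟨i, ua, rfl⟩ := IsDiscreteValuationRing.eq_unit_mul_pow_irreducible ha0 hπB
    obtain ⟨j, ub, rfl⟩ := IsDiscreteValuationRing.eq_unit_mul_pow_irreducible hb0 hπB
    have hval : ∀ (ua : Bˣ) (i : ℕ),
        v (algebraMap B Ω ((ua : B) * algebraMap A B π ^ i)) = (((i : ℚ)) : WithTop ℚ) :=
      fun ua i => by
        rw [map_mul, map_pow, v.map_mul, hBunit, zero_add, ← IsScalarTower.algebraMap_apply,
          v_pow v hvπ, mul_one]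
    refine ⟨(i : ℤ) - j, ?_⟩
    rw [hxe, v_div v (hval ua i) (hval ub j), mul_one]
    push_cast
    rfl
  have hvp : 0 < v (p : Ω) := by
    rw [← map_natCast (algebraMap B Ω)]
    refine hBpos _ ?_
    rw [← residue_eq_zero_iff, map_natCast, CharP.cast_eq_zero]
  have hIntA : ∀ x, IsIntegral A x → 0 ≤ v x := fun x hx => (hvint x).2 hx.tower_top
  have hlift : ∀ x ∈ L₁, 0 ≤ v x → ∃ b : B, algebraMap B Ω b = x := by
    intro x hx hx0
    have h1 := (hvint x).1 hx0
    rw [show x = algebraMap L₁ Ω ⟨x, hx⟩ from rfl,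
      isIntegral_algebraMap_iff (algebraMap L₁ Ω).injective] at h1
    obtain ⟨b, hb⟩ := IsIntegrallyClosed.algebraMap_eq_of_integral h1
    exact ⟨b, congrArg Subtype.val hb⟩
  have hKL : K₁ ≤ L₁ := by
    rintro _ ⟨y, rfl⟩
    obtain ⟨a, b, -, rfl⟩ := IsFractionRing.div_surjective (A := A) y
    rw [map_div₀, IsFractionRing.lift_algebraMap, IsFractionRing.lift_algebraMap,
      IsScalarTower.algebraMap_apply A B Ω, IsScalarTower.algebraMap_apply A B Ω]
    exact div_mem ⟨algebraMap B _ _, IsFractionRing.lift_algebraMap hB _⟩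
      ⟨algebraMap B _ _, IsFractionRing.lift_algebraMap hB _⟩
  refine ⟨
    { p := p, hp := hp, v := v, v_p := hvp, L := L₁, K := K₁, hKL := hKL
      algebraic := inferInstance
      inv := fun σ x => ?_
      discL := hdiscL
      π := algebraMap A Ω π
      π_mem := ⟨algebraMap A _ π, IsFractionRing.lift_algebraMap hA π⟩
      v_π := hvπ
      kfin := fun F hF => ?_
      pins := fun x hx => ?_
      roots := fun l hl hl0 e he => ?_
      resK := fun x hx hx0 hall => ?_ }, rfl, rfl, rfl, rfl, hvint, fun T hT φ x => ?_⟩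
  · refine map_val_eq v hvπ ⊤ trivial (σ.toRingEquiv.toRingHom.comp (⊤ : Subfield Ω).subtype) ?_
      (fun y hy => ?_) (x := ⟨x, trivial⟩)
    · exact σ.commutes ⟨_, hKL ⟨algebraMap A _ π, IsFractionRing.lift_algebraMap hA π⟩⟩
    · exact (hvint _).2 (((hvint y).1 hy).map (σ.toAlgHom.restrictScalars B))
  · haveI := hF
    exact (totally A K₁ v hπ hvπ hIntA F).1
  · have hxint := (hvint x).1 hx
    let G := IntermediateField.adjoin L₁ ({x} : Set Ω)
    haveI : FiniteDimensional L₁ G :=
      IntermediateField.adjoin.finiteDimensional (Algebra.IsIntegral.isIntegral x)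
    haveI : IsScalarTower B G Ω := .of_algebraMap_eq fun _ => rfl
    haveI := dvr_integralClosure B L₁ G
    haveI := finite_integralClosure B L₁ G
    have hinj : Function.Injective (algebraMap B (integralClosure B G)) := fun a b h =>
      hB (congrArg (fun c : integralClosure B G => ((c : G) : Ω)) h)
    haveI : IsLocalHom (algebraMap B (integralClosure B G)) :=
      RingHom.IsIntegral.isLocalHom (algebraMap_isIntegral_iff.2 inferInstance) hinj
    haveI : Module.Finite (ResidueField B) (ResidueField (integralClosure B G)) :=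
      ResidueField.finite_of_module_finite
    haveI : IsPurelyInseparable (ResidueField B) (ResidueField (integralClosure B G)) :=
      Algebra.IsAlgebraic.isPurelyInseparable_of_isSepClosed
    haveI : ExpChar (ResidueField B) p := ExpChar.prime hp
    have hxG : IsIntegral B (⟨x, IntermediateField.mem_adjoin_simple_self L₁ x⟩ : G) :=
      (isIntegral_algHom_iff (IsScalarTower.toAlgHom B G Ω) (fun a b h => Subtype.ext h)).1 hxint
    let xC : integralClosure B G := ⟨_, hxG⟩
    obtain ⟨N, y, hy⟩ := IsPurelyInseparable.pow_mem (ResidueField B) p (residue _ xC)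
    obtain ⟨b, rfl⟩ := residue_surjective y
    refine ⟨N, algebraMap B Ω b, ⟨algebraMap B _ b, IsFractionRing.lift_algebraMap hB b⟩, ?_⟩
    have hmem : xC ^ p ^ N - algebraMap B _ b ∈ maximalIdeal (integralClosure B G) := by
      rw [← residue_eq_zero_iff, map_sub, map_pow, ← hy, sub_eq_zero]
      rfl
    refine lt_of_le_of_ne ((hvint _).2 ?_) fun h0 => ?_
    · exact (hxint.pow _).sub isIntegral_algebraMap
    · have h1 : 0 ≤ v (x ^ p ^ N - algebraMap B Ω b)⁻¹ := by rw [v.map_inv, ← h0]; exact le_of_eq rfl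
      have h2 := (hvint _).1 h1
      have hne : x ^ p ^ N - algebraMap B Ω b ≠ 0 := ne_zero_of_eq v (q := 0) (by rw [← h0]; rfl)
      have h3 : IsIntegral B (((xC ^ p ^ N - algebraMap B _ b : integralClosure B G) : G))⁻¹ :=
        (isIntegral_algHom_iff (IsScalarTower.toAlgHom B G Ω) (fun a b h => Subtype.ext h)).1 (by
          exact h2)
      refine (mem_maximalIdeal _).1 hmem (IsUnit.of_mul_eq_one ⟨_, h3⟩ (Subtype.ext ?_))
      exact mul_inv_cancel₀ fun h => hne (congrArg (Subtype.val : G → Ω) h)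
  · obtain ⟨b, rfl⟩ := hlift l hl hl0.ge
    have hb : residue B b ≠ 0 := fun h => by
      have := hBpos b ((residue_eq_zero_iff b).1 h)
      rw [hl0] at this
      exact lt_irrefl _ this
    haveI : NeZero ((e : ℕ) : ResidueField B) := ⟨fun h => he ((CharP.cast_eq_zero_iff _ p e).1 h)⟩
    obtain ⟨y, hy⟩ := IsSepClosed.exists_pow_nat_eq (residue B b) e
    obtain ⟨y, rfl⟩ := residue_surjective y
    refine ⟨algebraMap B Ω y, ⟨algebraMap B _ y, IsFractionRing.lift_algebraMap hB y⟩, ?_⟩
    rw [← map_pow, ← map_sub]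
    exact hBpos _ ((residue_eq_zero_iff _).1 (by rw [map_sub, map_pow, hy, sub_self]))
  · obtain ⟨b, rfl⟩ := hlift x hx hx0
    have hall' : ∀ n : ℕ, ∃ y, y ^ p ^ n = residue B b := by
      intro n
      obtain ⟨y, hy, hxy⟩ := hall n
      have hy0 : 0 ≤ v y := by
        by_contra hneg
        rw [not_le] at hneg
        have hneg' : v (y ^ p ^ n) < 0 := by
          obtain ⟨q, hq⟩ := val_exists v (x := y) fun h => by
            rw [h, v.map_zero] at hneg; exact absurd hneg (not_lt.2 le_top)
          rw [hq, ← WithTop.coe_zero, WithTop.coe_lt_coe] at hneg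
          rw [v_pow v hq, ← WithTop.coe_zero, WithTop.coe_lt_coe]
          exact mul_neg_of_pos_of_neg (by exact_mod_cast pow_pos hp.pos n) hneg
        rw [v.map_sub_eq_of_lt_right (hneg'.trans_le hx0)] at hxy
        exact absurd hxy (not_lt.2 hneg'.le)
      obtain ⟨c, rfl⟩ := hlift y hy hy0
      refine ⟨residue B c, ?_⟩
      rw [← map_pow, ← sub_eq_zero, ← map_sub, residue_eq_zero_iff]
      by_contra hnot
      have hu := hBunit (notMem_maximalIdeal.1 hnot).unit
      rw [IsUnit.unit_spec, map_sub, map_pow, v.map_sub_swap] at hu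
      rw [hu] at hxy
      exact lt_irrefl _ hxy
    obtain ⟨z, hz⟩ := hres _ hall'
    obtain ⟨a, rfl⟩ := residue_surjective z
    refine ⟨algebraMap A Ω a, ⟨algebraMap A _ a, IsFractionRing.lift_algebraMap hA a⟩, ?_⟩
    rw [IsScalarTower.algebraMap_apply A B Ω, ← map_sub]
    refine hBpos _ ((residue_eq_zero_iff _).1 ?_)
    rw [map_sub, sub_eq_zero, ← hz]
    rfl
  · exact algHom_val_eq A K₁ v hπ hvπ hIntA T hT φ x

end Groth.Agent.Epp23
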