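import Groth.Agent.Epp23.Lemmas
import Mathlib.FieldTheory.Galois.Basic
import Mathlib.GroupTheory.Sylow
import Mathlib.GroupTheory.Archimedean

/-!
# The tame step and fixed fields
-/

set_option autoImplicit false
set_option linter.style.haveILetI false
universe u

open Polynomial

namespace Groth.Agent.Epp23

variable {Ω : Type u} [Field Ω] (S : Setup Ω)

/-- The fixed field of a subgroup, inside `Ω`. -/
def fx (N : IntermediateField S.L Ω) (H : Subgroup (N ≃ₐ[S.L] N)) : Subfield Ω :=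
  (IntermediateField.fixedField H).toSubfield.map (N.val : N →+* Ω)

theorem mem_fx {N : IntermediateField S.L Ω} {H : Subgroup (N ≃ₐ[S.L] N)} {x : Ω} :
    x ∈ fx S N H ↔ ∃ y : N, (∀ τ ∈ H, τ y = y) ∧ (y : Ω) = x :=
  ⟨fun ⟨y, hy, e⟩ => ⟨y, (IntermediateField.mem_fixedField_iff H y).1 hy, e⟩,
    fun ⟨y, hy, e⟩ => ⟨y, (IntermediateField.mem_fixedField_iff H y).2 hy, e⟩⟩

theorem coe_mem_fx {N : IntermediateField S.L Ω} {H : Subgroup (N ≃ₐ[S.L] N)} {y : N}
    (hy : ∀ τ ∈ H, τ y = y) : (y : Ω) ∈ fx S N H := (mem_fx S).2 ⟨y, hy, rfl⟩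

theorem le_fx (N : IntermediateField S.L Ω) (H : Subgroup (N ≃ₐ[S.L] N)) : S.L ≤ fx S N H :=
  fun x hx => (mem_fx S).2 ⟨algebraMap S.L N ⟨x, hx⟩, fun τ _ => τ.commutes _, rfl⟩

theorem fx_le (N : IntermediateField S.L Ω) (H : Subgroup (N ≃ₐ[S.L] N)) :
    fx S N H ≤ N.toSubfield := by
  rintro x hx
  obtain ⟨y, -, rfl⟩ := (mem_fx S).1 hx
  exact y.2

theorem fx_bot (N : IntermediateField S.L Ω) : fx S N ⊥ = N.toSubfield := by
  refine le_antisymm (fx_le S N ⊥) fun x hx => (mem_fx S).2 ⟨⟨x, hx⟩, fun τ hτ => ?_, rfl⟩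
  rw [Subgroup.mem_bot.1 hτ]
  rfl

/-- If an element of `Ω` has degree `d` over `L`, then its value is in `d⁻¹ℤ`. -/
theorem val_natDegree [IsAlgClosed Ω] {x : Ω} (hx : x ≠ 0) :
    ∃ k : ℤ, S.v x = (((k : ℚ) / (minpoly S.L x).natDegree : ℚ) : WithTop ℚ) := by
  haveI := S.algebraic
  haveI : IsAlgClosure S.L Ω := ⟨inferInstance, inferInstance⟩
  have hxint : IsIntegral S.L x := Algebra.IsIntegral.isIntegral x
  obtain ⟨q, hq⟩ := val_exists S.v hx
  let P := (minpoly S.L x).map (algebraMap S.L Ω)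
  have hroot : ∀ r ∈ P.roots, S.v r = (q : WithTop ℚ) := by
    intro r hr
    have hr' : aeval r (minpoly S.L x) = 0 := by
      rw [mem_roots (map_ne_zero (minpoly.ne_zero hxint)), IsRoot, eval_map, ← aeval_def] at hr
      exact hr
    obtain ⟨σ, rfl⟩ :=
      isConjRoot_iff_exists_algEquiv.1 ((isConjRoot_iff_aeval_eq_zero hxint).2 hr').symm
    rw [S.inv, hq]
  have hprodv : ∀ s : Multiset Ω, (∀ r ∈ s, S.v r = (q : WithTop ℚ)) →
      S.v s.prod = (((s.card : ℚ) * q : ℚ) : WithTop ℚ) := by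
    intro s
    induction s using Multiset.induction_on with
    | empty => intro _; simp
    | cons a s ih =>
      intro hs
      rw [Multiset.prod_cons, v_mul S.v (hs a (Multiset.mem_cons_self a s))
        (ih fun r hr => hs r (Multiset.mem_cons_of_mem hr)), WithTop.coe_eq_coe, Multiset.card_cons]
      push_cast
      ring
  have hcard : P.roots.card = (minpoly S.L x).natDegree := by
    rw [← (IsAlgClosed.splits P).natDegree_eq_card_roots, natDegree_map]
  have h1 := Polynomial.Splits.coeff_zero_eq_prod_roots_of_monic (IsAlgClosed.splits P)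
    ((minpoly.monic hxint).map _)
  have hv := hprodv _ hroot
  have hv0 : S.v (P.coeff 0) = ((((minpoly S.L x).natDegree : ℚ) * q : ℚ) : WithTop ℚ) := by
    rw [h1, S.v.map_mul, hv, hcard, S.v.map_pow, S.v.map_neg, S.v.map_one, nsmul_zero, zero_add]
  obtain ⟨k, hk⟩ := S.discL (P.coeff 0)
    (by rw [coeff_map]; exact ((minpoly S.L x).coeff 0).2)
    (ne_zero_of_eq S.v hv0)
  rw [hv0, WithTop.coe_eq_coe, mul_one] at hk
  refine ⟨k, ?_⟩
  rw [hq, WithTop.coe_eq_coe, ← hk, mul_div_cancel_left₀]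
  exact_mod_cast (minpoly.natDegree_pos hxint).ne'

/-- A finite extension of degree prime to `p` becomes discrete with step one after adjoining a root
of the uniformizer. -/
theorem tame [IsAlgClosed Ω] (T : IntermediateField S.L Ω) [FiniteDimensional S.L T]
    (hm : ¬ S.p ∣ Module.finrank S.L T) :
    ∃ F : IntermediateField S.K Ω, FiniteDimensional S.K F ∧
      Disc S.v (comp S T.toSubfield F) (step S F) := by
  classical
  set m := Module.finrank S.L T with hmdef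
  have hm0 : (m : ℚ) ≠ 0 := by exact_mod_cast (Module.finrank_pos (R := S.L) (M := T)).ne'
  have hval : ∀ x ∈ T, x ≠ 0 → ∃ k : ℤ, S.v x = (((k : ℚ) / m : ℚ) : WithTop ℚ) := by
    intro x hx hx0
    obtain ⟨k, hk⟩ := val_natDegree S hx0
    obtain ⟨c, hc⟩ : (minpoly S.L x).natDegree ∣ m := by
      have h1 := minpoly.degree_dvd (K := S.L) (x := (⟨x, hx⟩ : T))
        (Algebra.IsIntegral.isIntegral (⟨x, hx⟩ : T))
      rw [← minpoly.algebraMap_eq (algebraMap T Ω).injective (⟨x, hx⟩ : T)] at h1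
      exact h1
    refine ⟨k * c, ?_⟩
    have hd : ((minpoly S.L x).natDegree : ℚ) ≠ 0 := fun h => hm0 (by
      rw [hc, Nat.cast_mul, h, zero_mul])
    have hc0 : (c : ℚ) ≠ 0 := fun h => hm0 (by rw [hc, Nat.cast_mul, h, mul_zero])
    rw [hk, WithTop.coe_eq_coe, hc]
    push_cast
    field_simp
  let Γ : AddSubgroup ℤ :=
    { carrier := {k | ∃ x ∈ T, x ≠ 0 ∧ S.v x = (((k : ℚ) / m : ℚ) : WithTop ℚ)}
      zero_mem' := ⟨1, one_mem _, one_ne_zero, by simp⟩
      add_mem' := by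
        rintro a b ⟨x, hx, hx0, ha⟩ ⟨y, hy, hy0, hb⟩
        refine ⟨x * y, mul_mem hx hy, mul_ne_zero hx0 hy0, ?_⟩
        rw [v_mul S.v ha hb, Int.cast_add, add_div]
      neg_mem' := by
        rintro a ⟨x, hx, hx0, ha⟩
        refine ⟨x⁻¹, inv_mem hx, inv_ne_zero hx0, ?_⟩
        rw [v_inv S.v ha, Int.cast_neg, neg_div] }
  obtain ⟨g, hg⟩ := Int.subgroup_cyclic Γ
  have hπT : S.π ∈ T := T.algebraMap_mem ⟨S.π, S.hKL S.π_mem⟩
  have hπ0 : S.π ≠ 0 := ne_zero_of_eq S.v S.v_π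
  have hmΓ : (m : ℤ) ∈ Γ := ⟨S.π, hπT, hπ0, by
    rw [S.v_π, Int.cast_natCast, div_self hm0]⟩
  obtain ⟨e₀, he₀⟩ : g ∣ (m : ℤ) := by
    rw [hg, AddSubgroup.mem_closure_singleton] at hmΓ
    obtain ⟨n, hn⟩ := hmΓ
    exact ⟨n, by rw [← hn, smul_eq_mul, mul_comm]⟩
  set e := e₀.natAbs with hedef
  have hee : (m : ℤ) = (g.natAbs : ℤ) * e := by
    rw [hedef, ← Int.natCast_mul, ← Int.natAbs_mul, ← he₀, Int.natAbs_natCast]
  have hge : (m : ℚ) = (g.natAbs : ℚ) * e := by exact_mod_cast hee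
  have he0 : e ≠ 0 := fun h => hm0 (by rw [hge, h, Nat.cast_zero, mul_zero])
  have hg0 : (g.natAbs : ℚ) ≠ 0 := fun h => hm0 (by rw [hge, h, zero_mul])
  have hpe : ¬ S.p ∣ e := fun h => hm (h.trans (Dvd.intro_left g.natAbs (by exact_mod_cast hee.symm)))
  obtain ⟨y, hy, hy0, hyv⟩ : (g.natAbs : ℤ) ∈ Γ := by
    have hgΓ : g ∈ Γ := by rw [hg]; exact AddSubgroup.mem_closure_singleton_self g
    rcases Int.natAbs_eq g with h | h
    · rwa [← h]
    · have h2 := Γ.neg_mem hgΓ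
      rwa [h, neg_neg] at h2
  have hdisc : Disc S.v T.toSubfield (1 / e) := by
    intro x hx hx0
    obtain ⟨k, hk⟩ := hval x hx hx0
    have hkΓ : k ∈ Γ := ⟨x, hx, hx0, hk⟩
    rw [hg, AddSubgroup.mem_closure_singleton] at hkΓ
    obtain ⟨n, rfl⟩ := hkΓ
    rcases Int.natAbs_eq g with h | h
    · refine ⟨n, ?_⟩
      rw [hk, WithTop.coe_eq_coe, smul_eq_mul, Int.cast_mul, h, Int.cast_natCast, hge]
      field_simp
    · refine ⟨-n, ?_⟩
      rw [hk, WithTop.coe_eq_coe, smul_eq_mul, Int.cast_mul, h, Int.cast_neg, Int.cast_natCast, hge,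
        Int.cast_neg]
      field_simp
  have hyv' : S.v y = (((1 : ℚ) / e : ℚ) : WithTop ℚ) := by
    rw [hyv, WithTop.coe_eq_coe, Int.cast_natCast, hge]
    field_simp
  have heQ : (e : ℚ) ≠ 0 := by exact_mod_cast he0
  have hw0 : S.v (y ^ e / S.π) = 0 := by
    rw [v_div S.v (v_pow S.v hyv' e) S.v_π, ← WithTop.coe_zero, WithTop.coe_eq_coe]
    field_simp
    ring
  have hLT : S.L ≤ T.toSubfield := fun x hx => T.algebraMap_mem ⟨x, hx⟩
  obtain ⟨r, hr, hre⟩ := exists_unit_root S hLT (div_mem (pow_mem hy e) hπT) hw0 hpe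
  have hr0 : r ≠ 0 := fun h => by
    rw [h, zero_pow he0] at hre
    exact div_ne_zero (pow_ne_zero _ hy0) hπ0 hre.symm
  set ρ := y / r with hρdef
  have hρT : ρ ∈ T := div_mem hy hr
  have hρe : ρ ^ e = S.π := by
    rw [hρdef, div_pow, hre]
    field_simp
  have hρv : S.v ρ = (((1 : ℚ) / e : ℚ) : WithTop ℚ) := by
    obtain ⟨q, hq⟩ := val_exists S.v (x := ρ) (div_ne_zero hy0 hr0)
    have h1 := v_pow S.v hq e
    rw [hρe, S.v_π, WithTop.coe_eq_coe] at h1
    rw [hq, WithTop.coe_eq_coe, h1, mul_div_cancel_left₀ _ heQ]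
  have hint : IsIntegral S.K ρ :=
    ⟨X ^ e - C ⟨S.π, S.π_mem⟩, monic_X_pow_sub_C _ he0, by
      rw [eval₂_sub, eval₂_X_pow, eval₂_C, hρe]; exact sub_self S.π⟩
  let F : IntermediateField S.K Ω := IntermediateField.adjoin S.K {ρ}
  haveI : FiniteDimensional S.K F := IntermediateField.adjoin.finiteDimensional hint
  have hdeg : Module.finrank S.K F ≤ e := by
    rw [IntermediateField.adjoin.finrank hint]
    refine (natDegree_le_of_dvd (minpoly.dvd S.K ρ (p := X ^ e - C ⟨S.π, S.π_mem⟩) ?_)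
      (monic_X_pow_sub_C _ he0).ne_zero).trans ?_
    · rw [map_sub, map_pow, aeval_X, aeval_C, hρe]; exact sub_self S.π
    · rw [natDegree_X_pow_sub_C]
  obtain ⟨k, hk⟩ := disc_F S F ρ (IntermediateField.mem_adjoin_simple_self _ ρ)
    (ne_zero_of_eq S.v hρv)
  have hn : (0 : ℚ) < Module.finrank S.K F := by exact_mod_cast Module.finrank_pos
  have hstep : step S F = 1 / e := by
    rw [hρv, WithTop.coe_eq_coe, step, mul_one_div, div_eq_div_iff heQ hn.ne', one_mul] at hk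
    have hk1 : (Module.finrank S.K F : ℤ) = k * e := by exact_mod_cast hk
    have h2 : (Module.finrank S.K F : ℤ) ≤ (e : ℤ) := by exact_mod_cast hdeg
    have h3 : (0 : ℤ) < Module.finrank S.K F := by exact_mod_cast Module.finrank_pos
    have h4 : k = 1 := by nlinarith
    rw [h4, one_mul] at hk1
    rw [step, show Module.finrank S.K F = e by exact_mod_cast hk1]
  refine ⟨F, inferInstance, hstep ▸ hdisc.mono S.v (sup_le le_rfl ?_)⟩
  show (IntermediateField.adjoin S.K {ρ}).toSubfield ≤ _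
  rw [IntermediateField.adjoin_toSubfield, Subfield.closure_le]
  rintro z (⟨a, rfl⟩ | hz)
  · exact hLT (S.hKL a.2)
  · rw [Set.mem_singleton_iff.1 hz]; exact hρT

end Groth.Agent.Epp23
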