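import Groth.Agent.Epp23.Equations
import Groth.Agent.Epp23.Tame
import Mathlib.GroupTheory.IndexNormal
import Mathlib.FieldTheory.Normal.Closure
import Mathlib.FieldTheory.SeparableClosure
import Mathlib.LinearAlgebra.LinearIndependent.Basic

/-!
# Epp's theorem in the valued setting
-/

set_option autoImplicit false
set_option linter.style.haveILetI false
set_option linter.unusedSectionVars false
universe u

open Polynomial

namespace Groth.Agent.Epp23

variable {Ω : Type u} [Field Ω] (S : Setup Ω)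

/-- Some finite extension of `K` makes the values on the compositum with `M` discrete with the step of
that extension. -/
def Good (M : Subfield Ω) : Prop :=
  ∃ F : IntermediateField S.K Ω, FiniteDimensional S.K F ∧ Disc S.v (comp S M F) (step S F)

theorem small_of_le (N : IntermediateField S.L Ω) [FiniteDimensional S.L N] {E : Subfield Ω}
    (h : E ≤ N.toSubfield) : Small S E := ⟨N, inferInstance, h⟩

theorem ringChar_cases (S : Setup Ω) : CharZero Ω ∨ CharP Ω S.p := by
  rcases CharP.exists' Ω with h | ⟨q, hq, hc⟩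
  · exact Or.inl h
  refine Or.inr ?_
  by_cases hqp : q = S.p
  · exact hqp ▸ hc
  exfalso
  haveI := hc
  haveI := hq
  have hp0 : ((S.p : ZMod q)) ≠ 0 := by
    rw [Ne, ZMod.natCast_eq_zero_iff]
    exact fun h => hqp ((Nat.prime_dvd_prime_iff_eq hq.out S.hp).1 h)
  have h1 := congrArg (ZMod.castHom (dvd_refl q) Ω) (ZMod.pow_card_sub_one_eq_one hp0)
  rw [map_pow, map_natCast, map_one] at h1
  have h2 := congrArg S.v h1
  rw [S.v.map_pow, S.v.map_one] at h2
  obtain ⟨r, hr⟩ := val_exists S.v (x := (S.p : Ω)) fun h0 => by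
    rw [h0, zero_pow (Nat.sub_ne_zero_of_lt hq.out.one_lt)] at h1
    exact zero_ne_one h1
  have h3 := S.v_p
  rw [hr, ← WithTop.coe_nsmul, ← WithTop.coe_zero, WithTop.coe_eq_coe, nsmul_eq_mul] at h2
  rw [hr, ← WithTop.coe_zero, WithTop.coe_lt_coe] at h3
  rcases mul_eq_zero.1 h2 with h | h
  · exact Nat.sub_ne_zero_of_lt hq.out.one_lt (by exact_mod_cast h)
  · exact h3.ne' h

/-- Roots of unity of order `p` are fixed by automorphisms of `p`-power order. -/
theorem fix_root_of_unity {N : IntermediateField S.L Ω} {ζ : N} (hζ : IsPrimitiveRoot ζ S.p)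
    {σ : N ≃ₐ[S.L] N} {n : ℕ} (hσ : σ ^ S.p ^ n = 1) : σ ζ = ζ := by
  haveI : Fact S.p.Prime := ⟨S.hp⟩
  have h1 : σ ζ ^ S.p = 1 := by rw [← map_pow, hζ.pow_eq_one, map_one]
  obtain ⟨i, hi, hiσ⟩ := hζ.eq_pow_of_pow_eq_one h1
  have hiter : ∀ k : ℕ, (σ ^ k) ζ = ζ ^ (i ^ k) := by
    intro k
    induction k with
    | zero => simp
    | succ k ih =>
      rw [pow_succ', AlgEquiv.mul_apply, ih, map_pow, ← hiσ, ← pow_mul, pow_succ' i k]
  have h2 := hiter (S.p ^ n)
  rw [hσ, AlgEquiv.one_apply] at h2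
  have h3 : ((1 : ℕ) : ZMod S.p) = ((i ^ S.p ^ n : ℕ) : ZMod S.p) := by
    rw [ZMod.natCast_eq_natCast_iff']
    refine hζ.pow_inj (Nat.mod_lt _ S.hp.pos) (Nat.mod_lt _ S.hp.pos) ?_
    rw [← pow_eq_pow_mod _ hζ.pow_eq_one, ← pow_eq_pow_mod _ hζ.pow_eq_one, pow_one]
    exact h2
  rw [Nat.cast_pow, ZMod.pow_card_pow] at h3
  rw [ZMod.natCast_eq_natCast_iff', Nat.mod_eq_of_lt hi, Nat.mod_eq_of_lt S.hp.one_lt] at h3
  rw [← hiσ, ← h3, pow_one]

variable {N : IntermediateField S.L Ω}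

theorem stab_cases [FiniteDimensional S.L N] {H H' : Subgroup (N ≃ₐ[S.L] N)} {n : ℕ}
    (hH : Nat.card H = S.p ^ n) (hH' : Nat.card H' = S.p ^ (n + 1))
    {J : Subgroup (N ≃ₐ[S.L] N)} (h1 : H ≤ J) (h2 : J ≤ H') : J = H ∨ J = H' := by
  obtain ⟨m, hm, hJ⟩ := (Nat.dvd_prime_pow S.hp).1 (hH' ▸ Subgroup.card_dvd_of_le h2)
  have hn : n ≤ m := by
    have := hH ▸ hJ ▸ Subgroup.card_dvd_of_le h1
    exact (Nat.pow_dvd_pow_iff_le_right S.hp.one_lt).1 this
  rcases Nat.lt_or_ge m (n + 1) with h | h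
  · left
    refine (Subgroup.eq_of_le_of_card_ge h1 ?_).symm
    rw [hH, hJ, show m = n by omega]
  · right
    refine Subgroup.eq_of_le_of_card_ge h2 ?_
    rw [hH', hJ, show m = n + 1 by omega]

theorem exists_sum_ne_zero (σ : N ≃ₐ[S.L] N) (U : IntermediateField S.L N)
    (hinj : ∀ i < S.p, ∀ j < S.p, (∀ u ∈ U, (σ ^ i) u = (σ ^ j) u) → i = j)
    (a : ℕ → N) (ha : a 0 ≠ 0) :
    ∃ u ∈ U, ∑ i ∈ Finset.range S.p, a i * (σ ^ i) u ≠ 0 := by
  by_contra! hall
  let f : Fin S.p → (U →* N) := fun i =>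
    ((σ ^ (i : ℕ) : N ≃ₐ[S.L] N) : N →* N).comp (U.val : U →* N)
  have hf : Function.Injective f := fun i j hij =>
    Fin.ext (hinj i i.2 j j.2 fun u hu => DFunLike.congr_fun hij ⟨u, hu⟩)
  have hli := (linearIndependent_monoidHom U N).comp f hf
  rw [Fintype.linearIndependent_iff] at hli
  refine ha (hli (fun i => a i) ?_ ⟨0, S.hp.pos⟩)
  funext u
  rw [Finset.sum_apply, Pi.zero_apply, ← hall u u.2, ← Fin.sum_univ_eq_sum_range]
  rfl

/-- One step down a chain of subgroups. -/
theorem step_down [IsAlgClosed Ω] [FiniteDimensional S.L N] [IsGalois S.L N]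
    (hζN : CharZero Ω → ∃ ζ : N, IsPrimitiveRoot (ζ : Ω) S.p)
    {H H' : Subgroup (N ≃ₐ[S.L] N)} {n : ℕ} (hH : Nat.card H = S.p ^ n)
    (hH' : Nat.card H' = S.p ^ (n + 1)) (hle : H ≤ H') (hnormal : (H.subgroupOf H').Normal)
    (hgood : Good S (fx S N H')) : Good S (fx S N H) := by
  classical
  haveI : Fact S.p.Prime := ⟨S.hp⟩
  have hne : H ≠ H' := fun h => by
    rw [h, hH'] at hH
    exact absurd (Nat.pow_right_injective S.hp.two_le hH) (Nat.succ_ne_self n)
  obtain ⟨σ, hσ', hσ⟩ : ∃ σ ∈ H', σ ∉ H := by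
    by_contra! h
    exact hne (le_antisymm hle h)
  have hconj : ∀ τ ∈ H, σ⁻¹ * τ * σ ∈ H := by
    intro τ hτ
    have h1 := hnormal.conj_mem ⟨τ, hle hτ⟩ hτ ⟨σ, hσ'⟩⁻¹
    simpa [Subgroup.mem_subgroupOf] using h1
  have hpow : ∀ i : ℕ, ∀ τ ∈ H, (σ ^ i)⁻¹ * τ * σ ^ i ∈ H := by
    intro i
    induction i with
    | zero => intro τ hτ; simpa using hτ
    | succ i ih =>
      intro τ hτ
      have := hconj _ (ih τ hτ)
      rw [pow_succ, mul_inv_rev]
      simpa [mul_assoc] using this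
  let U := IntermediateField.fixedField H
  have hUmem : ∀ {u : N}, u ∈ U ↔ ∀ τ ∈ H, τ u = u :=
    fun {u} => IntermediateField.mem_fixedField_iff H u
  have hUσ : ∀ (i : ℕ) {u : N}, u ∈ U → (σ ^ i) u ∈ U := fun i u hu => hUmem.2 fun τ hτ => by
    conv_rhs => rw [← hUmem.1 hu _ (hpow i τ hτ)]
    simp only [← AlgEquiv.mul_apply, mul_assoc, mul_inv_cancel_left]
  have hσp : σ ^ S.p ∈ H := by
    haveI := hnormal
    have hidx : (H.subgroupOf H').index = S.p := by
      have h1 := (H.subgroupOf H').card_mul_index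
      rw [Nat.card_congr (Subgroup.subgroupOfEquivOfLe hle).toEquiv, hH, hH', pow_succ] at h1
      exact Nat.eq_of_mul_eq_mul_left (pow_pos S.hp.pos n) h1
    have h2 := Subgroup.pow_index_mem (H.subgroupOf H') (⟨σ, hσ'⟩ : H')
    rw [hidx] at h2
    exact h2
  -- the stabilizer in `H'` of an element of `U`
  have hstab : ∀ {x : N}, x ∈ U →
      (σ x = x → ∀ τ ∈ H', τ x = x) ∧ (σ x ≠ x → ∀ τ ∈ H', τ x = x → τ ∈ H) := by
    intro x hx
    let J : Subgroup (N ≃ₐ[S.L] N) := H' ⊓ MulAction.stabilizer (N ≃ₐ[S.L] N) x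
    have hHJ : H ≤ J := fun τ hτ => ⟨hle hτ, hUmem.1 hx τ hτ⟩
    rcases stab_cases S hH hH' hHJ inf_le_left with h | h
    · refine ⟨fun hσx => absurd (h.le ⟨hσ', hσx⟩) hσ, fun _ τ hτ hτx => h.le ⟨hτ, hτx⟩⟩
    · refine ⟨fun _ τ hτ => (h.ge hτ).2, fun hσx => absurd (h.ge hσ').2 hσx⟩
  have hinj : ∀ i < S.p, ∀ j < S.p, (∀ u ∈ U, (σ ^ i) u = (σ ^ j) u) → i = j := by
    suffices h : ∀ i j, i < j → j < S.p → ¬ ∀ u ∈ U, (σ ^ i) u = (σ ^ j) u by
      intro i hi j hj he
      rcases lt_trichotomy i j with h' | h' | h'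
      · exact absurd he (h i j h' hj)
      · exact h'
      · exact absurd (fun u hu => (he u hu).symm) (h j i h' hi)
    intro i j hij hj he
    obtain ⟨d, rfl⟩ := Nat.exists_eq_add_of_le hij.le
    have hd : σ ^ d ∈ H := by
      have hfix : σ ^ d ∈ IntermediateField.fixingSubgroup U := by
        rw [IntermediateField.mem_fixingSubgroup_iff]
        intro u hu
        have h1 := he u hu
        rw [pow_add, AlgEquiv.mul_apply] at h1
        exact ((σ ^ i).injective h1).symm
      rwa [IntermediateField.fixingSubgroup_fixedField] at hfix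
    have hcop : Nat.Coprime d S.p :=
      ((Nat.Prime.coprime_iff_not_dvd S.hp).2 fun hdvd =>
        absurd (Nat.le_of_dvd (by omega) hdvd) (by omega)).symm
    obtain ⟨k, hk⟩ := Nat.exists_mul_mod_eq_one_of_coprime hcop S.hp.one_lt
    refine hσ ?_
    have h2 : σ ^ (d * k) ∈ H := by rw [pow_mul]; exact H.pow_mem hd k
    have hk' := hk.2
    rw [← Nat.mod_add_div (d * k) S.p, hk', pow_add, pow_one, pow_mul] at h2
    exact (H.mul_mem_cancel_right (H.pow_mem hσp _)).1 h2
  obtain ⟨F, hF, hdisc⟩ := hgood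
  haveI := hF
  -- generation
  have hgen : ∀ {z : N}, z ∈ U → σ z ≠ z → ∀ {D : Subfield Ω}, fx S N H' ≤ D → (z : Ω) ∈ D →
      fx S N H ≤ D := by
    intro z hz hσz D hD hzD
    have hLD : S.L ≤ D := (le_fx S N H').trans hD
    let D' : IntermediateField S.L N :=
      (D.comap (N.val : N →+* Ω)).toIntermediateField fun l => hLD l.2
    have hfixD : IntermediateField.fixingSubgroup D' ≤ H := by
      intro τ hτ
      rw [IntermediateField.mem_fixingSubgroup_iff] at hτ
      refine (hstab hz).2 hσz τ ?_ (hτ z hzD)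
      rw [← IntermediateField.fixingSubgroup_fixedField H', IntermediateField.mem_fixingSubgroup_iff]
      intro w hw
      exact hτ w (hD (coe_mem_fx S ((IntermediateField.mem_fixedField_iff H' w).1 hw)))
    have hUD : U ≤ D' := by
      intro u hu
      rw [← IsGalois.fixedField_fixingSubgroup D', IntermediateField.mem_fixedField_iff]
      exact fun τ hτ => hUmem.1 hu τ (hfixD hτ)
    intro x hx
    obtain ⟨u, hu, rfl⟩ := (mem_fx S).1 hx
    exact hUD (hUmem.2 hu)
  have hfinish : ∀ {z : N}, z ∈ U → σ z ≠ z → ∀ {F₀ F' : IntermediateField S.K Ω},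
      FiniteDimensional S.K F' →
      Disc S.v (comp S (comp S (fx S N H') F₀) F' ⊔ Subfield.closure {(z : Ω)}) (step S F') →
      Good S (fx S N H) := by
    intro z hz hσz F₀ F' hfin hd
    refine ⟨F', hfin, hd.mono S.v (sup_le (hgen hz hσz ?_ ?_) (le_trans le_sup_right le_sup_left))⟩
    · exact le_trans (le_trans le_sup_left le_sup_left) le_sup_left
    · exact (le_sup_right : Subfield.closure {(z : Ω)} ≤ _) (Subfield.subset_closure rfl)
  have hbase : ∀ {F₀ : IntermediateField S.K Ω} [FiniteDimensional S.K F₀],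
      Disc S.v (comp S (fx S N H') F₀) (step S F₀) → Base S (comp S (fx S N H') F₀) F₀ :=
    fun {F₀} _ hd => ⟨inferInstance, (le_fx S N H').trans le_sup_left, le_sup_right, hd,
      small_comp S (small_of_le S N (fx_le S N H')) F₀⟩
  have hshift : ∀ (i : ℕ) (u : N), σ ((σ ^ i) u) = (σ ^ (i + 1)) u := fun i u => by
    rw [pow_succ', AlgEquiv.mul_apply]
  rcases ringChar_cases S with h0 | hp
  · -- Kummer
    haveI := h0
    obtain ⟨ζ, hζ⟩ := hζN h0
    have hζN' : IsPrimitiveRoot ζ S.p :=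
      IsPrimitiveRoot.of_map_of_injective (f := N.val) hζ N.val.injective
    have hζfix : σ ζ = ζ := by
      refine fix_root_of_unity S hζN' (n := n + 1) ?_
      rw [← hH']
      exact congrArg Subtype.val (pow_card_eq_one' (G := H') (x := ⟨σ, hσ'⟩))
    have hζ0 : ζ ≠ 0 := hζN'.ne_zero S.hp.ne_zero
    obtain ⟨u, hu, hsum⟩ := exists_sum_ne_zero S σ U hinj (fun i => (ζ ^ i)⁻¹)
      (inv_ne_zero (pow_ne_zero _ hζ0))
    set θ := ∑ i ∈ Finset.range S.p, (ζ ^ i)⁻¹ * (σ ^ i) u with hθ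
    have hζU : ζ ∈ U := hUmem.2 fun τ hτ => by
      refine fix_root_of_unity S hζN' (n := n) ?_
      rw [← hH]
      exact congrArg Subtype.val (pow_card_eq_one' (G := H) (x := ⟨τ, hτ⟩))
    have hθU : θ ∈ U := sum_mem fun i _ => mul_mem (inv_mem (pow_mem hζU i)) (hUσ i hu)
    have hσθ : σ θ = ζ * θ := by
      have hterm : ∀ i, σ ((ζ ^ i)⁻¹ * (σ ^ i) u) = ζ * ((ζ ^ (i + 1))⁻¹ * (σ ^ (i + 1)) u) := by
        intro i
        rw [map_mul, map_inv₀, map_pow, hζfix, hshift, pow_succ' ζ i, mul_inv, ← mul_assoc,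
          ← mul_assoc, mul_inv_cancel₀ hζ0, one_mul]
      rw [hθ, map_sum, Finset.sum_congr rfl fun i _ => hterm i, ← Finset.mul_sum]
      congr 1
      obtain ⟨q, hq⟩ : ∃ q, S.p = q + 1 := ⟨S.p - 1, by have := S.hp.pos; omega⟩
      rw [hq, Finset.sum_range_succ, Finset.sum_range_succ' (fun i => (ζ ^ i)⁻¹ * (σ ^ i) u), ← hq,
        hζN'.pow_eq_one, hUmem.1 hu _ hσp]
      simp
    have hσθne : σ θ ≠ θ := fun h => by
      rw [hσθ] at h
      exact hζN'.ne_one S.hp.one_lt (mul_eq_right₀ hsum |>.1 h)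
    have hfixed : ∀ τ ∈ H', τ (θ ^ S.p) = θ ^ S.p :=
      (hstab (pow_mem hθU _)).1 (by rw [map_pow, hσθ, mul_pow, hζN'.pow_eq_one, one_mul])
    haveI : FiniteDimensional S.K (IntermediateField.adjoin S.K {(ζ : Ω)}) :=
      IntermediateField.adjoin.finiteDimensional
        ⟨X ^ S.p - 1, monic_X_pow_sub_C (1 : S.K) S.hp.ne_zero |> (by simpa using ·), by
          simp [hζ.pow_eq_one]⟩
    let F₁ : IntermediateField S.K Ω := F ⊔ IntermediateField.adjoin S.K {(ζ : Ω)}
    have hd₁ : Disc S.v (comp S (fx S N H') F₁) (step S F₁) := by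
      have h := (mono S (E := comp S (fx S N H') F) le_sup_right hdisc
        (le_sup_left : F ≤ F₁)).1
      rwa [comp_comp S le_sup_left] at h
    obtain ⟨F', hfin, -, hd⟩ := kummer_step S (hbase hd₁) hζ
      ((le_sup_right : _ ≤ F₁) (IntermediateField.mem_adjoin_simple_self _ _)) (z := (θ : Ω))
      (le_comp_left S _ _ (coe_mem_fx S hfixed))
    exact hfinish hθU hσθne hfin hd
  · -- Artin–Schreier
    haveI := hp
    haveI : CharP N S.p := (N.val : N →+* Ω).charP N.val.injective S.p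
    obtain ⟨u, hu, hsum⟩ := exists_sum_ne_zero S σ U hinj (fun _ => 1) one_ne_zero
    simp only [one_mul] at hsum
    set c := ∑ i ∈ Finset.range S.p, (σ ^ i) u with hc
    set θ := ∑ i ∈ Finset.range S.p, (i : N) * (σ ^ i) u with hθ
    obtain ⟨q, hq⟩ : ∃ q, S.p = q + 1 := ⟨S.p - 1, by have := S.hp.pos; omega⟩
    have hrot : ∀ f : ℕ → N, f S.p = f 0 →
        ∑ i ∈ Finset.range S.p, f (i + 1) = ∑ i ∈ Finset.range S.p, f i := fun f hf => by
      rw [hq, Finset.sum_range_succ, Finset.sum_range_succ' f, ← hq, hf]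
    have hcσ : σ c = c := by
      rw [hc, map_sum, Finset.sum_congr rfl fun i _ => hshift i u]
      refine hrot (fun i => (σ ^ i) u) ?_
      rw [hUmem.1 hu _ hσp]
      rfl
    have hθσ : σ θ = θ - c := by
      have hterm : ∀ i : ℕ, σ ((i : N) * (σ ^ i) u) =
          (((i + 1 : ℕ) : N) - 1) * (σ ^ (i + 1)) u := fun i => by
        rw [map_mul, map_natCast, hshift, Nat.cast_add, Nat.cast_one, add_sub_cancel_right]
      rw [hθ, map_sum, Finset.sum_congr rfl fun i _ => hterm i, hc, ← Finset.sum_sub_distrib]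
      rw [hrot (fun i => ((i : N) - 1) * (σ ^ i) u) ?_]
      · exact Finset.sum_congr rfl fun i _ => by ring
      · rw [hUmem.1 hu _ hσp, CharP.cast_eq_zero N S.p]
        simp
    have hcU : c ∈ U := sum_mem fun i _ => hUσ i hu
    have hθU : θ ∈ U := sum_mem fun i _ => mul_mem (natCast_mem U i) (hUσ i hu)
    set z := -θ / c with hz
    have hzU : z ∈ U := div_mem (neg_mem hθU) hcU
    have hzσ : σ z = z + 1 := by
      rw [hz, map_div₀, map_neg, hθσ, hcσ]
      field_simp
      ring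
    have hzne : σ z ≠ z := fun h => by rw [hzσ] at h; simp at h
    have hfixed : ∀ τ ∈ H', τ (z ^ S.p - z) = z ^ S.p - z :=
      (hstab (sub_mem (pow_mem hzU _) hzU)).1 (by
        rw [map_sub, map_pow, hzσ, add_pow_char, one_pow]; ring)
    obtain ⟨F', hfin, -, hd⟩ := as_step S (hbase hdisc) (z := (z : Ω))
      (le_comp_left S _ _ (coe_mem_fx S hfixed))
    exact hfinish hzU hzne hfin hd

/-- Epp's theorem for a finite Galois extension. -/
theorem good_galois [IsAlgClosed Ω] (N : IntermediateField S.L Ω) [FiniteDimensional S.L N]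
    [IsGalois S.L N] (hζN : CharZero Ω → ∃ ζ : N, IsPrimitiveRoot (ζ : Ω) S.p) :
    Good S N.toSubfield := by
  haveI : Fact S.p.Prime := ⟨S.hp⟩
  have key : ∀ (n : ℕ) (H : Subgroup (N ≃ₐ[S.L] N)), Nat.card H = S.p ^ n →
      Good S (fx S N H) → Good S N.toSubfield := by
    intro n
    induction n with
    | zero =>
      intro H hH hg
      rw [pow_zero, Subgroup.card_eq_one] at hH
      rwa [hH, fx_bot] at hg
    | succ n ih =>
      intro H hH hg
      obtain ⟨K', hK'⟩ := Sylow.exists_subgroup_card_pow_prime (G := H) S.p (n := n)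
        (by rw [hH]; exact pow_dvd_pow _ n.le_succ)
      have hidx : K'.index = (Nat.card H).minFac := by
        rw [hH, Nat.pow_minFac n.succ_ne_zero, S.hp.minFac_eq]
        have h1 := K'.card_mul_index
        rw [hK', hH, pow_succ] at h1
        exact Nat.eq_of_mul_eq_mul_left (pow_pos S.hp.pos n) h1
      haveI := Subgroup.normal_of_index_eq_minFac_card hidx
      have hcard : Nat.card (K'.map H.subtype) = S.p ^ n := by
        rw [← hK']
        exact (Nat.card_congr (K'.equivMapOfInjective _ H.subtype_injective).toEquiv).symm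
      have hsub : (K'.map H.subtype).subgroupOf H = K' :=
        Subgroup.comap_map_eq_self_of_injective H.subtype_injective K'
      refine ih _ hcard (step_down S hζN hcard hH (Subgroup.map_subtype_le K') ?_ hg)
      rw [hsub]
      infer_instance
  obtain ⟨P⟩ : Nonempty (Sylow S.p (N ≃ₐ[S.L] N)) := inferInstance
  obtain ⟨n, hn⟩ := IsPGroup.iff_card.1 P.2
  refine key n P hn ?_
  let T : IntermediateField S.L N := IntermediateField.fixedField (P : Subgroup (N ≃ₐ[S.L] N))
  have hT : Module.finrank S.L T = (P : Subgroup (N ≃ₐ[S.L] N)).index := by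
    rw [IntermediateField.finrank_eq_fixingSubgroup_index, IntermediateField.fixingSubgroup_fixedField]
  haveI : FiniteDimensional S.L (IntermediateField.lift T) :=
    Module.Finite.equiv (IntermediateField.liftAlgEquiv T).toLinearEquiv
  obtain ⟨F, hF, hd⟩ := tame S (IntermediateField.lift T) (by
    rw [← (IntermediateField.liftAlgEquiv T).toLinearEquiv.finrank_eq, hT]
    exact P.not_dvd_index)
  refine ⟨F, hF, hd.mono S.v (sup_le_sup_right ?_ _)⟩
  rintro x ⟨y, hy, rfl⟩
  exact (IntermediateField.mem_lift y).2 hy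

/-- Epp's theorem in the valued setting. -/
theorem good [IsAlgClosed Ω] {M : Subfield Ω} (hM : Small S M) : Good S M := by
  classical
  haveI := S.algebraic
  haveI : IsAlgClosure S.L Ω := ⟨inferInstance, inferInstance⟩
  haveI : Normal S.L Ω := IsAlgClosure.normal S.L Ω
  haveI : Fact S.p.Prime := ⟨S.hp⟩
  -- include a root of unity
  obtain ⟨M₀, hM₀, hle, hζ⟩ : ∃ M₀ : IntermediateField S.L Ω, FiniteDimensional S.L M₀ ∧
      M ≤ M₀.toSubfield ∧ (CharZero Ω → ∃ ζ ∈ M₀, IsPrimitiveRoot ζ S.p) := by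
    obtain ⟨M₁, hM₁, hle⟩ := hM
    haveI := hM₁
    by_cases h0 : CharZero Ω
    · haveI := h0
      haveI : NeZero ((S.p : ℕ) : Ω) := ⟨by exact_mod_cast S.hp.ne_zero⟩
      obtain ⟨ζ, hζ⟩ := HasEnoughRootsOfUnity.exists_primitiveRoot Ω S.p
      haveI : FiniteDimensional S.L (IntermediateField.adjoin S.L {ζ}) :=
        IntermediateField.adjoin.finiteDimensional (Algebra.IsIntegral.isIntegral ζ)
      exact ⟨M₁ ⊔ IntermediateField.adjoin S.L {ζ}, inferInstance,
        fun x hx => (le_sup_left : M₁ ≤ M₁ ⊔ IntermediateField.adjoin S.L {ζ}) (hle hx),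
        fun _ => ⟨ζ, (le_sup_right : _ ≤ M₁ ⊔ IntermediateField.adjoin S.L {ζ})
          (IntermediateField.mem_adjoin_simple_self _ _), hζ⟩⟩
    · exact ⟨M₁, hM₁, hle, fun h => absurd h h0⟩
  haveI := hM₀
  let N := IntermediateField.normalClosure S.L M₀ Ω
  have hMN : M₀ ≤ N := IntermediateField.le_normalClosure M₀
  let Ns := IntermediateField.lift (separableClosure S.L N)
  haveI : FiniteDimensional S.L Ns :=
    Module.Finite.equiv (IntermediateField.liftAlgEquiv (separableClosure S.L N)).toLinearEquiv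
  haveI : IsGalois S.L Ns :=
    IsGalois.of_algEquiv (IntermediateField.liftAlgEquiv (separableClosure S.L N))
  have hNs : CharZero Ω → N ≤ Ns := fun h0 x hx => by
    haveI := h0
    haveI : CharZero S.L := ⟨fun a b h => Nat.cast_injective (R := Ω) (by
      simpa using congrArg (S.L.subtype) h)⟩
    exact (IntermediateField.mem_lift (⟨x, hx⟩ : N)).2
      (mem_separableClosure_iff.2 (Algebra.IsSeparable.isSeparable S.L _))
  have hgal : Good S Ns.toSubfield := good_galois S Ns fun h0 => by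
    obtain ⟨ζ, hζm, hζ⟩ := hζ h0
    exact ⟨⟨ζ, hNs h0 (hMN hζm)⟩, hζ⟩
  rcases ringChar_cases S with h0 | hp
  · obtain ⟨F, hF, hd⟩ := hgal
    exact ⟨F, hF, hd.mono S.v (sup_le_sup_right (hle.trans fun x hx => hNs h0 (hMN hx)) _)⟩
  haveI := hp
  haveI : CharP S.L S.p := (S.L.subtype).charP S.L.subtype_injective S.p
  have hiter : ∀ j, Good S (Ns.toSubfield.comap (iterateFrobenius Ω S.p j)) := by
    intro j
    induction j with
    | zero =>
      obtain ⟨F, hF, hd⟩ := hgal
      refine ⟨F, hF, hd.mono S.v (sup_le_sup_right (fun x hx => ?_) _)⟩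
      have hx' : iterateFrobenius Ω S.p 0 x ∈ Ns.toSubfield := hx
      rwa [iterateFrobenius_def, pow_zero, pow_one] at hx'
    | succ j ih =>
      obtain ⟨F, hF, hd⟩ := ih
      haveI := hF
      obtain ⟨F', hF', -, hd'⟩ := insep_step S
        (E := comp S (Ns.toSubfield.comap (iterateFrobenius Ω S.p j)) F)
        (M := Ns.toSubfield.comap (iterateFrobenius Ω S.p (j + 1))) le_sup_right hd
        (fun x hx => le_comp_left S _ _ (by
          show iterateFrobenius Ω S.p j (x ^ S.p) ∈ Ns.toSubfield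
          have hx' : iterateFrobenius Ω S.p (j + 1) x ∈ Ns.toSubfield := hx
          rw [iterateFrobenius_def] at hx' ⊢
          rwa [← pow_mul, ← pow_succ']))
      exact ⟨F', hF', hd'⟩
  -- a uniform exponent
  obtain ⟨s, hs⟩ := M₀.fg_of_fg_toSubalgebra
    ((Subalgebra.fg_iff_finiteType _).2 (inferInstanceAs (Algebra.FiniteType S.L M₀)))
  have hexp : ∀ x ∈ s, ∃ j : ℕ, x ^ S.p ^ j ∈ Ns := by
    intro x hx
    have hxN : x ∈ N := hMN (by rw [← hs]; exact IntermediateField.subset_adjoin _ _ hx)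
    haveI : ExpChar S.L S.p := ExpChar.prime S.hp
    obtain ⟨j, y, hy⟩ := IsPurelyInseparable.pow_mem (separableClosure S.L N) S.p (⟨x, hxN⟩ : N)
    refine ⟨j, ?_⟩
    have h1 := (IntermediateField.mem_lift (y : N)).2 y.2
    have h2 := congrArg (Subtype.val : N → Ω) hy
    rw [show x ^ S.p ^ j = ((y : N) : Ω) from h2.symm]
    exact h1
  choose! e he using hexp
  obtain ⟨F, hF, hd⟩ := hiter (s.sup e)
  refine ⟨F, hF, hd.mono S.v (sup_le_sup_right (hle.trans ?_) _)⟩
  rw [← hs, IntermediateField.adjoin_toSubfield, Subfield.closure_le]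
  rintro x (⟨a, rfl⟩ | hx)
  · show iterateFrobenius Ω S.p _ _ ∈ Ns.toSubfield
    rw [iterateFrobenius_def]
    exact pow_mem (Ns.algebraMap_mem a) _
  · show iterateFrobenius Ω S.p _ x ∈ Ns.toSubfield
    obtain ⟨t, ht⟩ := Nat.exists_eq_add_of_le (Finset.le_sup (f := e) hx)
    rw [iterateFrobenius_def, ht, pow_add, pow_mul]
    exact pow_mem (he x hx) _

end Groth.Agent.Epp23
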