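import Mathlib.FieldTheory.Perfect
import Mathlib.FieldTheory.IsSepClosed
import Mathlib.FieldTheory.SeparableClosure
import Mathlib.FieldTheory.PurelyInseparable.PerfectClosure
import Mathlib.FieldTheory.IntermediateField.Adjoin.Basic

/-!
# The elements with `p ^ n`-th roots for all `n`
-/

set_option autoImplicit false
set_option linter.style.haveILetI false
universe u

open Polynomial

namespace Groth.Agent.Epp23

variable (p : ℕ) [hp : Fact p.Prime] (κ : Type u) [Field κ] [CharP κ p]

/-- The largest perfect subfield. -/
def perfCore : Subfield κ := ⨅ n : ℕ, (iterateFrobenius κ p n).fieldRange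

theorem mem_perfCore {x : κ} : x ∈ perfCore p κ ↔ ∀ n : ℕ, ∃ y, y ^ p ^ n = x := by
  simp only [perfCore, Subfield.mem_iInf, RingHom.mem_fieldRange, iterateFrobenius_def]

theorem perfectRing_perfCore : PerfectRing (perfCore p κ) p := by
  haveI : CharP (perfCore p κ) p := ((perfCore p κ).subtype).charP (perfCore p κ).subtype_injective p
  refine PerfectRing.ofSurjective _ p fun x => ?_
  obtain ⟨y, hy⟩ := (mem_perfCore p κ).1 x.2 1
  rw [pow_one] at hy
  refine ⟨⟨y, (mem_perfCore p κ).2 fun n => ?_⟩, Subtype.ext (by simpa [frobenius_def] using hy)⟩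
  obtain ⟨z, hz⟩ := (mem_perfCore p κ).1 x.2 (n + 1)
  refine ⟨z, frobenius_inj κ p ?_⟩
  rw [frobenius_def, frobenius_def, hy, ← hz, ← pow_mul, pow_succ]

theorem isAlgClosed_perfCore [IsSepClosed κ] : IsAlgClosed (perfCore p κ) := by
  haveI := perfectRing_perfCore p κ
  haveI : CharP (perfCore p κ) p := ((perfCore p κ).subtype).charP (perfCore p κ).subtype_injective p
  haveI : PerfectField (perfCore p κ) := PerfectRing.toPerfectField _ p
  refine IsAlgClosed.of_exists_root _ fun P hPm hPirr => ?_
  have hPsep : P.Separable := PerfectField.separable_of_irreducible hPirr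
  have hdeg : (P.map (algebraMap (perfCore p κ) κ)).degree ≠ 0 := by
    rw [degree_map]
    exact (degree_pos_of_irreducible hPirr).ne'
  obtain ⟨x, hx⟩ := IsSepClosed.exists_root (P.map (algebraMap (perfCore p κ) κ)) hdeg hPsep.map
  rw [IsRoot, eval_map, ← aeval_def] at hx
  have hxint : IsIntegral (perfCore p κ) x := ⟨P, hPm, hx⟩
  let E := IntermediateField.adjoin (perfCore p κ) ({x} : Set κ)
  haveI : FiniteDimensional (perfCore p κ) E := IntermediateField.adjoin.finiteDimensional hxint
  haveI : PerfectField E := Algebra.IsAlgebraic.perfectField (K := perfCore p κ)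
  haveI : CharP E p := charP_of_injective_algebraMap (algebraMap (perfCore p κ) E).injective p
  haveI : PerfectRing E p := PerfectField.toPerfectRing p
  have hxmem : x ∈ perfCore p κ := (mem_perfCore p κ).2 fun n => by
    obtain ⟨y, hy⟩ := (bijective_iterateFrobenius (R := E) p n).2
      ⟨x, IntermediateField.mem_adjoin_simple_self _ x⟩
    refine ⟨(y : κ), ?_⟩
    have h := congrArg (Subtype.val : E → κ) hy
    rw [iterateFrobenius_def] at h
    simpa using h
  refine ⟨⟨x, hxmem⟩, (perfCore p κ).subtype_injective ?_⟩
  rw [map_zero]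
  exact (eval₂_at_apply (perfCore p κ).subtype ⟨x, hxmem⟩).symm.trans hx

/-- The minimal polynomial of a separable element with separable roots of all orders has coefficients
in the perfect core. -/
theorem coeff_minpoly_mem_perfCore {K : Type u} [Field K] [Algebra κ K] {x : K}
    (h : ∀ n : ℕ, ∃ y : K, IsSeparable κ y ∧ y ^ p ^ n = x) (i : ℕ) :
    (minpoly κ x).coeff i ∈ perfCore p κ := by
  refine (mem_perfCore p κ).2 fun n => ?_
  obtain ⟨y, hy, hyx⟩ := h n
  haveI : CharP K p := charP_of_injective_algebraMap (algebraMap κ K).injective p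
  have hxint : IsIntegral κ x := hyx ▸ hy.isIntegral.pow _
  have heq : minpoly κ x = (minpoly κ y).map (iterateFrobenius κ p n) := by
    set q := (minpoly κ y).map (iterateFrobenius κ p n)
    have hq : aeval x q = 0 := by
      rw [aeval_def, eval₂_map]
      have h1 : (algebraMap κ K).comp (iterateFrobenius κ p n) =
          (iterateFrobenius K p n).comp (algebraMap κ K) :=
        RingHom.ext fun a => by simp [iterateFrobenius_def]
      rw [h1, ← hyx, show y ^ p ^ n = iterateFrobenius K p n y from (iterateFrobenius_def p n y).symm,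
        ← hom_eval₂, ← aeval_def, minpoly.aeval, map_zero]
    haveI : ExpChar κ p := ExpChar.prime hp.out
    have hfr : (minpoly κ x).natDegree = (minpoly κ y).natDegree := by
      rw [← IntermediateField.adjoin.finrank hxint, ← IntermediateField.adjoin.finrank hy.isIntegral,
        IntermediateField.adjoin_simple_eq_adjoin_pow_expChar_pow_of_isSeparable κ K hy p n, hyx]
    refine eq_of_monic_of_dvd_of_natDegree_le (minpoly.monic hxint) ((minpoly.monic hy.isIntegral).map _)
      (minpoly.dvd κ x hq) ?_ |>.symm
    rw [natDegree_map, hfr]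
  exact ⟨(minpoly κ y).coeff i, by rw [heq, coeff_map, iterateFrobenius_def]⟩

/-- If every element with roots of all orders is separable over `k`, the same holds in an extension in
which the roots can be taken separable. -/
theorem isSeparable_of_roots {k : Type u} [Field k] [Algebra k κ]
    (hres : ∀ c ∈ perfCore p κ, IsSeparable k c) {K : Type u} [Field K] [Algebra κ K] [Algebra k K]
    [IsScalarTower k κ K] {x : K} (h : ∀ n : ℕ, ∃ y : K, IsSeparable κ y ∧ y ^ p ^ n = x) :
    IsSeparable k x := by
  obtain ⟨y, hy, hyx⟩ := h 0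
  rw [pow_zero, pow_one] at hyx
  subst hyx
  set T := separableClosure k κ
  have hcoef : ∀ i, (minpoly κ y).coeff i ∈ T := fun i =>
    mem_separableClosure_iff.2 (hres _ (coeff_minpoly_mem_perfCore p κ h i))
  obtain ⟨P, hPmap⟩ := (mem_lifts (f := algebraMap T κ) (minpoly κ y)).1
    ((lifts_iff_coeff_lifts _).2 fun i => ⟨⟨_, hcoef i⟩, rfl⟩)
  have hPsep : P.Separable := (separable_map (algebraMap T κ)).1 (hPmap ▸ hy)
  have hPy : aeval y P = 0 := by
    rw [← aeval_map_algebraMap κ, hPmap, minpoly.aeval]
  haveI : Algebra.IsSeparable k T := inferInstance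
  have hyT : IsSeparable T y := hPsep.of_dvd (minpoly.dvd T y hPy)
  exact IsSeparable.of_algebra_isSeparable_of_isSeparable k hyT

end Groth.Agent.Epp23
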