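import Groth.Agent.Epp23.Approx
import Groth.Agent.Epp23.PerfCore
import Groth.Agent.EtAlg23.HenselBasic
import Mathlib.RingTheory.AdicCompletion.Basic
import Mathlib.RingTheory.Henselian
import Mathlib.RingTheory.LocalRing.ResidueField.Basic
import Mathlib.RingTheory.DiscreteValuationRing.Basic
import Mathlib.FieldTheory.Normal.Basic

/-!
# Algebraic approximations of the elements of the smallest model
-/

set_option autoImplicit false
set_option linter.style.haveILetI false
universe u

open IsLocalRing Polynomial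

namespace Groth.Agent.Epp23

theorem pow_sub_pow_mem {R : Type u} [CommRing R] (I : Ideal R) {p : ℕ} (hp : (p : R) ∈ I) {a b : R}
    {k : ℕ} (h : a - b ∈ I ^ (k + 1)) : a ^ p - b ^ p ∈ I ^ (k + 2) := by
  rw [← geom_sum₂_mul, pow_succ' I (k + 1)]
  refine Ideal.mul_mem_mul ?_ h
  have hab : Ideal.Quotient.mk I a = Ideal.Quotient.mk I b :=
    Ideal.Quotient.eq.2 (Ideal.pow_le_self (Nat.succ_ne_zero k) h)
  rw [← Ideal.Quotient.eq_zero_iff_mem, map_sum]
  have : ∀ i ∈ Finset.range p, Ideal.Quotient.mk I (a ^ i * b ^ (p - 1 - i)) =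
      Ideal.Quotient.mk I b ^ (p - 1) := fun i hi => by
    rw [map_mul, map_pow, map_pow, hab, ← pow_add]
    congr 1
    have := Finset.mem_range.1 hi
    omega
  rw [Finset.sum_congr rfl this, Finset.sum_const, Finset.card_range, nsmul_eq_mul,
    ← map_natCast (Ideal.Quotient.mk I), Ideal.Quotient.eq_zero_iff_mem.2 hp, zero_mul]

theorem pow_pow_sub_mem {R : Type u} [CommRing R] (I : Ideal R) {p : ℕ} (hp : (p : R) ∈ I) {a b : R}
    (h : a - b ∈ I) : ∀ n : ℕ, a ^ p ^ n - b ^ p ^ n ∈ I ^ (n + 1)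
  | 0 => by simpa using h
  | n + 1 => by
    rw [pow_succ p n, pow_mul, pow_mul]
    exact pow_sub_pow_mem I hp (pow_pow_sub_mem I hp h n)

variable {Ω : Type u} [Field Ω] (v : AddValuation Ω (WithTop ℚ))

/-- The elements with all conjugates in a subfield form a field. -/
theorem conj_mem_of_mem_adjoin [IsAlgClosed Ω] (K₀ : Subfield Ω) (T : Subfield Ω) (hT : K₀ ≤ T)
    {x : Ω}
    (hx : x ∈ IntermediateField.adjoin K₀
      {u : Ω | IsSeparable K₀ u ∧ ∀ r, aeval r (minpoly K₀ u) = 0 → r ∈ T}) :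
    IsSeparable K₀ x ∧ ∀ r, aeval r (minpoly K₀ x) = 0 → r ∈ T := by
  classical
  obtain ⟨t, ht, hxt⟩ := IntermediateField.exists_finset_of_mem_adjoin hx
  let P : K₀[X] := ∏ u ∈ t, minpoly K₀ u
  have hPne : P ≠ 0 := Finset.prod_ne_zero_iff.2 fun u hu => minpoly.ne_zero (ht hu).1.isIntegral
  have hProot : ∀ z : Ω, aeval z P = 0 ↔ ∃ u ∈ t, aeval z (minpoly K₀ u) = 0 := fun z => by
    rw [map_prod, Finset.prod_eq_zero_iff]
  let G := IntermediateField.adjoin K₀ (P.rootSet Ω)
  haveI : Algebra.IsSeparable K₀ G :=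
    (IntermediateField.isSeparable_adjoin_iff_isSeparable K₀ Ω).2 (fun z hz => by
      obtain ⟨u, hu, hzu⟩ := (hProot z).1 (mem_rootSet.1 hz).2
      exact (ht hu).1.of_dvd (minpoly.dvd K₀ z hzu))
  haveI : IsSplittingField K₀ G P :=
    IntermediateField.adjoin_rootSet_isSplittingField (IsAlgClosed.splits _)
  haveI : Normal K₀ G := Normal.of_isSplittingField P
  have hxG : x ∈ G := IntermediateField.adjoin.mono K₀ _ _
    (fun u hu => mem_rootSet.2 ⟨hPne, (hProot u).2 ⟨u, hu, minpoly.aeval _ _⟩⟩) hxt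
  have hGT : ∀ z ∈ G, z ∈ T := by
    have hle : G.toSubfield ≤ T := by
      rw [IntermediateField.adjoin_toSubfield, Subfield.closure_le]
      rintro w (⟨a, rfl⟩ | hw)
      · exact hT a.2
      · obtain ⟨u, hu, hwu⟩ := (hProot w).1 (mem_rootSet.1 hw).2
        exact (ht hu).2 w hwu
    exact fun z hz => hle hz
  have hmin : minpoly K₀ (⟨x, hxG⟩ : G) = minpoly K₀ x :=
    (minpoly.algHom_eq G.val G.val.injective _).symm
  refine ⟨by rw [IsSeparable, ← hmin]; exact Algebra.IsSeparable.isSeparable K₀ _, fun r hr => ?_⟩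
  have hne := minpoly.ne_zero (Algebra.IsIntegral.isIntegral (R := K₀) (⟨x, hxG⟩ : G))
  have hr' : r ∈ ((minpoly K₀ (⟨x, hxG⟩ : G)).map (algebraMap K₀ Ω)).roots := by
    rw [mem_roots (map_ne_zero hne), IsRoot, eval_map, ← aeval_def, hmin]
    exact hr
  rw [IsScalarTower.algebraMap_eq K₀ G Ω, ← Polynomial.map_map,
    (Normal.splits inferInstance _).roots_map, Multiset.mem_map] at hr'
  obtain ⟨b, -, rfl⟩ := hr'
  exact hGT _ b.2

variable {A₀ C A : Type u} [CommRing A₀] [IsDomain A₀] [IsDiscreteValuationRing A₀]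
  [IsAdicComplete (maximalIdeal A₀) A₀] [IsAlgClosed (ResidueField A₀)]
  [CommRing C] [IsLocalRing C] [CommRing A] [IsLocalRing A]
  (j : A₀ →+* C) (ι : C →+* Ω) (i : A →+* C) [IsLocalHom j] [IsLocalHom i]
  (p : ℕ) [hp : Fact p.Prime] [CharP (ResidueField A) p] [CharP (ResidueField C) p]
  (Ks S : Subfield Ω) (δ : ℚ)

/-- An element of the model lifting a residue with roots of all orders downstairs is in the closure
of the lower field. -/
theorem exists_mem_clos (hδ : 0 < δ) (hdeep : ∀ n : ℕ, ∀ c ∈ maximalIdeal C ^ n,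
      (((n : ℚ) * δ : ℚ) : WithTop ℚ) ≤ v (ι c))
    (hA : ∀ a, ι (i a) ∈ Ks) {c : ResidueField A} (hc : ∀ n : ℕ, ∃ y, y ^ p ^ n = c)
    (hcj : ∀ y : ResidueField A, (∀ n : ℕ, ∃ z, z ^ p ^ n = y) →
      ∃ w : ResidueField A₀, ResidueField.map j w = ResidueField.map i y) :
    ∃ w : A₀, ι (j w) ∈ clos v Ks ∧ residue C (j w) = ResidueField.map i c := by
  classical
  have hpA₀ : (p : A₀) ∈ maximalIdeal A₀ := by
    rw [← residue_eq_zero_iff, map_natCast]
    refine (ResidueField.map j).injective ?_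
    rw [map_natCast, map_zero, CharP.cast_eq_zero]
  have hpC : (p : C) ∈ maximalIdeal C := by
    rw [← residue_eq_zero_iff, map_natCast, CharP.cast_eq_zero]
  have hroot : ∀ n : ℕ, ∃ (y : A) (w : A₀), residue A y ^ p ^ n = c ∧
      residue C (j w) = residue C (i y) := by
    intro n
    obtain ⟨y, hy⟩ := hc n
    have hy' : ∀ m : ℕ, ∃ z, z ^ p ^ m = y := fun m => by
      obtain ⟨z, hz⟩ := hc (n + m)
      refine ⟨z, iterateFrobenius_inj (ResidueField A) p n ?_⟩
      rw [iterateFrobenius_def, iterateFrobenius_def, ← pow_mul, ← pow_add, hy, add_comm m n, hz]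
    obtain ⟨w, hw⟩ := hcj y hy'
    obtain ⟨y, rfl⟩ := residue_surjective y
    obtain ⟨w, rfl⟩ := residue_surjective w
    exact ⟨y, w, hy, hw⟩
  choose y w hy hw using hroot
  let s : ℕ → A₀ := fun n => w n ^ p ^ n
  have hstep : ∀ n, w (n + 1) ^ p - w n ∈ maximalIdeal A₀ := fun n => by
    rw [← residue_eq_zero_iff]
    refine (ResidueField.map j).injective ?_
    rw [map_zero, ResidueField.map_residue, map_sub, map_pow, map_sub, map_pow, hw, hw, sub_eq_zero,
      ← ResidueField.map_residue i, ← ResidueField.map_residue i, ← map_pow]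
    refine congrArg _ (iterateFrobenius_inj (ResidueField A) p n ?_)
    rw [iterateFrobenius_def, iterateFrobenius_def, ← pow_mul, ← pow_succ', hy, hy]
  have hcauchy : ∀ m n, m ≤ n → s m - s n ∈ maximalIdeal A₀ ^ m := by
    intro m n hmn
    induction n, hmn using Nat.le_induction with
    | base => rw [sub_self]; exact zero_mem _
    | succ n hmn ih =>
      rw [show s m - s (n + 1) = (s m - s n) - (s (n + 1) - s n) by ring]
      refine sub_mem ih (Ideal.pow_le_pow_right (hmn.trans n.le_succ) ?_)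
      show w (n + 1) ^ p ^ (n + 1) - w n ^ p ^ n ∈ _
      rw [pow_succ' p n, pow_mul]
      exact pow_pow_sub_mem _ hpA₀ (hstep n) n
  obtain ⟨L, hL⟩ := IsPrecomplete.prec (I := maximalIdeal A₀) inferInstance (f := s)
    (fun {m n} hmn => by
      rw [SModEq.sub_mem, smul_eq_mul, Ideal.mul_top]
      exact hcauchy m n hmn)
  have hnear : ∀ n, j L - i (y n) ^ p ^ n ∈ maximalIdeal C ^ n := by
    intro n
    have h1 : s n - L ∈ maximalIdeal A₀ ^ n := by
      have := hL n
      rwa [SModEq.sub_mem, smul_eq_mul, Ideal.mul_top] at this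
    have h2 : j (s n - L) ∈ maximalIdeal C ^ n := by
      have h := Ideal.mem_map_of_mem j h1
      rw [Ideal.map_pow] at h
      exact Ideal.pow_right_mono (Ideal.map_le_iff_le_comap.2 (fun x hx => Ideal.mem_comap.2 (map_nonunit j x hx)) :
        (maximalIdeal A₀).map j ≤ maximalIdeal C) n h
    have h3 : j (w n) ^ p ^ n - i (y n) ^ p ^ n ∈ maximalIdeal C ^ n :=
      Ideal.pow_le_pow_right n.le_succ (pow_pow_sub_mem _ hpC (by
        rw [← residue_eq_zero_iff, map_sub, hw, sub_self]) n)
    rw [map_sub, show j (s n) = j (w n) ^ p ^ n from map_pow j _ _] at h2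
    have := sub_mem h3 h2
    rwa [show j (w n) ^ p ^ n - i (y n) ^ p ^ n - (j (w n) ^ p ^ n - j L) = j L - i (y n) ^ p ^ n by ring]
      at this
  refine ⟨L, (mem_clos v).2 fun M => ?_, ?_⟩
  · obtain ⟨n, hn⟩ := exists_nat_gt ((M : ℚ) / δ)
    refine ⟨ι (i (y n ^ p ^ n)), hA _, lt_of_lt_of_le ?_ (?_ : (((n : ℚ) * δ : ℚ) : WithTop ℚ) ≤ _)⟩
    · rw [WithTop.coe_lt_coe]
      rwa [div_lt_iff₀ hδ] at hn
    · rw [← map_sub, map_pow i]
      exact hdeep n _ (hnear n)
  · have h1 := hnear 1
    rw [pow_one, pow_one, ← residue_eq_zero_iff, map_sub, sub_eq_zero] at h1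
    rw [h1, map_pow, ← ResidueField.map_residue, ← map_pow]
    have := hy 1
    rw [pow_one] at this
    rw [this]

/-- The model is contained in the closure of the field of the elements that are algebraic with all
conjugates inside. -/
theorem dense_model (hj : Function.Injective j) (hι : Function.Injective ι) (hδ : 0 < δ)
    (hdeep : ∀ n : ℕ, ∀ c ∈ maximalIdeal C ^ n, (((n : ℚ) * δ : ℚ) : WithTop ℚ) ≤ v (ι c))
    (hA : ∀ a, ι (i a) ∈ Ks) (hS : ∀ a, ι (j a) ∈ S) {ϖ : A₀} (hϖ : Irreducible ϖ)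
    (hϖKs : ι (j ϖ) ∈ clos v Ks)
    (hperf : ∀ x : ResidueField C, x ∈ perfCore p (ResidueField C) ↔ ∃ a, residue C (j a) = x)
    (hsep : ∀ x ∈ perfCore p (ResidueField C),
      letI := (ResidueField.map i).toAlgebra; IsSeparable (ResidueField A) x)
    [IsAlgClosed Ω] (a : A₀) :
    ι (j a) ∈ clos v (IntermediateField.adjoin (S ⊓ clos v Ks : Subfield Ω)
      {u : Ω | IsSeparable (S ⊓ clos v Ks : Subfield Ω) u ∧
        ∀ r, aeval r (minpoly (S ⊓ clos v Ks : Subfield Ω) u) = 0 → r ∈ S}).toSubfield := by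
  classical
  letI := (ResidueField.map i).toAlgebra
  set K₀ : Subfield Ω := S ⊓ clos v Ks
  set U : Set Ω := {u : Ω | IsSeparable K₀ u ∧ ∀ r, aeval r (minpoly K₀ u) = 0 → r ∈ S}
  set G := IntermediateField.adjoin K₀ U
  haveI : HenselianLocalRing A₀ := EtAlg23.henselianLocalRing_of_henselianRing A₀
  haveI : CharP (ResidueField A₀) p :=
    ((ResidueField.map j).charP_iff (ResidueField.map j).injective p).2 inferInstance
  -- lifting the coefficients
  have hcoef : ∀ x ∈ perfCore p (ResidueField C), ∀ n : ℕ,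
      ∃ w : A₀, ι (j w) ∈ K₀ ∧ residue C (j w) =
        ResidueField.map i ((minpoly (ResidueField A) x).coeff n) := by
    intro x hx n
    haveI : PerfectRing (perfCore p (ResidueField C)) p := perfectRing_perfCore p _
    have hc := coeff_minpoly_mem_perfCore p (ResidueField A) (x := x) (fun m => by
      obtain ⟨z, hz⟩ := (mem_perfCore p _).1 hx m
      refine ⟨z, hsep z ((mem_perfCore p _).2 fun q => ?_), hz⟩
      obtain ⟨y, hy⟩ := (mem_perfCore p _).1 hx (m + q)
      refine ⟨y, iterateFrobenius_inj (ResidueField C) p m ?_⟩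
      rw [iterateFrobenius_def, iterateFrobenius_def, ← pow_mul, ← pow_add, hz, add_comm q m, hy]) n
    obtain ⟨w, hw, hw'⟩ := exists_mem_clos v j ι i p Ks δ hδ hdeep hA ((mem_perfCore p _).1 hc)
      (fun y hy => by
        obtain ⟨a, ha⟩ := (hperf (ResidueField.map i y)).1 ((mem_perfCore p _).2 fun m => by
          obtain ⟨z, hz⟩ := hy m
          exact ⟨ResidueField.map i z, by rw [← map_pow, hz]⟩)
        exact ⟨residue A₀ a, ha⟩)
    exact ⟨w, ⟨hS w, hw⟩, hw'⟩
  -- one digit
  have hdigit : ∀ a : A₀, ∃ u ∈ G, ∃ a' : A₀, ι (j a) = u + ι (j ϖ) * ι (j a') := by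
    intro a
    set x := residue C (j a)
    have hx : x ∈ perfCore p (ResidueField C) := (hperf x).2 ⟨a, rfl⟩
    have hxs : IsSeparable (ResidueField A) x := hsep x hx
    choose w hwK hwres using hcoef x hx
    set m := minpoly (ResidueField A) x
    set d := m.natDegree
    let f : A₀[X] := X ^ d + ∑ n ∈ Finset.range d, Polynomial.C (w n) * X ^ n
    have hf : f.Monic := monic_X_pow_add (by
      rw [← Fin.sum_univ_eq_sum_range (fun n => Polynomial.C (w n) * X ^ n) d]
      exact degree_sum_fin_lt _)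
    have hfd : f.natDegree = d := by
      refine natDegree_eq_of_degree_eq_some ?_
      rw [degree_add_eq_left_of_degree_lt, degree_X_pow]
      rw [degree_X_pow, ← Fin.sum_univ_eq_sum_range (fun n => Polynomial.C (w n) * X ^ n) d]
      exact degree_sum_fin_lt _
    have hfres : (f.map (residue A₀)).map (ResidueField.map j) = m.map (ResidueField.map i) := by
      rw [Polynomial.map_map]
      ext n
      rw [coeff_map, coeff_map, coeff_add, coeff_X_pow, finsetSum_coeff]
      simp only [coeff_C_mul_X_pow, Finset.sum_ite_eq, Finset.mem_range, RingHom.comp_apply,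
        ResidueField.map_residue]
      rcases lt_trichotomy n d with h | h | h
      · rw [if_neg h.ne, if_pos h, zero_add, hwres]
      · subst h
        simp [m, d, (minpoly.monic hxs.isIntegral).coeff_natDegree]
      · rw [if_neg h.ne', if_neg (not_lt.2 h.le), add_zero, map_zero, map_zero,
          coeff_eq_zero_of_natDegree_lt h, map_zero]
    have hfsep : (f.map (residue A₀)).Separable :=
      (separable_map (ResidueField.map j)).1 (hfres ▸ Polynomial.Separable.map hxs)
    -- Hensel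
    have hlift : ∀ z ∈ (f.map (residue A₀)).roots, ∃ b : A₀, f.IsRoot b ∧ residue A₀ b = z := by
      intro z hz
      obtain ⟨a₀, rfl⟩ := residue_surjective z
      have hz' := (mem_roots (hf.map _).ne_zero).1 hz
      rw [IsRoot, eval_map, eval₂_at_apply] at hz'
      obtain ⟨b, hb, hba⟩ := HenselianLocalRing.is_henselian f hf a₀
        ((residue_eq_zero_iff _).1 hz') (by
          rw [← notMem_maximalIdeal, ← residue_eq_zero_iff, ← eval₂_at_apply, ← eval_map, ← derivative_map]
          have h := hfsep.eval₂_derivative_ne_zero (RingHom.id _) (x := residue A₀ a₀) (by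
            rw [← eval_map, Polynomial.map_id, eval_map, eval₂_at_apply]; exact hz')
          rwa [← eval_map, Polynomial.map_id] at h)
      refine ⟨b, hb, ?_⟩
      rw [← sub_eq_zero, ← map_sub, residue_eq_zero_iff]
      exact hba
    choose! β hβroot hβres using hlift
    let F : Ω[X] := f.map (ι.comp j)
    have hFne : F ≠ 0 := (hf.map _).ne_zero
    have hβinj : Set.InjOn (fun z => ι (j (β z))) {z | z ∈ (f.map (residue A₀)).roots} := by
      intro z hz z' hz' h
      rw [← hβres z hz, ← hβres z' hz', hj (hι h)]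
    have hnodup : (((f.map (residue A₀)).roots.map fun z => ι (j (β z))) : Multiset Ω).Nodup :=
      (nodup_roots hfsep).map_on fun z hz z' hz' h => hβinj hz hz' h
    have hsub : ((f.map (residue A₀)).roots.map fun z => ι (j (β z))) ≤ F.roots := by
      rw [Multiset.le_iff_subset hnodup]
      intro b hb
      obtain ⟨z, hz, rfl⟩ := Multiset.mem_map.1 hb
      rw [mem_roots hFne, IsRoot, eval_map, show ι (j (β z)) = (ι.comp j) (β z) from rfl,
        eval₂_at_apply, (hβroot z hz : f.eval (β z) = 0), map_zero]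
    have heq := Multiset.eq_of_le_of_card_le hsub (by
      rw [Multiset.card_map, ← (IsAlgClosed.splits F).natDegree_eq_card_roots,
        ← (IsAlgClosed.splits (f.map (residue A₀))).natDegree_eq_card_roots, hf.natDegree_map,
        hf.natDegree_map])
    have hFsep : F.Separable :=
      (nodup_roots_iff_of_splits hFne (IsAlgClosed.splits F)).1 (heq ▸ hnodup)
    obtain ⟨P, hP⟩ := (mem_lifts (f := algebraMap K₀ Ω) F).1 ((lifts_iff_coeff_lifts _).2 fun n => by
      rw [coeff_map, coeff_add, coeff_X_pow, finsetSum_coeff]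
      simp only [coeff_C_mul_X_pow, Finset.sum_ite_eq, Finset.mem_range]
      split_ifs with h1 h2 h2
      · omega
      · exact ⟨1, by simp⟩
      · exact ⟨⟨_, hwK n⟩, by rw [zero_add]; rfl⟩
      · exact ⟨0, by simp⟩)
    have hza : residue A₀ a ∈ (f.map (residue A₀)).roots := by
      rw [mem_roots (hf.map _).ne_zero, IsRoot]
      refine (ResidueField.map j).injective ?_
      rw [map_zero, ← eval₂_hom, ← eval_map, hfres, ResidueField.map_residue, eval_map]
      exact minpoly.aeval (ResidueField A) x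
    set b := β (residue A₀ a)
    have hbroot : aeval (ι (j b)) P = 0 := by
      rw [aeval_def, ← eval_map, hP, ← IsRoot, ← mem_roots hFne, ← heq]
      exact Multiset.mem_map.2 ⟨_, hza, rfl⟩
    have hbU : ι (j b) ∈ U := by
      refine ⟨((separable_map (algebraMap K₀ Ω)).1 (hP ▸ hFsep)).of_dvd (minpoly.dvd K₀ _ hbroot),
        fun r hr => ?_⟩
      have hrF : r ∈ F.roots := by
        rw [mem_roots hFne, IsRoot, ← hP, eval_map, ← aeval_def]
        exact aeval_eq_zero_of_dvd_aeval_eq_zero (minpoly.dvd K₀ _ hbroot) hr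
      rw [← heq, Multiset.mem_map] at hrF
      obtain ⟨z, -, rfl⟩ := hrF
      exact hS _
    obtain ⟨a', ha'⟩ : ϖ ∣ a - b := by
      rw [← Ideal.mem_span_singleton, ← (IsDiscreteValuationRing.irreducible_iff_uniformizer ϖ).1 hϖ,
        ← residue_eq_zero_iff, map_sub, hβres _ hza, sub_self]
    refine ⟨ι (j b), IntermediateField.subset_adjoin _ _ hbU, a', ?_⟩
    rw [← map_mul, ← map_mul, ← ha', map_sub, map_sub, add_sub_cancel]
  have hϖG : ι (j ϖ) ∈ G :=
    G.algebraMap_mem ⟨_, hS ϖ, hϖKs⟩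
  have hexp : ∀ n : ℕ, ∀ a : A₀, ∃ u ∈ G, ∃ a', ι (j a) = u + ι (j ϖ) ^ n * ι (j a') := by
    intro n
    induction n with
    | zero => exact fun a => ⟨0, G.zero_mem, a, by rw [pow_zero, one_mul, zero_add]⟩
    | succ n ih =>
      intro a
      obtain ⟨u, hu, a', ha⟩ := ih a
      obtain ⟨u', hu', a'', ha'⟩ := hdigit a'
      refine ⟨u + ι (j ϖ) ^ n * u', G.add_mem hu (G.mul_mem (pow_mem hϖG n) hu'), a'', ?_⟩
      rw [ha, ha', pow_succ]
      ring
  refine (mem_clos v).2 fun M => ?_
  obtain ⟨n, hn⟩ := exists_nat_gt ((M : ℚ) / δ)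
  obtain ⟨u, hu, a', ha⟩ := hexp n a
  refine ⟨u, hu, lt_of_lt_of_le ?_ (?_ : (((n : ℚ) * δ : ℚ) : WithTop ℚ) ≤ _)⟩
  · rw [WithTop.coe_lt_coe]
    rwa [div_lt_iff₀ hδ] at hn
  · rw [ha, add_sub_cancel_left, ← map_pow ι, ← map_mul ι]
    refine hdeep n _ (Ideal.mul_mem_right _ _ ?_)
    exact Ideal.pow_mem_pow (map_nonunit j ϖ ((mem_maximalIdeal ϖ).2 hϖ.not_isUnit)) n

end Groth.Agent.Epp23
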