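import Groth.Agent.Epp23.Core
import Groth.Agent.Epp23.Approx
import Mathlib.FieldTheory.SeparableClosure
import Mathlib.FieldTheory.SeparableDegree
import Mathlib.FieldTheory.PrimitiveElement
import Mathlib.FieldTheory.Normal.Basic
import Mathlib.FieldTheory.PurelyInseparable.Exponent

/-!
# Descending the extension of Epp's theorem to a dense subfield
-/

set_option autoImplicit false
set_option linter.style.haveILetI false
set_option linter.unusedSectionVars false
set_option synthInstance.maxHeartbeats 200000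
set_option maxHeartbeats 800000
universe u

open Polynomial

namespace Groth.Agent.Epp23

variable {Ω : Type u} [Field Ω] (S : Setup Ω)

/-- Embeddings of finite extensions of `K` keep values. -/
def KInv : Prop :=
  ∀ T : IntermediateField S.K Ω, FiniteDimensional S.K T →
    ∀ (φ : T →ₐ[S.K] Ω) (x : T), S.v (φ x) = S.v (x : Ω)

/-- Krasner's lemma over a finite extension of `K`. -/
theorem krasner_K [IsAlgClosed Ω] (hK : KInv S) (M : IntermediateField S.K Ω) [FiniteDimensional S.K M]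
    {z y : Ω} (hz : IsSeparable M z) (hy : y ∈ M) {c : ℚ} (hzy : (c : WithTop ℚ) < S.v (z - y))
    (hfar : ∀ r, aeval r (minpoly M z) = 0 → r ≠ z → S.v (r - z) ≤ (c : WithTop ℚ)) : z ∈ M := by
  have hall : ∀ r : Ω, aeval r (minpoly M z) = 0 → r = z := by
    intro r hr
    by_contra hne
    let T : IntermediateField M Ω := IntermediateField.adjoin M {z}
    haveI : FiniteDimensional M T := IntermediateField.adjoin.finiteDimensional hz.isIntegral
    haveI : FiniteDimensional S.K T := FiniteDimensional.trans S.K M T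
    have hrm : r ∈ (minpoly M z).aroots Ω :=
      mem_aroots.2 ⟨minpoly.ne_zero hz.isIntegral, hr⟩
    let φ : T →ₐ[M] Ω :=
      (IntermediateField.algHomAdjoinIntegralEquiv M hz.isIntegral).symm ⟨r, hrm⟩
    have hφ : φ (IntermediateField.AdjoinSimple.gen M z) = r :=
      IntermediateField.algHomAdjoinIntegralEquiv_symm_apply_gen M hz.isIntegral _
    let φ' : (T.restrictScalars S.K) →ₐ[S.K] Ω :=
      { φ.toRingHom with commutes' := fun k => φ.commutes (algebraMap S.K M k) }
    have hyT : y ∈ T := T.algebraMap_mem ⟨y, hy⟩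
    have h := hK (T.restrictScalars S.K) (inferInstanceAs (FiniteDimensional S.K T)) φ'
      ⟨z - y, sub_mem (IntermediateField.mem_adjoin_simple_self M z) hyT⟩
    have hval : φ' ⟨z - y, sub_mem (IntermediateField.mem_adjoin_simple_self M z) hyT⟩ = r - y := by
      show φ (IntermediateField.AdjoinSimple.gen M z - ⟨y, hyT⟩) = r - y
      rw [map_sub, hφ, show (⟨y, hyT⟩ : T) = algebraMap M T ⟨y, hy⟩ from rfl, φ.commutes]
      rfl
    rw [hval] at h
    have h1 : (c : WithTop ℚ) < S.v (r - y) := h ▸ hzy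
    exact absurd (hfar r hr hne) (not_le.2 (v_sub_gt S.v h1 (by rw [S.v.map_sub_swap]; exact hzy)))
  have hcard : ((minpoly M z).rootSet Ω).ncard ≤ 1 := by
    refine (Set.ncard_le_ncard (t := {z}) ?_ (Set.finite_singleton z)).trans (Set.ncard_singleton z).le
    intro r hr
    exact hall r (mem_rootSet.1 hr).2
  rw [← Nat.card_coe_set_eq, Nat.card_eq_fintype_card,
    card_rootSet_eq_natDegree hz (IsAlgClosed.splits _)] at hcard
  have h1 : (minpoly M z).natDegree = 1 :=
    le_antisymm hcard (minpoly.natDegree_pos hz.isIntegral)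
  obtain ⟨a, rfl⟩ := minpoly.natDegree_eq_one_iff.1 h1
  exact a.2

/-- A root of the uniformizer capturing all purely inseparable elements of bounded exponent. -/
theorem exists_perfect_root [IsAlgClosed Ω] (F : IntermediateField S.K Ω) [FiniteDimensional S.K F] :
    ∃ (Q : ℕ) (r : Ω), 0 < Q ∧ r ^ Q = S.π ∧ (∀ x y : Ω, x ^ Q = y ^ Q → x = y) ∧
      (∀ (s : Finset ℕ) (f : ℕ → Ω), (∑ i ∈ s, f i) ^ Q = ∑ i ∈ s, f i ^ Q) ∧
      (∀ c ∈ S.K, ∃ y ∈ IntermediateField.adjoin S.K ({r} : Set Ω), y ^ Q = c) ∧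
      ∀ x ∈ F, x ^ Q ∈ IntermediateField.lift (separableClosure S.K F) ∧
        ∀ θ ∈ IntermediateField.lift (separableClosure S.K F),
          IntermediateField.adjoin S.K ({θ} : Set Ω) = IntermediateField.adjoin S.K {θ ^ Q} := by
  rcases ringChar_cases S with h0 | hp
  · haveI := h0
    haveI : CharZero S.K := ⟨fun a b h => Nat.cast_injective (R := Ω) (by
      simpa using congrArg (S.K.subtype) h)⟩
    refine ⟨1, S.π, one_pos, pow_one _, fun x y h => by simpa using h, fun s f => by simp,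
      fun c hc => ⟨c, IntermediateField.algebraMap_mem _ (⟨c, hc⟩ : S.K), pow_one c⟩,
      fun x hx => ⟨?_, fun θ _ => by rw [pow_one]⟩⟩
    rw [pow_one]
    exact (IntermediateField.mem_lift (⟨x, hx⟩ : F)).2
      (mem_separableClosure_iff.2 (Algebra.IsSeparable.isSeparable S.K _))
  · haveI := hp
    haveI : Fact S.p.Prime := ⟨S.hp⟩
    haveI : CharP S.K S.p := (S.K.subtype).charP S.K.subtype_injective S.p
    haveI : ExpChar S.K S.p := ExpChar.prime S.hp
    haveI : ExpChar (separableClosure S.K F) S.p :=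
      expChar_of_injective_algebraMap (algebraMap S.K (separableClosure S.K F)).injective S.p
    obtain ⟨n, hn⟩ : ∃ n, ∀ x : F, x ^ S.p ^ n ∈ separableClosure S.K F := by
      refine ⟨IsPurelyInseparable.exponent (separableClosure S.K F) F, fun x => ?_⟩
      obtain ⟨y, hy⟩ :=
        IsPurelyInseparable.exponent_def' (separableClosure S.K F) S.p x
      rw [← hy]
      exact y.2
    have hQ : 0 < S.p ^ n := pow_pos S.hp.pos n
    have hinj : ∀ x y : Ω, x ^ S.p ^ n = y ^ S.p ^ n → x = y := fun x y h =>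
      iterateFrobenius_inj Ω S.p n (by simpa [iterateFrobenius_def] using h)
    have hbotrank : Module.finrank S.K (⊥ : IntermediateField S.K Ω) = 1 := IntermediateField.finrank_bot
    have hbot : step S (⊥ : IntermediateField S.K Ω) = 1 := by
      rw [step, hbotrank, Nat.cast_one, div_one]
    obtain ⟨F', r, hF', -, hrF', hr, -, hstep, hgen⟩ := exists_root_ext' S
      (⊥ : IntermediateField S.K Ω) (ϖ := S.π)
      ((⊥ : IntermediateField S.K Ω).algebraMap_mem ⟨_, S.π_mem⟩) (by rw [hbot, S.v_π]) hQ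
    haveI := hF'
    have hF'le : F' ≤ IntermediateField.adjoin S.K ({r} : Set Ω) := fun x hx => by
      refine (sup_le ?_ ?_ : (⊥ : IntermediateField S.K Ω).toSubfield ⊔ Subfield.closure {r} ≤
        (IntermediateField.adjoin S.K ({r} : Set Ω)).toSubfield) (hgen hx)
      · exact fun a ha => (bot_le : (⊥ : IntermediateField S.K Ω) ≤ _) ha
      · exact Subfield.closure_le.2 (Set.singleton_subset_iff.2
          (IntermediateField.mem_adjoin_simple_self S.K r))
    refine ⟨S.p ^ n, r, hQ, hr, hinj, fun s f => sum_pow_char_pow S.p n s f, fun c hc => ?_, fun x hx => ⟨?_, fun θ hθ => ?_⟩⟩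
    · obtain ⟨y, hy⟩ := IsAlgClosed.exists_pow_nat_eq c hQ
      have hint : ∀ z ∈ ({r, y} : Set Ω), IsIntegral S.K z := by
        rintro z (rfl | rfl)
        · exact ⟨X ^ S.p ^ n - C ⟨S.π, S.π_mem⟩, monic_X_pow_sub_C _ hQ.ne', by
            rw [eval₂_sub, eval₂_X_pow, eval₂_C, hr]; exact sub_self S.π⟩
        · exact ⟨X ^ S.p ^ n - C ⟨c, hc⟩, monic_X_pow_sub_C _ hQ.ne', by
            rw [eval₂_sub, eval₂_X_pow, eval₂_C, hy]; exact sub_self c⟩
      let G := IntermediateField.adjoin S.K ({r, y} : Set Ω)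
      haveI : FiniteDimensional S.K G := IntermediateField.finiteDimensional_adjoin hint
      have hpowK : ∀ z ∈ G, z ^ S.p ^ n ∈ S.K := by
        intro z hz
        have hle : G.toSubfield ≤ S.K.comap (iterateFrobenius Ω S.p n) := by
          rw [IntermediateField.adjoin_toSubfield, Subfield.closure_le]
          rintro w (⟨a, rfl⟩ | rfl | rfl)
          · show iterateFrobenius Ω S.p n a ∈ S.K
            rw [iterateFrobenius_def]; exact pow_mem a.2 _
          · show iterateFrobenius Ω S.p n w ∈ S.K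
            rw [iterateFrobenius_def, hr]; exact S.π_mem
          · show iterateFrobenius Ω S.p n w ∈ S.K
            rw [iterateFrobenius_def, hy]; exact hc
        have h : iterateFrobenius Ω S.p n z ∈ S.K := hle hz
        rwa [iterateFrobenius_def] at h
      obtain ⟨w, hwG, hwv⟩ := exists_uniformizer S G
      obtain ⟨k, hk⟩ := S.discL _ (S.hKL (hpowK w hwG))
        (pow_ne_zero _ (ne_zero_of_eq S.v hwv))
      rw [v_pow S.v hwv, WithTop.coe_eq_coe, mul_one] at hk
      have hgpos : (0 : ℚ) < Module.finrank S.K G := by exact_mod_cast Module.finrank_pos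
      rw [step, mul_one_div, div_eq_iff hgpos.ne'] at hk
      have hk' : ((S.p ^ n : ℕ) : ℤ) = k * Module.finrank S.K G := by exact_mod_cast hk
      have hkpos : 0 < k := by
        by_contra hneg
        have h1 : k * (Module.finrank S.K G : ℤ) ≤ 0 :=
          mul_nonpos_of_nonpos_of_nonneg (not_lt.1 hneg) (Nat.cast_nonneg _)
        rw [← hk'] at h1
        exact absurd h1 (not_le.2 (by exact_mod_cast hQ))
      have hle : Module.finrank S.K G ≤ S.p ^ n := by
        have h1 : (Module.finrank S.K G : ℤ) ≤ ((S.p ^ n : ℕ) : ℤ) := by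
          rw [hk']
          exact le_mul_of_one_le_left (Nat.cast_nonneg _) hkpos
        exact_mod_cast h1
      have hsub : F' ≤ G := hF'le.trans (IntermediateField.adjoin.mono _ _ _ (by simp))
      have hrank : Module.finrank S.K F' = S.p ^ n := by
        rw [hbot] at hstep
        rw [step, one_div, one_div, inv_inj] at hstep
        exact_mod_cast hstep
      have heq : F' = G := IntermediateField.eq_of_le_of_finrank_le hsub (by rw [hrank]; exact hle)
      exact ⟨y, hF'le (heq ▸ IntermediateField.subset_adjoin _ _ (by simp)), hy⟩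
    · exact (IntermediateField.mem_lift (⟨x, hx⟩ ^ S.p ^ n : F)).2 (hn ⟨x, hx⟩)
    · have hθF : θ ∈ F := IntermediateField.lift_le _ hθ
      have hsep : IsSeparable S.K θ := by
        have h := mem_separableClosure_iff.1 ((IntermediateField.mem_lift (⟨θ, hθF⟩ : F)).1 hθ)
        rw [IsSeparable, ← minpoly.algHom_eq F.val F.val.injective] at h
        exact h
      exact IntermediateField.adjoin_simple_eq_adjoin_pow_expChar_pow_of_isSeparable S.K Ω hsep S.p n

/-- A finite extension of `K` with a uniformizer approximated by algebraic elements over `K₀`. -/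
theorem exists_model [IsAlgClosed Ω] (hK : KInv S) (E : Subfield Ω) (hE : Small S E)
    (K₀ : Subfield Ω) (hK₀ : K₀ ≤ S.K)
    (hU : ∀ x ∈ S.K, ∀ M : ℕ, ∃ u ∈ S.K, IsSeparable K₀ u ∧
      (∀ r, aeval r (minpoly K₀ u) = 0 → r ∈ S.K) ∧ ((M : ℚ) : WithTop ℚ) < S.v (x - u)) :
    ∃ (F₂ : IntermediateField S.K Ω) (Q : ℕ) (r : Ω) (t : Finset Ω) (ϖ' : Ω),
      FiniteDimensional S.K F₂ ∧ 0 < Q ∧ r ^ Q = S.π ∧ (∀ x y : Ω, x ^ Q = y ^ Q → x = y) ∧
      r ∈ F₂ ∧ Disc S.v (comp S E F₂) (step S F₂) ∧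
      (∀ x ∈ t, IsSeparable K₀ x ∧ ∀ z : Ω, aeval z (minpoly K₀ x) = 0 → z ∈ F₂) ∧
      ϖ' ∈ IntermediateField.adjoin K₀ ((↑t : Set Ω) ∪ {r}) ∧
      S.v ϖ' = (step S F₂ : WithTop ℚ) := by
  classical
  obtain ⟨F, hF, hdF⟩ := good S hE
  haveI := hF
  obtain ⟨Q, r, hQ, hrQ, hQinj, hQsum, hperf, hFs⟩ := exists_perfect_root S F
  -- a generator of the separable part
  obtain ⟨θF, hθF⟩ := Field.exists_primitive_element S.K (separableClosure S.K F)
  set θ : Ω := ((θF : F) : Ω) with hθdef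
  have hθsep : IsSeparable S.K θ := by
    have h := mem_separableClosure_iff.1 θF.2
    rw [IsSeparable, ← minpoly.algHom_eq F.val F.val.injective] at h
    exact h
  set f := (minpoly S.K θ).map (algebraMap S.K Ω) with hfdef
  have hfm : f.Monic := (minpoly.monic hθsep.isIntegral).map _
  have hfs : f.Separable := Polynomial.Separable.map hθsep
  set d := (minpoly S.K θ).natDegree with hd
  have hfd : f.natDegree = d := natDegree_map _
  have hθf : θ ∈ f.roots := (mem_roots hfm.ne_zero).2 (by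
    rw [IsRoot, hfdef, eval_map, ← aeval_def, minpoly.aeval])
  obtain ⟨c, hc0, hsepf⟩ := exists_sep S.v f.roots.toFinset
  obtain ⟨N, hN⟩ := roots_near S.v hfm hfs d hfd c
  -- algebraic approximations of the coefficients
  choose u hu husep huroot huv using fun i => hU (f.coeff i) (by
    rw [hfdef, coeff_map]; exact ((minpoly S.K θ).coeff i).2) N
  let Kc : IntermediateField K₀ Ω := IntermediateField.adjoin K₀ (Set.range u)
  haveI : Algebra.IsSeparable K₀ Kc :=
    (IntermediateField.isSeparable_adjoin_iff_isSeparable K₀ Ω).2 (by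
      rintro _ ⟨i, rfl⟩; exact husep i)
  let gc : Kc[X] := X ^ d + ∑ i ∈ Finset.range d,
    C (⟨u i, IntermediateField.subset_adjoin _ _ ⟨i, rfl⟩⟩ : Kc) * X ^ i
  have hgcm : gc.Monic := monic_X_pow_add (by
    rw [← Fin.sum_univ_eq_sum_range (fun i => C (⟨u i, IntermediateField.subset_adjoin _ _ ⟨i, rfl⟩⟩ : Kc) * X ^ i) d]
    exact degree_sum_fin_lt _)
  set g := gc.map (algebraMap Kc Ω) with hgdef
  have hgd : g.natDegree = d := by
    rw [natDegree_map]
    refine natDegree_eq_of_degree_eq_some ?_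
    rw [degree_add_eq_left_of_degree_lt, degree_X_pow]
    rw [degree_X_pow, ← Fin.sum_univ_eq_sum_range (fun i => C (⟨u i, IntermediateField.subset_adjoin _ _ ⟨i, rfl⟩⟩ : Kc) * X ^ i) d]
    exact degree_sum_fin_lt _
  have hcoef : ∀ i, g.coeff i = if i = d then 1 else if i < d then u i else 0 := by
    intro i
    rw [hgdef, coeff_map, coeff_add, coeff_X_pow, finsetSum_coeff]
    simp only [coeff_C_mul_X_pow, Finset.sum_ite_eq, Finset.mem_range]
    rcases lt_trichotomy i d with h | h | h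
    · rw [if_neg h.ne, if_pos h, if_neg h.ne, if_pos h, zero_add]; rfl
    · subst h; simp
    · rw [if_neg h.ne', if_neg (not_lt.2 h.le), if_neg h.ne', if_neg (not_lt.2 h.le), add_zero, map_zero]
  obtain ⟨hgs, hfg, -, -⟩ := hN g (hgcm.map _) hgd fun i => by
    rw [hcoef]
    split_ifs with h1 h2
    · rw [h1, show f.coeff d = 1 from hfd ▸ hfm.coeff_natDegree, sub_self, S.v.map_zero]
      exact WithTop.coe_lt_top _
    · exact huv i
    · rw [coeff_eq_zero_of_natDegree_lt (by omega), sub_self, S.v.map_zero]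
      exact WithTop.coe_lt_top _
  obtain ⟨θ₁, hθ₁, hθθ₁⟩ := hfg θ hθf
  have hθ₁gc : aeval θ₁ gc = 0 := by
    have h := (mem_roots (hgcm.map (algebraMap Kc Ω)).ne_zero).1 hθ₁
    rwa [IsRoot, eval_map, ← aeval_def] at h
  have hθ₁sep : IsSeparable K₀ θ₁ := by
    have h1 : IsSeparable Kc θ₁ :=
      (separable_map (algebraMap Kc Ω)).1 hgs |>.of_dvd (minpoly.dvd Kc θ₁ hθ₁gc)
    exact IsSeparable.of_algebra_isSeparable_of_isSeparable K₀ h1
  -- the extension `F₂` of `K`
  set R₁ := (minpoly K₀ θ₁).rootSet Ω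
  letI : Algebra K₀ S.K := (Subfield.inclusion hK₀).toAlgebra
  haveI : IsScalarTower K₀ S.K Ω := .of_algebraMap_eq fun _ => rfl
  have hR₁ : ∀ z ∈ R₁ ∪ {r}, IsIntegral S.K z := by
    rintro z (hz | rfl)
    · have hzK₀ : IsIntegral K₀ z :=
        ⟨minpoly K₀ θ₁, minpoly.monic hθ₁sep.isIntegral, (mem_rootSet.1 hz).2⟩
      exact hzK₀.tower_top
    · exact ⟨X ^ Q - C ⟨S.π, S.π_mem⟩, monic_X_pow_sub_C _ hQ.ne', by
        rw [eval₂_sub, eval₂_X_pow, eval₂_C, hrQ]; exact sub_self S.π⟩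
  haveI : Finite ↥(R₁ ∪ {r}) := ((rootSet_finite _ _).union (Set.finite_singleton r)).to_subtype
  let F₂ := IntermediateField.adjoin S.K (R₁ ∪ {r})
  haveI : FiniteDimensional S.K F₂ := IntermediateField.finiteDimensional_adjoin hR₁
  have hθ₁F₂ : θ₁ ∈ F₂ := IntermediateField.subset_adjoin _ _
    (Or.inl (mem_rootSet.2 ⟨minpoly.ne_zero hθ₁sep.isIntegral, minpoly.aeval _ _⟩))
  have hrF₂ : r ∈ F₂ := IntermediateField.subset_adjoin _ _ (Or.inr rfl)
  have hθF₂ : θ ∈ F₂ := by
    refine krasner_K S hK F₂ (hθsep.tower_top F₂) hθ₁F₂ hθθ₁ fun z hz hne => ?_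
    have hz' : z ∈ f.roots := (mem_roots hfm.ne_zero).2 (by
      rw [IsRoot, hfdef, eval_map, ← aeval_def]
      have h := minpoly.dvd_map_of_isScalarTower S.K F₂ θ
      have h2 := aeval_eq_zero_of_dvd_aeval_eq_zero h hz
      rwa [aeval_map_algebraMap] at h2)
    exact hsepf z (Multiset.mem_toFinset.2 hz') θ (Multiset.mem_toFinset.2 hθf) hne
  have hFF₂ : F ≤ F₂ := by
    intro x hx
    obtain ⟨hxQ, hadj⟩ := hFs x hx
    have hθlift : θ ∈ IntermediateField.lift (separableClosure S.K F) :=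
      (IntermediateField.mem_lift (θF : F)).2 θF.2
    have hgenθ : IntermediateField.lift (separableClosure S.K F) = IntermediateField.adjoin S.K {θ} := by
      apply le_antisymm
      · rintro z hz
        obtain ⟨z', hz', rfl⟩ := hz
        have h1 : (⟨z', hz'⟩ : separableClosure S.K F) ∈ (⊤ : IntermediateField S.K (separableClosure S.K F)) :=
          IntermediateField.mem_top
        rw [← hθF] at h1
        have h2 : F.val ((separableClosure S.K F).val ⟨z', hz'⟩) ∈ (IntermediateField.adjoin S.K {θF}).map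
            (F.val.comp (separableClosure S.K F).val) := ⟨_, h1, rfl⟩
        rwa [IntermediateField.adjoin_map, Set.image_singleton] at h2
      · exact IntermediateField.adjoin_le_iff.2 (Set.singleton_subset_iff.2 hθlift)
    rw [hgenθ, hadj θ hθlift] at hxQ
    have halg : x ^ Q ∈ Algebra.adjoin S.K ({θ ^ Q} : Set Ω) := by
      rwa [← IntermediateField.mem_toSubalgebra,
        IntermediateField.adjoin_simple_toSubalgebra_of_isAlgebraic
          ((hθsep.isIntegral.pow Q).isAlgebraic)] at hxQ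
    rw [Algebra.adjoin_singleton_eq_range_aeval, AlgHom.mem_range] at halg
    obtain ⟨P, hP⟩ := halg
    choose y hy hyQ using fun i => hperf (P.coeff i : Ω) (P.coeff i).2
    have hyF₂ : ∀ i, y i ∈ F₂ := fun i =>
      (IntermediateField.adjoin.mono _ _ _ Set.subset_union_right : _ ≤ F₂) (hy i)
    have hx' : x = ∑ i ∈ Finset.range (P.natDegree + 1), y i * θ ^ i := by
      refine hQinj _ _ ?_
      rw [← hP, aeval_eq_sum_range, hQsum]
      exact Finset.sum_congr rfl fun i _ => by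
        rw [Algebra.smul_def, mul_pow, hyQ, ← pow_mul, ← pow_mul, mul_comm i]; rfl
    rw [hx']
    exact sum_mem fun i _ => mul_mem (hyF₂ i) (pow_mem hθF₂ i)
  have hd₂ : Disc S.v (comp S E F₂) (step S F₂) := by
    have h := (mono S (E := comp S E F) le_sup_right hdF hFF₂).1
    rwa [comp_comp S hFF₂] at h
  obtain ⟨ϖ₂, hϖ₂, hϖ₂v⟩ := exists_uniformizer S F₂
  -- an algebraic element of the same value
  let T : Set Ω := {x | IsSeparable K₀ x ∧ ∀ z, aeval z (minpoly K₀ x) = 0 → z ∈ F₂}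
  let H := IntermediateField.adjoin K₀ (T ∪ {r})
  have hθ₁T : θ₁ ∈ T := ⟨hθ₁sep, fun z hz => IntermediateField.subset_adjoin _ _
    (Or.inl (mem_rootSet.2 ⟨minpoly.ne_zero hθ₁sep.isIntegral, hz⟩))⟩
  have hR₁T : R₁ ⊆ T := by
    intro z hz
    have hmin : minpoly K₀ z = minpoly K₀ θ₁ :=
      (minpoly.eq_of_irreducible_of_monic (minpoly.irreducible hθ₁sep.isIntegral) (mem_rootSet.1 hz).2
        (minpoly.monic hθ₁sep.isIntegral)).symm
    refine ⟨?_, fun w hw => hθ₁T.2 w (hmin ▸ hw)⟩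
    rw [IsSeparable, hmin]; exact hθ₁sep
  have hF₂clos : F₂.toSubfield ≤ clos S.v H.toSubfield := by
    rw [IntermediateField.adjoin_toSubfield, Subfield.closure_le]
    rintro x (⟨a, rfl⟩ | hx)
    · refine (mem_clos S.v).2 fun M => ?_
      obtain ⟨w, hw, hwsep, hwroot, hwv⟩ := hU a a.2 M
      refine ⟨w, IntermediateField.subset_adjoin _ _ (Or.inl ⟨hwsep, fun z hz => ?_⟩), hwv⟩
      exact F₂.algebraMap_mem ⟨z, hwroot z hz⟩
    · refine le_clos S.v _ (IntermediateField.subset_adjoin _ _ ?_)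
      rcases hx with hx | hx
      · exact Or.inl (hR₁T hx)
      · exact Or.inr hx
  obtain ⟨M₀, hM₀⟩ := exists_nat_gt (step S F₂)
  obtain ⟨ϖ', hϖ'H, hϖ'near⟩ := (mem_clos S.v).1 (hF₂clos hϖ₂) M₀
  have hϖ'v : S.v ϖ' = (step S F₂ : WithTop ℚ) := by
    rw [← hϖ₂v]
    exact S.v.map_eq_of_lt_sub (by
      rw [S.v.map_sub_swap, hϖ₂v]; exact lt_trans (WithTop.coe_lt_coe.2 hM₀) hϖ'near)
  obtain ⟨t, htsub, hϖ't⟩ := IntermediateField.exists_finset_of_mem_adjoin hϖ'H
  refine ⟨F₂, Q, r, t.filter (· ∈ T), ϖ', inferInstance, hQ, hrQ, hQinj, hrF₂, hd₂,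
    fun x hx => (Finset.mem_filter.1 hx).2, ?_, hϖ'v⟩
  refine IntermediateField.adjoin.mono _ _ _ (fun x hx => ?_) hϖ't
  rcases htsub hx with h | h
  · exact Or.inl (Finset.mem_coe.2 (Finset.mem_filter.2 ⟨hx, h⟩))
  · exact Or.inr h

/-- Epp's theorem descended to a dense subfield. -/
theorem descent [IsAlgClosed Ω] (hK : KInv S) (E : Subfield Ω) (hLE : S.L ≤ E) (hE : Small S E)
    (Ks : Subfield Ω) (hKsE : Ks ≤ E) (hπ : S.π ∈ Ks) (K₀ : Subfield Ω) (hK₀ : K₀ ≤ S.K) (hK₀c : K₀ ≤ clos S.v Ks)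
    (hU : ∀ x ∈ S.K, ∀ M : ℕ, ∃ u ∈ S.K, IsSeparable K₀ u ∧
      (∀ r, aeval r (minpoly K₀ u) = 0 → r ∈ S.K) ∧ ((M : ℚ) : WithTop ℚ) < S.v (x - u)) :
    ∃ (K₁ : IntermediateField Ks Ω) (δ : ℚ), FiniteDimensional Ks K₁ ∧ Normal Ks K₁ ∧ 0 < δ ∧
      Disc S.v (E ⊔ K₁.toSubfield) δ ∧ ∃ ϖ ∈ K₁, S.v ϖ = (δ : WithTop ℚ) := by
  classical
  obtain ⟨F₂, Q, r, t, ϖ', hF₂, hQ, hrQ, hQinj, hrF₂, hd₂, ht, hϖ't, hϖ'v⟩ :=
    exists_model S hK E hE K₀ hK₀ hU
  haveI := hF₂
  letI : Algebra K₀ S.K := (Subfield.inclusion hK₀).toAlgebra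
  haveI : IsScalarTower K₀ S.K Ω := .of_algebraMap_eq fun _ => rfl
  obtain ⟨M₀, hM₀⟩ := exists_nat_gt (step S F₂)
  -- a finite Galois extension of `K₀` inside `F₂`
  let P : K₀[X] := ∏ x ∈ t, minpoly K₀ x
  have hPne : P ≠ 0 := Finset.prod_ne_zero_iff.2 fun x hx =>
    minpoly.ne_zero (ht x hx).1.isIntegral
  have hProot : ∀ z : Ω, aeval z P = 0 ↔ ∃ x ∈ t, aeval z (minpoly K₀ x) = 0 := fun (z : Ω) => by
    rw [map_prod, Finset.prod_eq_zero_iff]
  let G₂ := IntermediateField.adjoin K₀ (P.rootSet Ω)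
  haveI : Algebra.IsSeparable K₀ G₂ :=
    (IntermediateField.isSeparable_adjoin_iff_isSeparable K₀ Ω).2 (fun z hz => by
      obtain ⟨x, hx, hzx⟩ := (hProot z).1 (mem_rootSet.1 hz).2
      have hxs := (ht x hx).1
      exact hxs.of_dvd (minpoly.dvd K₀ z hzx))
  haveI : IsSplittingField K₀ G₂ P :=
    IntermediateField.adjoin_rootSet_isSplittingField (IsAlgClosed.splits _)
  haveI : Normal K₀ G₂ := Normal.of_isSplittingField P
  haveI : FiniteDimensional K₀ G₂ := IsSplittingField.finiteDimensional G₂ P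
  have hG₂F₂ : ∀ z ∈ G₂, z ∈ F₂ := by
    intro z hz
    have hle : G₂.toSubfield ≤ F₂.toSubfield := by
      rw [IntermediateField.adjoin_toSubfield, Subfield.closure_le]
      rintro w (⟨a, rfl⟩ | hw)
      · exact F₂.algebraMap_mem ⟨a, hK₀ a.2⟩
      · obtain ⟨x, hx, hwx⟩ := (hProot w).1 (mem_rootSet.1 hw).2
        exact (ht x hx).2 w hwx
    exact hle hz
  obtain ⟨η, hη⟩ := Field.exists_primitive_element K₀ G₂
  set h := (minpoly K₀ η).map (algebraMap K₀ Ω) with hhdef
  have hhm : h.Monic := (minpoly.monic (Algebra.IsIntegral.isIntegral η)).map _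
  have hhs : h.Separable := Polynomial.Separable.map (Algebra.IsSeparable.isSeparable K₀ η)
  have hhroots : ∀ a ∈ h.roots, a ∈ F₂ := by
    intro a ha
    rw [hhdef, IsScalarTower.algebraMap_eq K₀ G₂ Ω, ← Polynomial.map_map, (Normal.splits inferInstance η).roots_map, Multiset.mem_map] at ha
    obtain ⟨b, -, rfl⟩ := ha
    exact hG₂F₂ _ b.2
  have hηh : (η : Ω) ∈ h.roots := (mem_roots hhm.ne_zero).2 (by
    rw [IsRoot, hhdef, eval_map, ← aeval_def]
    exact (aeval_algHom_apply G₂.val η _).trans (by rw [minpoly.aeval, map_zero]))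
  set m := (minpoly K₀ η).natDegree
  have hhd : h.natDegree = m := natDegree_map _
  obtain ⟨c₃, hc₃0, hseph⟩ := exists_sep S.v h.roots.toFinset
  -- elements determined by the approximations
  let P₀ : ℕ → Subfield Ω → Prop := fun N T =>
    Ks ≤ T ∧ r ∈ T ∧ ∃ η' ∈ T, ((N : ℚ) : WithTop ℚ) < S.v ((η : Ω) - η')
  have hP₀ : ∀ {N N'}, N ≤ N' → ∀ {T}, P₀ N' T → P₀ N T := fun {N N'} hNN {T} ⟨h1, h2, η', h3, h4⟩ =>
    ⟨h1, h2, η', h3, lt_of_le_of_lt (WithTop.coe_le_coe.2 (by exact_mod_cast hNN)) h4⟩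
  let A₀ := approxField S.v P₀ hP₀
  have hK₀A : K₀ ≤ A₀ := fun x hx M => ⟨0, fun T hT => by
    obtain ⟨y, hy, hxy⟩ := (mem_clos S.v).1 (hK₀c hx) M
    exact ⟨y, hT.1 hy, hxy⟩⟩
  have hϖ'A : ϖ' ∈ A₀ := by
    have hle : (IntermediateField.adjoin K₀ ((↑t : Set Ω) ∪ {r})).toSubfield ≤ A₀ := by
      rw [IntermediateField.adjoin_toSubfield, Subfield.closure_le]
      rintro x (⟨a, rfl⟩ | hx | hx)
      · exact hK₀A a.2
      · have hxG : x ∈ G₂ := IntermediateField.subset_adjoin _ _ (mem_rootSet.2 ⟨hPne,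
          (hProot x).2 ⟨x, hx, minpoly.aeval _ _⟩⟩)
        have h1 : (⟨x, hxG⟩ : G₂) ∈ (⊤ : IntermediateField K₀ G₂) := IntermediateField.mem_top
        rw [← hη] at h1
        have h2 : G₂.val ⟨x, hxG⟩ ∈ (IntermediateField.adjoin K₀ {η}).map G₂.val := ⟨_, h1, rfl⟩
        rw [IntermediateField.adjoin_map, Set.image_singleton] at h2
        have hle2 : (IntermediateField.adjoin K₀ ({(η : Ω)} : Set Ω)).toSubfield ≤ A₀ := by
          rw [IntermediateField.adjoin_toSubfield, Subfield.closure_le]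
          rintro w (⟨a, rfl⟩ | rfl)
          · exact hK₀A a.2
          · exact fun M => ⟨M, fun T hT => hT.2.2⟩
        exact hle2 h2
      · rw [Set.mem_singleton_iff.1 hx]
        exact fun M => ⟨0, fun T hT => ⟨r, hT.2.1, by rw [sub_self, S.v.map_zero]; exact WithTop.coe_lt_top _⟩⟩
    exact hle hϖ't
  obtain ⟨N₁, hN₁⟩ := hϖ'A M₀
  obtain ⟨N₂, hN₂⟩ := roots_near S.v hhm hhs m hhd (max c₃ (N₁ : ℚ))
  -- approximate the coefficients in `K`
  choose k hk hkv using fun i => (mem_clos S.v).1 (hK₀c (((minpoly K₀ η).coeff i).2)) N₂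
  let hK' : Ks[X] := X ^ m + ∑ i ∈ Finset.range m, C (⟨k i, hk i⟩ : Ks) * X ^ i
  have hK'm : hK'.Monic := monic_X_pow_add (by
    rw [← Fin.sum_univ_eq_sum_range (fun i => C (⟨k i, hk i⟩ : Ks) * X ^ i) m]
    exact degree_sum_fin_lt _)
  set h' := hK'.map (algebraMap Ks Ω) with hh'def
  have hh'd : h'.natDegree = m := by
    rw [natDegree_map]
    refine natDegree_eq_of_degree_eq_some ?_
    rw [degree_add_eq_left_of_degree_lt, degree_X_pow]
    rw [degree_X_pow, ← Fin.sum_univ_eq_sum_range (fun i => C (⟨k i, hk i⟩ : Ks) * X ^ i) m]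
    exact degree_sum_fin_lt _
  have hcoef' : ∀ i, h'.coeff i = if i = m then 1 else if i < m then k i else 0 := by
    intro i
    rw [hh'def, coeff_map, coeff_add, coeff_X_pow, finsetSum_coeff]
    simp only [coeff_C_mul_X_pow, Finset.sum_ite_eq, Finset.mem_range]
    rcases lt_trichotomy i m with h | h | h
    · rw [if_neg h.ne, if_pos h, if_neg h.ne, if_pos h, zero_add]; rfl
    · subst h; simp
    · rw [if_neg h.ne', if_neg (not_lt.2 h.le), if_neg h.ne', if_neg (not_lt.2 h.le), add_zero, map_zero]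
  obtain ⟨hh's, hhh', hh'h, hh'sep⟩ := hN₂ h' (hK'm.map _) hh'd fun i => by
    rw [hcoef']
    split_ifs with h1 h2
    · rw [h1, show h.coeff m = 1 from hhd ▸ hhm.coeff_natDegree, sub_self, S.v.map_zero]
      exact WithTop.coe_lt_top _
    · rw [hhdef, coeff_map]; exact hkv i
    · rw [coeff_eq_zero_of_natDegree_lt (by omega), sub_self, S.v.map_zero]
      exact WithTop.coe_lt_top _
  -- the extension of `K`
  let W : Ks[X] := hK' * (X ^ Q - C ⟨S.π, hπ⟩)
  have hWne : W ≠ 0 := mul_ne_zero hK'm.ne_zero (monic_X_pow_sub_C _ hQ.ne').ne_zero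
  let K₁ := IntermediateField.adjoin Ks (W.rootSet Ω)
  haveI : IsSplittingField Ks K₁ W :=
    IntermediateField.adjoin_rootSet_isSplittingField (IsAlgClosed.splits _)
  have hroot' : ∀ b ∈ h'.roots, b ∈ K₁ := fun b hb => IntermediateField.subset_adjoin _ _
    (mem_rootSet.2 ⟨hWne, by
      have h0 := (mem_roots (hK'm.map (algebraMap Ks Ω)).ne_zero).1 hb
      rw [IsRoot, eval_map, ← aeval_def] at h0
      rw [map_mul, h0, zero_mul]⟩)
  have hrK₁ : r ∈ K₁ := IntermediateField.subset_adjoin _ _ (mem_rootSet.2 ⟨hWne, by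
    rw [map_mul, map_sub, map_pow, aeval_X, aeval_C, hrQ]
    exact mul_eq_zero_of_right _ (sub_self S.π)⟩)
  -- membership in the compositum
  refine ⟨K₁, step S F₂, IsSplittingField.finiteDimensional K₁ W, Normal.of_isSplittingField W,
    step_pos S F₂, ?_, ?_⟩
  · refine fun x hx => hd₂ x ?_
    set Mf := comp S E F₂
    have hLM : S.L ≤ Mf := hLE.trans le_sup_left
    haveI : Algebra.IsAlgebraic Mf Ω := by
      haveI := S.algebraic
      letI : Algebra S.L Mf := (Subfield.inclusion hLM).toAlgebra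
      haveI : IsScalarTower S.L Mf Ω := .of_algebraMap_eq fun _ => rfl
      exact Algebra.IsAlgebraic.tower_top (K := S.L) Mf
    have hKsM : Ks ≤ Mf → E ⊔ K₁.toSubfield ≤ Mf := by
      intro hKs
      refine sup_le le_sup_left ?_
      rw [IntermediateField.adjoin_toSubfield, Subfield.closure_le]
      rintro w (⟨a, rfl⟩ | hw)
      · exact hKs a.2
      have h0 := (mem_rootSet.1 hw).2
      rw [map_mul, mul_eq_zero] at h0
      rcases h0 with h0 | h0
      · have hwr : w ∈ h'.roots := (mem_roots (hK'm.map _).ne_zero).2 (by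
          rw [IsRoot, eval_map, ← aeval_def]; exact h0)
        obtain ⟨a, ha, hav⟩ := hh'h w hwr
        let hKsalg : Algebra Ks Mf := (Subfield.inclusion hKs).toAlgebra
        haveI : IsScalarTower Ks Mf Ω := .of_algebraMap_eq fun _ => rfl
        have hwsep : IsSeparable Mf w := by
          refine Separable.of_dvd ?_ (minpoly.dvd Mf w (p := hK'.map (algebraMap Ks Mf)) ?_)
          · exact Polynomial.Separable.map ((separable_map (algebraMap Ks Ω)).1 hh's)
          · rw [aeval_map_algebraMap]; exact h0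
        refine krasner S.v hwsep (le_comp_right S _ _ (hhroots a ha)) (c := max c₃ (N₁ : ℚ))
          (by rw [S.v.map_sub_swap]; exact hav) (fun σ => inv_over S hLM σ _) fun σ hσ => ?_
        by_contra hlt
        rw [not_le] at hlt
        refine hσ (hh'sep (σ w) ?_ w hwr hlt fun a ha a' ha' hne => ?_)
        · refine (mem_roots (hK'm.map _).ne_zero).2 ?_
          rw [IsRoot, eval_map, ← aeval_def, ← aeval_map_algebraMap Mf, aeval_algHom_apply,
            aeval_map_algebraMap, h0, map_zero]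
        · exact (hseph a (Multiset.mem_toFinset.2 ha) a' (Multiset.mem_toFinset.2 ha') hne).trans
            (WithTop.coe_le_coe.2 (le_max_left _ _))
      · rw [map_sub, map_pow, aeval_X, aeval_C, sub_eq_zero] at h0
        rw [hQinj w r (h0.trans (by rw [hrQ]; rfl))]
        exact le_comp_right S _ _ hrF₂
    exact hKsM (hKsE.trans le_sup_left) hx
  · obtain ⟨η', hη', hηη'⟩ := hhh' η hηh
    obtain ⟨y, hy, hyv⟩ := hN₁ K₁.toSubfield ⟨fun a ha => K₁.algebraMap_mem ⟨a, ha⟩, hrK₁, η',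
      hroot' η' hη', lt_of_le_of_lt (WithTop.coe_le_coe.2 (le_max_right _ _)) hηη'⟩
    refine ⟨y, hy, ?_⟩
    rw [← hϖ'v]
    exact S.v.map_eq_of_lt_sub (by
      rw [S.v.map_sub_swap, hϖ'v]; exact lt_trans (WithTop.coe_lt_coe.2 hM₀) hyv)

end Groth.Agent.Epp23
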