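import Groth.Agent.Epp23.Phase1
import Groth.Agent.Dvr24.KummerArtinSchreier
import Mathlib.Algebra.CharP.Algebra
import Mathlib.RingTheory.RootsOfUnity.PrimitiveRoots

/-!
# The steps of degree `p`: inseparable, Artin–Schreier, Kummer
-/

set_option autoImplicit false
set_option linter.style.haveILetI false
set_option linter.unusedSectionVars false
universe u

open Polynomial

namespace Groth.Agent.Epp23

variable {Ω : Type u} [Field Ω] (S : Setup Ω)

/-- `E` is contained in a finite extension of `L`. -/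
def Small (E : Subfield Ω) : Prop :=
  ∃ M : IntermediateField S.L Ω, FiniteDimensional S.L M ∧ E ≤ M.toSubfield

theorem Small.mono {E E' : Subfield Ω} (h : Small S E) (hle : E' ≤ E) : Small S E' := by
  obtain ⟨M, hM, hEM⟩ := h
  exact ⟨M, hM, hle.trans hEM⟩

theorem small_sup_closure {E : Subfield Ω} (h : Small S E) (s : Set Ω) (hs : s.Finite) :
    Small S (E ⊔ Subfield.closure s) := by
  obtain ⟨M, hM, hEM⟩ := h
  haveI := hM
  haveI := S.algebraic
  haveI : Finite s := hs.to_subtype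
  haveI : FiniteDimensional S.L (IntermediateField.adjoin S.L s) :=
    IntermediateField.finiteDimensional_adjoin fun x _ => Algebra.IsIntegral.isIntegral x
  refine ⟨M ⊔ IntermediateField.adjoin S.L s, inferInstance, sup_le (hEM.trans fun x hx =>
    (le_sup_left : M ≤ M ⊔ IntermediateField.adjoin S.L s) hx) (Subfield.closure_le.2 fun x hx =>
    (le_sup_right : _ ≤ M ⊔ IntermediateField.adjoin S.L s) (IntermediateField.subset_adjoin _ _ hx))⟩

theorem small_comp {E : Subfield Ω} (h : Small S E) (F : IntermediateField S.K Ω)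
    [FiniteDimensional S.K F] : Small S (comp S E F) := by
  obtain ⟨M, hM, hEM⟩ := h
  haveI := hM
  let b := Module.finBasis S.K F
  have hs : (Set.range fun i => (b i : Ω)).Finite := Set.finite_range _
  obtain ⟨M', hM', hle⟩ := small_sup_closure S (E := M.toSubfield) ⟨M, hM, le_rfl⟩ _ hs
  refine ⟨M', hM', sup_le ((hEM.trans le_sup_left).trans hle) fun x hx => ?_⟩
  have hx' : (⟨x, hx⟩ : F) = ∑ i, b.repr ⟨x, hx⟩ i • b i := (b.sum_repr _).symm
  have hx2 : x = ∑ i, ((b.repr ⟨x, hx⟩ i : S.K) : Ω) * (b i : Ω) := by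
    have h1 := congrArg F.val hx'
    rw [map_sum] at h1
    exact h1.trans (Finset.sum_congr rfl fun i _ => by
      rw [map_smul, Algebra.smul_def]; rfl)
  rw [hx2]
  refine sum_mem fun i _ => mul_mem ?_ (hle ((le_sup_right : Subfield.closure _ ≤ _)
    (Subfield.subset_closure ⟨i, rfl⟩)))
  exact M'.algebraMap_mem ⟨_, S.hKL (b.repr ⟨x, hx⟩ i).2⟩

theorem bdd_of_small [IsAlgClosed Ω] {E : Subfield Ω} (h : Small S E) : Bdd S E := by
  classical
  obtain ⟨M, hM, hEM⟩ := h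
  haveI := hM
  haveI := S.algebraic
  haveI : IsAlgClosure S.L Ω := ⟨inferInstance, inferInstance⟩
  haveI : Fact S.p.Prime := ⟨S.hp⟩
  refine ⟨Module.finrank S.L M, fun x hx hx0 => ?_⟩
  have hxint : IsIntegral S.L x := Algebra.IsIntegral.isIntegral x
  set d := (minpoly S.L x).natDegree with hd
  have hdle : d ≤ Module.finrank S.L M := by
    have h1 := minpoly.natDegree_le (A := S.L) (⟨x, hEM hx⟩ : M)
    rw [← minpoly.algebraMap_eq (algebraMap M Ω).injective] at h1
    exact h1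
  have hdpos : 0 < d := minpoly.natDegree_pos hxint
  -- `x` modulo positive values is fixed by all conjugations
  obtain ⟨N, l, hl, hxl⟩ := S.pins x hx0
  have hl0 : 0 ≤ S.v l := by
    rw [show l = x ^ S.p ^ N - (x ^ S.p ^ N - l) by ring]
    exact S.v.map_le_sub (by rw [S.v.map_pow]; exact nsmul_nonneg hx0 _) hxl.le
  let res := IsLocalRing.residue (O S.v)
  haveI : CharP (IsLocalRing.ResidueField (O S.v)) S.p := (CharP.charP_iff_prime_eq_zero S.hp).2 (by
    rw [← map_natCast (IsLocalRing.residue (O S.v))]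
    exact (residue_eq_zero S.v (x := ((S.p : O S.v) : Ω)) _).2 (by simpa using S.v_p))
  have hconj : ∀ r, r ∈ ((minpoly S.L x).map (algebraMap S.L Ω)).roots →
      ∃ hr : r ∈ O S.v, res ⟨r, hr⟩ = res ⟨x, hx0⟩ := by
    intro r hr
    have hr' : aeval r (minpoly S.L x) = 0 := by
      rw [mem_roots (map_ne_zero (minpoly.ne_zero hxint)), IsRoot, eval_map, ← aeval_def] at hr
      exact hr
    obtain ⟨σ, rfl⟩ := isConjRoot_iff_exists_algEquiv.1 ((isConjRoot_iff_aeval_eq_zero hxint).2 hr').symm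
    have hσ0 : 0 ≤ S.v (σ x) := by rw [S.inv]; exact hx0
    refine ⟨hσ0, (residue_eq_residue S.v hσ0 hx0).2 (v_sub_pos_of_pow S.v S.hp S.v_p hσ0 hx0 N ?_)⟩
    have h1 : 0 < S.v (σ (x ^ S.p ^ N - l)) := by rw [S.inv]; exact hxl
    rw [map_sub, map_pow, show σ l = l from σ.commutes ⟨l, hl⟩] at h1
    rw [show σ x ^ S.p ^ N - x ^ S.p ^ N = (σ x ^ S.p ^ N - l) - (x ^ S.p ^ N - l) by ring]
    exact lt_of_lt_of_le (lt_min h1 hxl) (S.v.map_sub _ _)
  let P := (minpoly S.L x).map (algebraMap S.L Ω)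
  have hsplit := (IsAlgClosed.splits P).eq_prod_roots_of_monic ((minpoly.monic hxint).map _)
  have hcard : P.roots.card = d := by
    rw [← (IsAlgClosed.splits P).natDegree_eq_card_roots, natDegree_map]
  -- the product of the conjugates lies in `L`
  let l' : Ω := (-1) ^ d * algebraMap S.L Ω ((minpoly S.L x).coeff 0)
  have hl'L : l' ∈ S.L := mul_mem (pow_mem (neg_mem (one_mem _)) _) ((minpoly S.L x).coeff 0).2
  have hprod : P.roots.prod = l' := by
    have h1 := Polynomial.Splits.coeff_zero_eq_prod_roots_of_monic (IsAlgClosed.splits P)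
      ((minpoly.monic hxint).map _)
    rw [coeff_map, natDegree_map] at h1
    show _ = (-1) ^ d * algebraMap S.L Ω ((minpoly S.L x).coeff 0)
    rw [h1, ← mul_assoc, ← pow_add, ← two_mul, pow_mul, neg_one_sq, one_pow, one_mul]
  have hl'0 : ∀ s : Multiset Ω, (∀ r ∈ s, ∃ hr : r ∈ O S.v, res ⟨r, hr⟩ = res ⟨x, hx0⟩) →
      ∃ h : s.prod ∈ O S.v, res ⟨s.prod, h⟩ = res ⟨x, hx0⟩ ^ s.card := by
    intro s
    induction s using Multiset.induction_on with
    | empty => exact fun _ => ⟨by simp, (map_one res).trans (pow_zero _).symm⟩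
    | cons a s ih =>
      intro hs
      obtain ⟨ha, ha'⟩ := hs a (Multiset.mem_cons_self a s)
      obtain ⟨hp', hp''⟩ := ih fun r hr => hs r (Multiset.mem_cons_of_mem hr)
      refine ⟨by rw [Multiset.prod_cons]; exact mul_mem ha hp', ?_⟩
      rw [Multiset.card_cons, pow_succ', ← hp'', ← ha', ← map_mul]
      exact congrArg res (Subtype.ext (Multiset.prod_cons a s))
  obtain ⟨hprodO, hprodres⟩ := hl'0 _ hconj
  rw [show ((minpoly S.L x).map (algebraMap S.L Ω)).roots.card = d from hcard] at hprodres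
  -- residues of elements of `L` form a subfield
  let O' : Subring (O S.v) := Subring.comap (O S.v).subtype S.L.toSubring
  let κ : Subfield (IsLocalRing.ResidueField (O S.v)) :=
    { O'.map res with
      inv_mem' := by
        rintro _ ⟨⟨a, ha⟩, haE, rfl⟩
        rcases eq_or_ne (res ⟨a, ha⟩) 0 with h | h
        · rw [h, inv_zero]; exact (O'.map res).zero_mem
        have hva : S.v a = 0 :=
          le_antisymm (not_lt.1 fun h1 => h ((residue_eq_zero S.v ha).2 h1)) ha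
        have ha' : a⁻¹ ∈ O S.v := by rw [mem_O, S.v.map_inv, hva]; exact le_of_eq rfl
        refine ⟨⟨a⁻¹, ha'⟩, S.L.inv_mem haE, (eq_inv_of_mul_eq_one_right ?_)⟩
        rw [← map_mul, ← map_one res]
        exact congrArg res (Subtype.ext (mul_inv_cancel₀ (ne_zero_of_eq S.v (q := 0) hva))) }
  have h1 : res ⟨x, hx0⟩ ^ S.p ^ N ∈ κ := by
    refine ⟨⟨l, hl0⟩, hl, ?_⟩
    rw [← map_pow]
    exact ((residue_eq_residue S.v (pow_mem (show x ∈ O S.v from hx0) _) hl0).2 hxl).symm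
  have h2 : res ⟨x, hx0⟩ ^ d ∈ κ := ⟨⟨_, hprodO⟩,
    show ((minpoly S.L x).map (algebraMap S.L Ω)).roots.prod ∈ S.L from hprod ▸ hl'L, hprodres⟩
  obtain ⟨t, -, ht⟩ := (Nat.dvd_prime_pow S.hp).1 (Nat.gcd_dvd_left (S.p ^ N) d)
  have htle : t ≤ Module.finrank S.L M := by
    refine le_trans ?_ hdle
    exact le_trans (Nat.lt_pow_self S.hp.one_lt).le (ht ▸ Nat.gcd_le_right (S.p ^ N) hdpos)
  have h3 : res ⟨x, hx0⟩ ^ Nat.gcd (S.p ^ N) d ∈ κ := by
    rcases eq_or_ne (res ⟨x, hx0⟩) 0 with h0 | h0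
    · rw [h0, zero_pow (Nat.gcd_pos_of_pos_left _ (pow_pos S.hp.pos N)).ne']; exact κ.zero_mem
    have hb := Nat.gcd_eq_gcd_ab (S.p ^ N) d
    rw [← zpow_natCast, hb, zpow_add₀ h0, zpow_mul, zpow_mul, zpow_natCast, zpow_natCast]
    exact mul_mem (zpow_mem h1 _) (zpow_mem h2 _)
  obtain ⟨⟨l₂, hl₂⟩, hl₂L, hl₂res⟩ :
      res ⟨x, hx0⟩ ^ S.p ^ Module.finrank S.L M ∈ κ := by
    obtain ⟨t', ht'⟩ := Nat.exists_eq_add_of_le htle
    rw [ht', pow_add, pow_mul, ← ht]
    exact pow_mem h3 _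
  refine ⟨l₂, hl₂L, ?_⟩
  rw [← residue_eq_residue S.v (pow_mem (show x ∈ O S.v from hx0) _) hl₂]
  exact (map_pow res _ _).trans hl₂res.symm

/-- The fields `E` and `F` at the start of a step. -/
structure Base (E : Subfield Ω) (F : IntermediateField S.K Ω) : Prop where
  fin : FiniteDimensional S.K F
  hLE : S.L ≤ E
  hFE : F.toSubfield ≤ E
  disc : Disc S.v E (step S F)
  small : Small S E

theorem Base.ext [IsAlgClosed Ω] {E : Subfield Ω} {F F' : IntermediateField S.K Ω}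
    (h : Base S E F) [FiniteDimensional S.K F'] (hle : F ≤ F') : Base S (comp S E F') F' := by
  haveI := h.fin
  exact ⟨inferInstance, h.hLE.trans le_sup_left, le_sup_right, (mono S h.hFE h.disc hle).1,
    small_comp S h.small F'⟩

/-- An inseparable step. -/
theorem insep_step [IsAlgClosed Ω] [CharP Ω S.p] {E M : Subfield Ω} {F : IntermediateField S.K Ω}
    [FiniteDimensional S.K F] (hFE : F.toSubfield ≤ E) (hE : Disc S.v E (step S F))
    (hM : ∀ x ∈ M, x ^ S.p ∈ E) :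
    ∃ F' : IntermediateField S.K Ω, FiniteDimensional S.K F' ∧ F ≤ F' ∧
      Disc S.v (comp S M F') (step S F') := by
  haveI : Fact S.p.Prime := ⟨S.hp⟩
  obtain ⟨ϖ, hϖ, hv⟩ := exists_uniformizer S F
  obtain ⟨F', r, hfin, hle, -, hr, -, hstep, hgen⟩ := exists_root_ext' S F hϖ hv S.hp.pos
  refine ⟨F', hfin, hle, ?_⟩
  let E' : Subfield Ω := E.comap (frobenius Ω S.p)
  have hmem : ∀ x, x ∈ E' ↔ x ^ S.p ∈ E := fun x => Iff.rfl
  have hME : comp S M F' ≤ E' := by
    refine sup_le (fun x hx => (hmem x).2 (hM x hx)) (hgen.trans (sup_le (fun x hx => ?_) ?_))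
    · exact (hmem x).2 (pow_mem (hFE hx) _)
    · rw [Subfield.closure_le, Set.singleton_subset_iff, SetLike.mem_coe, hmem, hr]
      exact hFE hϖ
  intro x hx hx0
  obtain ⟨q, hq⟩ := val_exists S.v hx0
  obtain ⟨k, hk⟩ := hE _ ((hmem x).1 (hME hx)) (pow_ne_zero _ hx0)
  refine ⟨k, ?_⟩
  rw [v_pow S.v hq, WithTop.coe_eq_coe] at hk
  rw [hq, WithTop.coe_eq_coe, hstep, mul_div, ← hk, mul_div_cancel_left₀]
  exact_mod_cast S.hp.ne_zero

/-- An Artin–Schreier step. -/
theorem as_step [IsAlgClosed Ω] [CharP Ω S.p] {E : Subfield Ω} {F : IntermediateField S.K Ω}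
    (h : Base S E F) {z : Ω} (hz : z ^ S.p - z ∈ E) :
    ∃ F' : IntermediateField S.K Ω, FiniteDimensional S.K F' ∧ F ≤ F' ∧
      Disc S.v (comp S E F' ⊔ Subfield.closure {z}) (step S F') := by
  haveI := h.fin
  haveI : Fact S.p.Prime := ⟨S.hp⟩
  have hδ := step_pos S F
  set b := z ^ S.p - z with hb
  obtain ⟨N, hN⟩ : ∃ N : ℕ, ((-((N : ℚ) * step S F) : ℚ) : WithTop ℚ) ≤ S.v b := by
    rcases eq_or_ne b 0 with h0 | h0
    · exact ⟨0, by rw [h0, S.v.map_zero]; exact le_top⟩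
    obtain ⟨k, hk⟩ := h.disc b hz h0
    refine ⟨k.natAbs, ?_⟩
    rw [hk, WithTop.coe_le_coe, ← neg_mul]
    refine mul_le_mul_of_nonneg_right ?_ hδ.le
    have : -((k.natAbs : ℤ) : ℚ) ≤ ((k : ℤ) : ℚ) := by exact_mod_cast (by omega : -((k.natAbs : ℤ)) ≤ k)
    simpa using this
  have hsum : ∀ w : Ω, ∑ i ∈ Finset.Ioo 0 S.p, (if i = 1 then (-1 : Ω) else 0) * w ^ i = -w := by
    intro w
    rw [Finset.sum_eq_single_of_mem 1 (Finset.mem_Ioo.2 ⟨one_pos, S.hp.one_lt⟩)
      fun i _ hi => by rw [if_neg hi, zero_mul], if_pos rfl, pow_one, neg_one_mul]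
  let D : Eqn S :=
    { F := F, fin := h.fin, E := E, hLE := h.hLE, hFE := h.hFE, disc := h.disc
      bdd := bdd_of_small S h.small
      c := 0, a := fun i => if i = 1 then -1 else 0, k := N + 1, hk := N.succ_pos
      hc := F.zero_mem
      ha := fun i => by
        show (if i = 1 then (-1 : Ω) else 0) ∈ F
        split_ifs
        · exact F.neg_mem F.one_mem
        · exact F.zero_mem
      vc := by rw [S.v.map_zero]; exact le_top
      va := fun i => by
        show _ ≤ S.v (if i = 1 then (-1 : Ω) else 0)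
        split_ifs with hi
        · subst hi; simp
        · rw [S.v.map_zero]; exact le_top
      va1 := by
        show 0 < S.v ((if 1 = 1 then (-1 : Ω) else 0) + 1)
        rw [if_pos rfl, neg_add_cancel, S.v.map_zero]
        exact WithTop.coe_lt_top _
      law := fun x y => by
        simp only [hsum, zero_mul, add_zero, zero_pow S.hp.ne_zero]
        rw [add_pow_char]
        ring
      sep := fun x y hxy hne _ => by
        simp only [hsum] at hxy
        by_contra hlt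
        rw [not_le] at hlt
        have h1 : (x - y) ^ S.p = x - y := by
          rw [sub_pow_char]; linear_combination hxy
        obtain ⟨q, hq⟩ := val_exists S.v (sub_ne_zero.2 hne)
        rw [hq, ← WithTop.coe_zero, WithTop.coe_lt_coe] at hlt
        have h2 := v_pow S.v hq S.p
        rw [h1, hq, WithTop.coe_eq_coe] at h2
        have : (2 : ℚ) ≤ S.p := by exact_mod_cast S.hp.two_le
        nlinarith }
  have hNk : N < S.p * D.k := by
    show N < S.p * (N + 1)
    exact lt_of_lt_of_le (Nat.lt_succ_self N) (Nat.le_mul_of_pos_left _ S.hp.pos)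
  have hg : D.g z = b := by
    show z ^ S.p + ∑ i ∈ Finset.Ioo 0 S.p, (if i = 1 then (-1 : Ω) else 0) * z ^ i = b
    rw [hsum, hb, sub_eq_add_neg]
  exact D.wild hz hN hNk z hg

/-- A Kummer step. -/
theorem kummer_step [IsAlgClosed Ω] [CharZero Ω] {E : Subfield Ω} {F : IntermediateField S.K Ω}
    (h : Base S E F) {ζ : Ω} (hζ : IsPrimitiveRoot ζ S.p) (hζF : ζ ∈ F) {z : Ω}
    (hz : z ^ S.p ∈ E) :
    ∃ F' : IntermediateField S.K Ω, FiniteDimensional S.K F' ∧ F ≤ F' ∧
      Disc S.v (comp S E F' ⊔ Subfield.closure {z}) (step S F') := by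
  haveI := h.fin
  haveI : Fact S.p.Prime := ⟨S.hp⟩
  have hp0 : (S.p : ℚ) ≠ 0 := by exact_mod_cast S.hp.ne_zero
  rcases eq_or_ne z 0 with rfl | hz0
  · refine ⟨F, inferInstance, le_rfl, h.disc.mono S.v (sup_le (sup_le le_rfl h.hFE) ?_)⟩
    rw [Subfield.closure_le, Set.singleton_subset_iff]
    exact E.zero_mem
  obtain ⟨ku, hku⟩ := h.disc _ hz (pow_ne_zero _ hz0)
  obtain ⟨ϖ, hϖ, hϖv⟩ := exists_uniformizer S F
  obtain ⟨F₁, r, hfin₁, hF₁, hrF, hr, hrv, -⟩ := exists_root_ext S F hϖ hϖv S.hp.pos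
  haveI := hfin₁
  have h₁ : Base S (comp S E F₁) F₁ := h.ext S hF₁
  have hrE : r ∈ comp S E F₁ := le_comp_right S _ _ hrF
  have hζ₁ : ζ ∈ F₁ := hF₁ hζF
  -- the unit part
  set z₁ := z * (r ^ ku)⁻¹ with hz₁
  set u₁ := z₁ ^ S.p with hu₁
  have hr0 : r ≠ 0 := ne_zero_of_eq S.v hrv
  have hu₁E : u₁ ∈ comp S E F₁ := by
    rw [hu₁, hz₁, mul_pow]
    exact mul_mem (le_comp_left S _ _ hz) (pow_mem (inv_mem (zpow_mem hrE _)) _)
  have hz₁v : S.v z₁ = 0 := by
    obtain ⟨q, hq⟩ := val_exists S.v hz0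
    have h1 := v_pow S.v hq S.p
    rw [hku, WithTop.coe_eq_coe] at h1
    have hrk : S.v (r ^ ku) = (((ku : ℚ) * (step S F / S.p) : ℚ) : WithTop ℚ) := by
      rcases ku with n | n
      · rw [Int.ofNat_eq_natCast, zpow_natCast, v_pow S.v hrv, Int.cast_natCast]
      · rw [zpow_negSucc, v_inv S.v (v_pow S.v hrv (n + 1)), WithTop.coe_eq_coe, Int.cast_negSucc]
        ring
    rw [hz₁, v_mul S.v hq (v_inv S.v hrk), ← WithTop.coe_zero, WithTop.coe_eq_coe]
    field_simp
    linarith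
  have hu₁v : 0 ≤ S.v u₁ := by rw [hu₁, S.v.map_pow, hz₁v, nsmul_zero]
  have hzmem : ∀ {F' : IntermediateField S.K Ω}, F₁ ≤ F' → ∀ {G : Subfield Ω},
      comp S E F' ≤ G → z₁ ∈ G → comp S E F' ⊔ Subfield.closure {z} ≤ G := by
    intro F' hle G hG hz₁G
    refine sup_le hG (Subfield.closure_le.2 (Set.singleton_subset_iff.2 ?_))
    rw [SetLike.mem_coe, show z = z₁ * r ^ ku by rw [hz₁, inv_mul_cancel_right₀ (zpow_ne_zero _ hr0)]]
    exact mul_mem hz₁G (zpow_mem (hG (le_comp_right S _ _ (hle hrF))) _)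
  by_cases hpow : ∃ y ∈ comp S E F₁, 0 < S.v (u₁ - y ^ S.p)
  swap
  · refine ⟨F₁, hfin₁, hF₁, Disc.mono S.v ?_ (hzmem le_rfl le_sup_left
      ((le_sup_right : Subfield.closure {z₁} ≤ comp S E F₁ ⊔ Subfield.closure {z₁})
        (Subfield.subset_closure rfl)))⟩
    refine span_disc_of_notPow S.v S.hp S.v_p h₁.disc hu₁E ⟨hu₁v, hpow⟩ hz₁v.ge ?_
      (f := X ^ S.p - C ⟨u₁, hu₁E⟩) (monic_X_pow_sub_C _ S.hp.ne_zero) natDegree_X_pow_sub_C ?_
    · rw [← hu₁, sub_self, S.v.map_zero]; exact WithTop.coe_lt_top _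
    · rw [map_sub, map_pow, aeval_X, aeval_C]; exact sub_self u₁
  obtain ⟨y, hy, hyu⟩ := hpow
  have hy0 := v_nonneg_of_pow_near S.v hu₁v S.hp.pos hyu
  have hyne : y ≠ 0 := fun h0 => by
    rw [h0, zero_pow S.hp.ne_zero, sub_zero, hu₁, S.v.map_pow, hz₁v, nsmul_zero] at hyu
    exact lt_irrefl _ hyu
  -- the parameter
  set c := (1 : Ω) - ζ with hc
  have hζ1 : ζ ≠ 1 := hζ.ne_one S.hp.one_lt
  have hc0 : c ≠ 0 := sub_ne_zero.2 hζ1.symm
  have hζv : ∀ i : ℕ, S.v (ζ ^ i) = 0 := by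
    intro i
    obtain ⟨q, hq⟩ := val_exists S.v (pow_ne_zero i (hζ.ne_zero S.hp.ne_zero))
    have h1 := v_pow S.v hq S.p
    rw [← pow_mul, mul_comm, pow_mul, hζ.pow_eq_one, one_pow, S.v.map_one, ← WithTop.coe_zero,
      WithTop.coe_eq_coe] at h1
    rw [hq, ← WithTop.coe_zero, WithTop.coe_eq_coe]
    exact (mul_eq_zero.1 h1.symm).resolve_left hp0
  have hge : ∀ i : ℕ, S.v c ≤ S.v (1 - ζ ^ i) := by
    intro i
    rw [show (1 : Ω) - ζ ^ i = c * ∑ j ∈ Finset.range i, ζ ^ j by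
      rw [hc, mul_comm, geom_sum_mul_neg], S.v.map_mul]
    exact le_add_of_nonneg_right (S.v.map_le_sum fun j _ => (hζv j).ge)
  have hvμ : ∀ μ ∈ primitiveRoots S.p Ω, S.v (1 - μ) = S.v c := by
    intro μ hμ
    rw [mem_primitiveRoots S.hp.pos] at hμ
    obtain ⟨i, -, rfl⟩ := hζ.eq_pow_of_pow_eq_one hμ.pow_eq_one
    obtain ⟨j, -, hj⟩ := hμ.eq_pow_of_pow_eq_one hζ.pow_eq_one
    refine le_antisymm ?_ (hge i)
    conv_rhs => rw [hc, ← hj]
    rw [show (1 : Ω) - (ζ ^ i) ^ j = (1 - ζ ^ i) * ∑ k ∈ Finset.range j, (ζ ^ i) ^ k by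
      rw [mul_comm, geom_sum_mul_neg], S.v.map_mul]
    exact le_add_of_nonneg_right (S.v.map_le_sum fun k _ => by rw [S.v.map_pow, hζv, nsmul_zero])
  obtain ⟨vc, hvc⟩ := val_exists S.v hc0
  have hvp : S.v (S.p : Ω) = ((((S.p - 1 : ℕ) : ℚ) * vc : ℚ) : WithTop ℚ) := by
    have hprod : ∏ μ ∈ primitiveRoots S.p Ω, (1 - μ) = (S.p : Ω) := by
      rw [← Polynomial.eval_one_cyclotomic_prime (p := S.p) (R := Ω),
        cyclotomic_eq_prod_X_sub_primitiveRoots hζ]
      simp [Polynomial.eval_prod]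
    have hpr : ∀ s : Finset Ω, (∀ μ ∈ s, S.v (1 - μ) = S.v c) →
        S.v (∏ μ ∈ s, (1 - μ)) = (((s.card : ℚ) * vc : ℚ) : WithTop ℚ) := by
      classical
      intro s
      induction s using Finset.induction_on with
      | empty => intro _; simp
      | insert a s ha ih =>
        intro hs
        rw [Finset.prod_insert ha, v_mul S.v ((hs a (Finset.mem_insert_self a s)).trans hvc)
          (ih fun μ hμ => hs μ (Finset.mem_insert_of_mem hμ)), WithTop.coe_eq_coe,
          Finset.card_insert_of_notMem ha]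
        push_cast
        ring
    rw [← hprod, hpr _ hvμ, hζ.card_primitiveRoots, Nat.totient_prime S.hp]
  have hvcpos : 0 < vc := by
    have h1 := S.v_p
    rw [hvp, ← WithTop.coe_zero, WithTop.coe_lt_coe] at h1
    by_contra hle
    exact absurd h1 (not_lt.2 (mul_nonpos_of_nonneg_of_nonpos (Nat.cast_nonneg _) (not_lt.1 hle)))
  obtain ⟨kc, hkc⟩ := h₁.disc c (sub_mem (one_mem _) (le_comp_right S _ _ hζ₁)) hc0
  rw [hvc, WithTop.coe_eq_coe] at hkc
  have hδ₁ := step_pos S F₁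
  have hkc0 : 0 < kc := by
    have : (0 : ℚ) < kc := by nlinarith
    exact_mod_cast this
  obtain ⟨k, rfl⟩ := Int.eq_ofNat_of_zero_le hkc0.le
  rw [Int.cast_natCast] at hkc
  have hk0 : 0 < k := by exact_mod_cast hkc0
  -- coefficients
  let a : ℕ → Ω := fun i => if i ∈ Finset.Ioo 0 S.p then (S.p.choose i : Ω) * c ^ i / c ^ S.p else 0
  have hg : ∀ w : Ω, c ^ S.p * (w ^ S.p + ∑ i ∈ Finset.Ioo 0 S.p, a i * w ^ i) =
      (1 + c * w) ^ S.p - 1 := by
    intro w
    rw [add_comm (1 : Ω), add_pow]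
    have hr : Finset.range (S.p + 1) = insert S.p (insert 0 (Finset.Ioo 0 S.p)) := by
      ext i; simp only [Finset.mem_range, Finset.mem_insert, Finset.mem_Ioo]; omega
    rw [hr, Finset.sum_insert (by simp [S.hp.ne_zero]), Finset.sum_insert (by simp),
      mul_add, Finset.mul_sum]
    simp only [one_pow, mul_one, Nat.choose_self, Nat.cast_one, Nat.choose_zero_right, pow_zero]
    rw [add_sub_assoc, add_comm (1 : Ω) _, add_sub_cancel_right, mul_pow]
    congr 1
    refine Finset.sum_congr rfl fun i hi => ?_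
    show c ^ S.p * ((if i ∈ Finset.Ioo 0 S.p then (S.p.choose i : Ω) * c ^ i / c ^ S.p else 0) * w ^ i) = _
    rw [if_pos hi, ← mul_assoc, mul_div_cancel₀ _ (pow_ne_zero _ hc0), mul_pow]
    ring
  have hcF : c ∈ F₁ := sub_mem (one_mem _) hζ₁
  have haF : ∀ i, a i ∈ F₁ := fun i => by
    show (if i ∈ Finset.Ioo 0 S.p then (S.p.choose i : Ω) * c ^ i / c ^ S.p else 0) ∈ F₁
    split_ifs
    · exact div_mem (mul_mem (natCast_mem F₁ _) (pow_mem hcF i)) (pow_mem hcF _)
    · exact zero_mem _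
  have hva : ∀ i, ((((i - 1) * k : ℕ) : ℚ) * step S F₁ : ℚ) ≤ S.v (a i) := by
    intro i
    show _ ≤ S.v (if i ∈ Finset.Ioo 0 S.p then (S.p.choose i : Ω) * c ^ i / c ^ S.p else 0)
    split_ifs with hi
    · obtain ⟨hi1, hi2⟩ := Finset.mem_Ioo.1 hi
      obtain ⟨q, hq⟩ := S.hp.dvd_choose_self hi1.ne' hi2
      have hq0 : 0 ≤ S.v (q : Ω) := (natCast_mem (O S.v) q : (q : Ω) ∈ O S.v)
      rw [hq, Nat.cast_mul (α := Ω), show (S.p : Ω) * (q : Ω) * c ^ i / c ^ S.p =
        (q : Ω) * ((S.p : Ω) * c ^ i / c ^ S.p) by ring, S.v.map_mul]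
      refine le_trans (le_of_eq ?_) (le_add_of_nonneg_left hq0)
      rw [v_div S.v (v_mul S.v hvp (v_pow S.v hvc i)) (v_pow S.v hvc S.p), WithTop.coe_eq_coe, hkc,
        Nat.cast_mul, Nat.cast_sub (by omega : 1 ≤ i), Nat.cast_sub S.hp.one_lt.le, Nat.cast_one]
      ring
    · rw [S.v.map_zero]; exact le_top
  have hva1 : 0 < S.v (a 1 + 1) := by
    have hζO : ζ ∈ O S.v := by
      show 0 ≤ S.v ζ
      rw [← pow_one ζ, hζv]
    have hζ' : IsPrimitiveRoot (⟨ζ, hζO⟩ : O S.v) S.p :=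
      IsPrimitiveRoot.of_map_of_injective (f := (O S.v).subtype) hζ Subtype.val_injective
    obtain ⟨α, hα, hid⟩ := Dvr24.exists_kummer_artin_schreier_domain S.p S.hp (O S.v) ⟨ζ, hζO⟩ hζ'
      fun h1 => hζ1 (congrArg Subtype.val h1)
    obtain ⟨β, hβ⟩ := Ideal.mem_span_singleton.1 (hα 1)
    have h1 := congrArg (fun P => Polynomial.coeff P 1) hid
    simp only [coeff_C_mul, coeff_add, coeff_sub, coeff_X_pow, coeff_X_one, finsetSum_coeff,
      coeff_C_mul_X_pow, if_neg S.hp.one_lt.ne, coeff_one, if_neg one_ne_zero] at h1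
    simp only [mul_ite, mul_one, mul_zero, Finset.sum_ite_eq,
      if_pos (Finset.mem_Ioo.2 ⟨one_pos, S.hp.one_lt⟩ : 1 ∈ Finset.Ioo 0 S.p), sub_zero] at h1
    rw [
      show ((1 + C (1 - (⟨ζ, hζO⟩ : O S.v)) * X : Polynomial (O S.v)) ^ S.p).coeff 1 = (S.p : O S.v) * (1 - ⟨ζ, hζO⟩) by
        rw [add_comm, add_pow, finsetSum_coeff,
          Finset.sum_eq_single_of_mem 1 (Finset.mem_range.2 (by have := S.hp.two_le; omega))
            fun i _ hi => ?_]
        · simp [mul_comm]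
        · rw [mul_pow, ← C_pow, one_pow, mul_one, ← C_eq_natCast, mul_right_comm, ← C_mul,
            coeff_C_mul_X_pow, if_neg (Ne.symm hi)]] at h1
    have h2 := congrArg Subtype.val h1
    simp only [hβ] at h2
    push_cast at h2
    have e : a 1 + 1 = c * (β : Ω) := by
      show (if 1 ∈ Finset.Ioo 0 S.p then (S.p.choose 1 : Ω) * c ^ 1 / c ^ S.p else 0) + 1 = _
      rw [if_pos (Finset.mem_Ioo.2 ⟨one_pos, S.hp.one_lt⟩), Nat.choose_one_right, pow_one,
        div_add_one (pow_ne_zero _ hc0), div_eq_iff (pow_ne_zero _ hc0)]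
      rw [hc]
      linear_combination -h2
    rw [e, S.v.map_mul, hvc]
    exact add_pos_of_pos_of_nonneg (by rw [← WithTop.coe_zero, WithTop.coe_lt_coe]; exact hvcpos) β.2
  let D : Eqn S :=
    { F := F₁, fin := hfin₁, E := comp S E F₁, hLE := h₁.hLE, hFE := h₁.hFE, disc := h₁.disc
      bdd := bdd_of_small S h₁.small
      c := c, a := a, k := k, hk := hk0, hc := hcF, ha := haF
      vc := by rw [hvc, hkc]
      va := hva, va1 := hva1
      law := fun x y => by
        refine mul_left_cancel₀ (pow_ne_zero S.p hc0) ?_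
        have e : ∀ (A B : Ω), c ^ S.p * (A + B + c ^ S.p * A * B) =
            (c ^ S.p * A + 1) * (c ^ S.p * B + 1) - 1 := fun A B => by ring
        rw [e, hg, hg, hg, sub_add_cancel, sub_add_cancel, ← mul_pow]
        ring
      sep := fun x y hxy hne hy => by
        have h1 : (1 + c * x) ^ S.p = (1 + c * y) ^ S.p := by
          have := congrArg (fun t => c ^ S.p * t) hxy
          simp only [hg] at this
          exact sub_left_inj.1 this
        have hy1 : S.v (1 + c * y) = 0 := by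
          rw [S.v.map_add_eq_of_lt_left, S.v.map_one]
          rw [S.v.map_one, S.v.map_mul, hvc]
          exact add_pos_of_pos_of_nonneg (by rw [← WithTop.coe_zero, WithTop.coe_lt_coe]; exact hvcpos) hy
        have hy2 : 1 + c * y ≠ 0 := ne_zero_of_eq S.v (q := 0) hy1
        set η := (1 + c * x) / (1 + c * y)
        have hη : η ^ S.p = 1 := by rw [div_pow, h1, div_self (pow_ne_zero _ hy2)]
        have hη1 : η ≠ 1 := fun h2 => hne (by
          have := (div_eq_one_iff_eq hy2).1 h2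
          exact mul_left_cancel₀ hc0 (add_left_cancel this))
        obtain ⟨i, hi, hiη⟩ := hζ.eq_pow_of_pow_eq_one hη
        have hi0 : i ≠ 0 := fun h0 => hη1 (by rw [← hiη, h0, pow_zero])
        have hμ : η ∈ primitiveRoots S.p Ω := by
          rw [mem_primitiveRoots S.hp.pos, ← hiη]
          exact hζ.pow_of_coprime i ((Nat.Prime.coprime_iff_not_dvd S.hp).2
            (fun hd => absurd (Nat.le_of_dvd (Nat.pos_of_ne_zero hi0) hd) (not_le.2 hi))).symm
        have e : x - y = (1 + c * y) * (η - 1) / c := by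
          have h3 : η * (1 + c * y) = 1 + c * x := div_mul_cancel₀ _ hy2
          rw [eq_div_iff hc0]
          linear_combination -h3
        rw [e, S.v.map_div, S.v.map_mul, hy1, zero_add, S.v.map_sub_swap, hvμ η hμ, hvc,
          ← WithTop.LinearOrderedAddCommGroup.coe_sub, sub_self]
        exact le_of_eq rfl }
  -- the right hand side
  set z₂ := z₁ / y
  set u₂ := z₂ ^ S.p
  have hu₂E : u₂ ∈ comp S E F₁ := by
    show (z₁ / y) ^ S.p ∈ _
    rw [div_pow]
    exact div_mem hu₁E (pow_mem hy _)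
  have hu₂ : 0 < S.v (u₂ - 1) := by
    show 0 < S.v ((z₁ / y) ^ S.p - 1)
    rw [div_pow, div_sub_one (pow_ne_zero _ hyne), ← hu₁, S.v.map_div]
    have hyv : S.v (y ^ S.p) = 0 := by
      have h2 : S.v u₁ = 0 := by rw [hu₁, S.v.map_pow, hz₁v, nsmul_zero]
      rw [← h2]
      exact S.v.map_eq_of_lt_sub (by rw [h2, S.v.map_sub_swap]; exact hyu)
    rw [hyv, sub_zero]
    exact hyu
  let w := (z₂ - 1) / c
  have hgw : D.g w = (u₂ - 1) / c ^ S.p := by
    rw [eq_div_iff (pow_ne_zero _ hc0), mul_comm]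
    show c ^ S.p * (w ^ S.p + ∑ i ∈ Finset.Ioo 0 S.p, a i * w ^ i) = _
    rw [hg, mul_div_cancel₀ _ hc0, add_sub_cancel]
  have hbE : (u₂ - 1) / c ^ S.p ∈ comp S E F₁ :=
    div_mem (sub_mem hu₂E (one_mem _)) (pow_mem (le_comp_right S _ _ hcF) _)
  have hbv : ((-(((S.p * k - 1 : ℕ) : ℚ) * step S F₁) : ℚ) : WithTop ℚ) ≤ S.v ((u₂ - 1) / c ^ S.p) := by
    rcases eq_or_ne (u₂ - 1) 0 with h0 | h0
    · rw [h0, zero_div, S.v.map_zero]; exact le_top
    obtain ⟨q, hq⟩ := val_exists S.v h0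
    have h2 := h₁.disc.le_of_pos S.v hδ₁ (sub_mem hu₂E (one_mem _)) hu₂
    rw [hq, WithTop.coe_le_coe] at h2
    rw [v_div S.v hq (v_pow S.v hvc S.p), WithTop.coe_le_coe, hkc,
      Nat.cast_sub (Nat.one_le_iff_ne_zero.2 (Nat.mul_ne_zero S.hp.ne_zero hk0.ne')), Nat.cast_mul,
      Nat.cast_one]
    linarith
  obtain ⟨F', hfin', hle', hdisc⟩ := D.wild hbE (N := S.p * k - 1) hbv
    (Nat.sub_lt (Nat.mul_pos S.hp.pos hk0) one_pos) w hgw
  refine ⟨F', hfin', hF₁.trans hle', hdisc.mono S.v (hzmem hle' ?_ ?_)⟩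
  · exact le_trans (comp_mono S le_sup_left le_rfl) le_sup_left
  · have hEF' : comp S (comp S E F₁) F' ≤ comp S (comp S E F₁) F' ⊔ Subfield.closure {w} := le_sup_left
    have hw : w ∈ comp S (comp S E F₁) F' ⊔ Subfield.closure {w} :=
      (le_sup_right : Subfield.closure {w} ≤ _) (Subfield.subset_closure rfl)
    have e : z₁ = (c * w + 1) * y := by
      rw [mul_div_cancel₀ _ hc0, sub_add_cancel, div_mul_cancel₀ _ hyne]
    rw [e]
    exact mul_mem (add_mem (mul_mem (hEF' (le_comp_left S _ _ (le_comp_right S _ _ hcF))) hw)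
      (one_mem _)) (hEF' (le_comp_left S _ _ hy))

end Groth.Agent.Epp23
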