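import Groth.Agent.Epp23.Setup
import Mathlib.FieldTheory.Minpoly.IsConjRoot
import Mathlib.RingTheory.Int.Basic

/-!
# Monotonicity, roots of units and other basic facts in the setting of Epp's theorem
-/

set_option autoImplicit false
set_option linter.style.haveILetI false
universe u

open Polynomial

namespace Groth.Agent.Epp23

variable {Ω : Type u} [Field Ω] (S : Setup Ω)

/-- The compositum. -/
def comp (E : Subfield Ω) (F : IntermediateField S.K Ω) : Subfield Ω := E ⊔ F.toSubfield

theorem le_comp_left (E : Subfield Ω) (F : IntermediateField S.K Ω) : E ≤ comp S E F := le_sup_left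

theorem le_comp_right (E : Subfield Ω) (F : IntermediateField S.K Ω) {x : Ω} (hx : x ∈ F) :
    x ∈ comp S E F := (le_sup_right : F.toSubfield ≤ comp S E F) hx

theorem comp_mono {E E' : Subfield Ω} {F F' : IntermediateField S.K Ω} (hE : E ≤ E') (hF : F ≤ F') :
    comp S E F ≤ comp S E' F' :=
  sup_le_sup hE fun _ hx => hF hx

theorem comp_comp {E : Subfield Ω} {F F' : IntermediateField S.K Ω} (hF : F ≤ F') :
    comp S (comp S E F) F' = comp S E F' := by
  refine le_antisymm (sup_le (comp_mono S le_rfl hF) le_sup_right)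
    (sup_le (le_trans le_sup_left le_sup_left) le_sup_right)

/-- The step of the values on a finite extension of `K`. -/
noncomputable def step (F : IntermediateField S.K Ω) : ℚ := (1 : ℚ) / Module.finrank S.K F

theorem step_pos (F : IntermediateField S.K Ω) [FiniteDimensional S.K F] : 0 < step S F :=
  div_pos one_pos (by exact_mod_cast Module.finrank_pos)

theorem exists_uniformizer (F : IntermediateField S.K Ω) [FiniteDimensional S.K F] :
    ∃ ϖ ∈ F, S.v ϖ = ((step S F : ℚ) : WithTop ℚ) := (S.kfin F inferInstance).2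

theorem disc_F (F : IntermediateField S.K Ω) [FiniteDimensional S.K F] :
    Disc S.v F.toSubfield (step S F) := (S.kfin F inferInstance).1

/-- Adjoining an element integral over a finite extension of `K`. -/
theorem exists_ext (F : IntermediateField S.K Ω) [FiniteDimensional S.K F] (x : Ω)
    (hx : IsIntegral F x) :
    ∃ F' : IntermediateField S.K Ω, FiniteDimensional S.K F' ∧ F ≤ F' ∧ x ∈ F' := by
  have hxK : IsIntegral S.K x := isIntegral_trans x hx
  haveI : FiniteDimensional S.K (IntermediateField.adjoin S.K {x}) :=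
    IntermediateField.adjoin.finiteDimensional hxK
  exact ⟨F ⊔ IntermediateField.adjoin S.K {x}, inferInstance, le_sup_left,
    (le_sup_right : _ ≤ F ⊔ IntermediateField.adjoin S.K {x}) (IntermediateField.mem_adjoin_simple_self _ x)⟩

/-- Adjoining an `m`-th root of a uniformizer, with its generation. -/
theorem exists_root_ext' [IsAlgClosed Ω] (F : IntermediateField S.K Ω) [FiniteDimensional S.K F]
    {ϖ : Ω} (hϖ : ϖ ∈ F) (hv : S.v ϖ = ((step S F : ℚ) : WithTop ℚ)) {m : ℕ} (hm : 0 < m) :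
    ∃ (F' : IntermediateField S.K Ω) (r : Ω), FiniteDimensional S.K F' ∧ F ≤ F' ∧ r ∈ F' ∧
      r ^ m = ϖ ∧ S.v r = ((step S F / m : ℚ) : WithTop ℚ) ∧ step S F' = step S F / m ∧
      F'.toSubfield ≤ F.toSubfield ⊔ Subfield.closure {r} := by
  obtain ⟨r, hr⟩ := IsAlgClosed.exists_pow_nat_eq ϖ hm
  have hint : IsIntegral F r := ⟨X ^ m - C ⟨ϖ, hϖ⟩, monic_X_pow_sub_C _ hm.ne', by simp [hr]⟩
  have hr0 : r ≠ 0 := fun h0 => ne_zero_of_eq S.v hv (by rw [← hr, h0, zero_pow hm.ne'])
  have hvr : S.v r = ((step S F / m : ℚ) : WithTop ℚ) := by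
    obtain ⟨q, hq⟩ := val_exists S.v hr0
    have h := v_pow S.v hq m
    rw [hr, hv, WithTop.coe_eq_coe] at h
    rw [hq, WithTop.coe_eq_coe, h, mul_div_assoc, mul_comm, div_mul_cancel₀]
    exact_mod_cast hm.ne'
  let G : IntermediateField F Ω := IntermediateField.adjoin F {r}
  haveI : FiniteDimensional F G := IntermediateField.adjoin.finiteDimensional hint
  haveI : FiniteDimensional S.K G := FiniteDimensional.trans S.K F G
  let F' := G.restrictScalars S.K
  haveI : FiniteDimensional S.K F' := inferInstanceAs (FiniteDimensional S.K G)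
  have hrF' : r ∈ F' := IntermediateField.mem_adjoin_simple_self F r
  refine ⟨F', r, inferInstance, fun x hx => G.algebraMap_mem ⟨x, hx⟩, hrF', hr, hvr, ?_, ?_⟩
  swap
  · show (IntermediateField.adjoin F {r}).toSubfield ≤ _
    rw [IntermediateField.adjoin_toSubfield, Subfield.closure_le]
    rintro y (⟨a, rfl⟩ | hy)
    · exact (le_sup_left : F.toSubfield ≤ F.toSubfield ⊔ Subfield.closure {r}) a.2
    · exact (le_sup_right : _ ≤ F.toSubfield ⊔ Subfield.closure {r}) (Subfield.subset_closure hy)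
  have hdeg : Module.finrank F G ≤ m := by
    rw [IntermediateField.adjoin.finrank hint]
    refine (natDegree_le_of_dvd (minpoly.dvd F r (p := X ^ m - C ⟨ϖ, hϖ⟩) (by simp [hr]))
      (monic_X_pow_sub_C _ hm.ne').ne_zero).trans ?_
    rw [natDegree_X_pow_sub_C]
  have hle : Module.finrank S.K F' ≤ Module.finrank S.K F * m := by
    show Module.finrank S.K G ≤ _
    rw [← Module.finrank_mul_finrank S.K F G]
    exact Nat.mul_le_mul_left _ hdeg
  obtain ⟨k, hk⟩ := disc_F S F' r hrF' hr0
  rw [hvr, WithTop.coe_eq_coe, step, step, div_div, mul_one_div] at hk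
  have hn' : (0 : ℚ) < Module.finrank S.K F' := by exact_mod_cast Module.finrank_pos
  have hn : (0 : ℚ) < Module.finrank S.K F := by exact_mod_cast Module.finrank_pos
  have hm' : (0 : ℚ) < m := by exact_mod_cast hm
  rw [div_eq_div_iff (by positivity) hn'.ne', one_mul] at hk
  have hkle : k * ((Module.finrank S.K F * m : ℕ) : ℤ) = Module.finrank S.K F' := by
    have : ((k * ((Module.finrank S.K F * m : ℕ) : ℤ) : ℤ) : ℚ) = ((Module.finrank S.K F' : ℤ) : ℚ) := by
      push_cast; rw [hk]
    exact_mod_cast this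
  have h2 : (Module.finrank S.K F' : ℤ) ≤ ((Module.finrank S.K F * m : ℕ) : ℤ) := by exact_mod_cast hle
  have h3 : (0 : ℤ) < Module.finrank S.K F' := by exact_mod_cast Module.finrank_pos
  have h4 : (0 : ℤ) < ((Module.finrank S.K F * m : ℕ) : ℤ) := by
    exact_mod_cast Nat.mul_pos Module.finrank_pos hm
  have hk1 : k = 1 := by nlinarith
  rw [hk1, Int.cast_one, one_mul] at hk
  rw [step, step, div_div, ← hk]

/-- Adjoining an `m`-th root of a uniformizer. -/
theorem exists_root_ext [IsAlgClosed Ω] (F : IntermediateField S.K Ω) [FiniteDimensional S.K F]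
    {ϖ : Ω} (hϖ : ϖ ∈ F) (hv : S.v ϖ = ((step S F : ℚ) : WithTop ℚ)) {m : ℕ} (hm : 0 < m) :
    ∃ (F' : IntermediateField S.K Ω) (r : Ω), FiniteDimensional S.K F' ∧ F ≤ F' ∧ r ∈ F' ∧
      r ^ m = ϖ ∧ S.v r = ((step S F / m : ℚ) : WithTop ℚ) ∧ step S F' = step S F / m := by
  obtain ⟨F', r, h1, h2, h3, h4, h5, h6, -⟩ := exists_root_ext' S F hϖ hv hm
  exact ⟨F', r, h1, h2, h3, h4, h5, h6⟩


/-- A finite extension of `K` containing two given ones has value step dividing both, and is
generated over the smaller by a uniformizer. -/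
theorem exists_generator {F F' : IntermediateField S.K Ω} [FiniteDimensional S.K F]
    [FiniteDimensional S.K F'] (h : F ≤ F') :
    ∃ (r : ℕ) (ϖ : Ω) (f : Polynomial F.toSubfield), 0 < r ∧ step S F' = step S F / r ∧ ϖ ∈ F' ∧
      S.v ϖ = ((step S F' : ℚ) : WithTop ℚ) ∧ f.Monic ∧ f.natDegree = r ∧ aeval ϖ f = 0 ∧
      F'.toSubfield ≤ F.toSubfield ⊔ Subfield.closure {ϖ} := by
  obtain ⟨ϖ, hϖ, hv⟩ := exists_uniformizer S F'
  have hint : IsIntegral F ϖ :=
    IsIntegral.tower_top (R := S.K) ((Algebra.IsIntegral.isIntegral (⟨ϖ, hϖ⟩ : F')).map F'.val)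
  let G : IntermediateField F Ω := IntermediateField.adjoin F {ϖ}
  haveI : FiniteDimensional F G := IntermediateField.adjoin.finiteDimensional hint
  haveI : FiniteDimensional S.K G := FiniteDimensional.trans S.K F G
  let G' := G.restrictScalars S.K
  haveI : FiniteDimensional S.K G' := inferInstanceAs (FiniteDimensional S.K G)
  have hG' : G' ≤ F' := by
    show ((IntermediateField.adjoin F {ϖ}).restrictScalars S.K) ≤ F'
    intro x hx
    have : IntermediateField.adjoin F {ϖ} ≤ IntermediateField.extendScalars h :=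
      IntermediateField.adjoin_le_iff.2 (Set.singleton_subset_iff.2 hϖ)
    exact this hx
  have hϖG : ϖ ∈ G' := IntermediateField.mem_adjoin_simple_self F ϖ
  have hle : Module.finrank S.K G' ≤ Module.finrank S.K F' :=
    IntermediateField.finrank_le_of_le_right hG'
  obtain ⟨k, hk⟩ := disc_F S G' ϖ hϖG (ne_zero_of_eq S.v hv)
  rw [hv, WithTop.coe_eq_coe, step, step, mul_one_div] at hk
  have hn' : (0 : ℚ) < Module.finrank S.K F' := by exact_mod_cast Module.finrank_pos
  have hg : (0 : ℚ) < Module.finrank S.K G' := by exact_mod_cast Module.finrank_pos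
  rw [div_eq_div_iff hn'.ne' hg.ne', one_mul] at hk
  have hkle : (Module.finrank S.K G' : ℤ) = k * Module.finrank S.K F' := by exact_mod_cast hk
  have h2 : (Module.finrank S.K G' : ℤ) ≤ Module.finrank S.K F' := by exact_mod_cast hle
  have h3 : (0 : ℤ) < Module.finrank S.K G' := by exact_mod_cast Module.finrank_pos
  have hk1 : k = 1 := by nlinarith
  rw [hk1, one_mul] at hkle
  have hrank : Module.finrank S.K F * (minpoly F ϖ).natDegree = Module.finrank S.K F' := by
    rw [← IntermediateField.adjoin.finrank hint, Module.finrank_mul_finrank S.K F G]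
    exact_mod_cast hkle
  refine ⟨(minpoly F ϖ).natDegree, ϖ, minpoly F ϖ, minpoly.natDegree_pos hint, ?_, hϖ, hv,
    minpoly.monic hint, rfl, minpoly.aeval F ϖ, ?_⟩
  · rw [step, step, ← hrank, div_div, Nat.cast_mul]
  · intro x hx
    have heq : G' = F' := IntermediateField.eq_of_le_of_finrank_le hG' (by exact_mod_cast hkle.ge)
    have hxG : x ∈ G := by
      show x ∈ G'
      rw [heq]; exact hx
    have hle' : G.toSubfield ≤ F.toSubfield ⊔ Subfield.closure {ϖ} := by
      show (IntermediateField.adjoin F {ϖ}).toSubfield ≤ _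
      rw [IntermediateField.adjoin_toSubfield, Subfield.closure_le]
      rintro y (⟨a, rfl⟩ | hy)
      · exact (le_sup_left : F.toSubfield ≤ F.toSubfield ⊔ Subfield.closure {ϖ}) a.2
      · exact (le_sup_right : _ ≤ F.toSubfield ⊔ Subfield.closure {ϖ}) (Subfield.subset_closure hy)
    exact hle' hxG

/-- Monotonicity: enlarging `F` keeps the values and the residue field. -/
theorem mono {E : Subfield Ω} {F F' : IntermediateField S.K Ω} [FiniteDimensional S.K F]
    [FiniteDimensional S.K F'] (hFE : F.toSubfield ≤ E) (hE : Disc S.v E (step S F)) (h : F ≤ F') :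
    Disc S.v (comp S E F') (step S F') ∧
      ∀ y ∈ comp S E F', 0 ≤ S.v y → ∃ x ∈ E, 0 < S.v (y - x) := by
  obtain ⟨r, ϖ, f, hr, hstep, hϖ, hv, hf, hd, h0, hgen⟩ := exists_generator S h
  have hle : comp S E F' ≤ E ⊔ Subfield.closure {ϖ} :=
    sup_le le_sup_left (hgen.trans (sup_le_sup_right hFE _))
  rw [hstep] at hv ⊢
  have h0' : aeval ϖ (f.map (Subfield.inclusion hFE)) = 0 := by
    rw [aeval_def, eval₂_map]
    exact h0
  obtain ⟨h1, h2⟩ := span_disc S.v (step_pos S F) hr hE hv (hf.map (Subfield.inclusion hFE))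
    ((hf.natDegree_map _).trans hd) h0'
  exact ⟨h1.mono S.v hle, fun y hy => h2 y (hle hy)⟩

theorem NotPow.of_residue {p : ℕ} {E E' : Subfield Ω} {x : Ω} (hx : NotPow S.v p E x) (hp : 0 < p)
    (hres : ∀ y ∈ E', 0 ≤ S.v y → ∃ z ∈ E, 0 < S.v (y - z)) : NotPow S.v p E' x := by
  refine ⟨hx.1, fun ⟨y, hy, hxy⟩ => hx.2 ?_⟩
  have hy0 : 0 ≤ S.v y := by
    by_contra h
    rw [not_le] at h
    obtain ⟨q, hq⟩ := val_exists S.v (x := y) fun h0 => by
      rw [h0, S.v.map_zero] at h
      exact absurd h (not_lt.2 le_top)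
    rw [hq, ← WithTop.coe_zero, WithTop.coe_lt_coe] at h
    have hyp : S.v (y ^ p) < S.v x := by
      refine lt_of_lt_of_le ?_ hx.1
      rw [v_pow S.v hq, ← WithTop.coe_zero, WithTop.coe_lt_coe]
      exact mul_neg_of_pos_of_neg (by exact_mod_cast hp) h
    rw [S.v.map_sub_eq_of_lt_right hyp, v_pow S.v hq, ← WithTop.coe_zero, WithTop.coe_lt_coe] at hxy
    exact absurd hxy (not_lt.2 (mul_neg_of_pos_of_neg (by exact_mod_cast hp : (0 : ℚ) < p) h).le)
  obtain ⟨z, hz, hyz⟩ := hres y hy hy0
  refine ⟨z, hz, ?_⟩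
  have hz0 : 0 ≤ S.v z := by
    rw [show z = y - (y - z) by ring]
    exact S.v.map_le_sub hy0 hyz.le
  rw [show x - z ^ p = (x - y ^ p) + (y ^ p - z ^ p) by ring]
  exact S.v.map_lt_add hxy (v_pow_sub_pos S.v hy0 hz0 hyz p)

/-- An automorphism over a larger field is one over `L`. -/
theorem inv_over {M : Subfield Ω} (hM : S.L ≤ M) (σ : Ω ≃ₐ[M] Ω) (x : Ω) : S.v (σ x) = S.v x :=
  S.inv { σ.toRingEquiv with commutes' := fun l => σ.commutes ⟨l, hM l.2⟩ } x

/-- Krasner: a separable element near `M` and far from its other conjugates lies in `M`. -/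
theorem mem_of_near [IsAlgClosed Ω] {M : Subfield Ω} (hM : S.L ≤ M) {z y : Ω} (hz : IsSeparable M z)
    (hy : y ∈ M) (hzy : 0 < S.v (z - y))
    (hfar : ∀ σ : Ω ≃ₐ[M] Ω, σ z ≠ z → S.v (σ z - z) ≤ 0) : z ∈ M := by
  haveI : Algebra.IsAlgebraic M Ω := by
    haveI := S.algebraic
    letI : Algebra S.L M := (Subfield.inclusion hM).toAlgebra
    haveI : IsScalarTower S.L M Ω := .of_algebraMap_eq fun _ => rfl
    exact Algebra.IsAlgebraic.tower_top (K := S.L) M
  haveI : IsAlgClosure M Ω := ⟨inferInstance, inferInstance⟩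
  have hall : ∀ r : Ω, aeval r (minpoly M z) = 0 → r = z := by
    intro r hr
    have hconj : IsConjRoot M z r := (isConjRoot_iff_aeval_eq_zero hz.isIntegral).2 hr
    obtain ⟨σ, rfl⟩ := (isConjRoot_iff_exists_algEquiv).1 hconj.symm
    by_contra hne
    have h1 : 0 < S.v (σ z - σ y) := by rw [← map_sub, inv_over S hM]; exact hzy
    rw [show σ y = y from σ.commutes ⟨y, hy⟩] at h1
    refine absurd (hfar σ hne) (not_le.2 ?_)
    rw [show σ z - z = (σ z - y) - (z - y) by ring]
    exact lt_of_lt_of_le (lt_min h1 hzy) (S.v.map_sub _ _)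
  have hcard : ((minpoly M z).rootSet Ω).ncard ≤ 1 := by
    refine (Set.ncard_le_ncard (t := {z}) ?_ (Set.finite_singleton z)).trans (Set.ncard_singleton z).le
    intro r hr
    exact hall r (mem_rootSet.1 hr).2
  rw [← Nat.card_coe_set_eq, Nat.card_eq_fintype_card,
    card_rootSet_eq_natDegree hz (IsAlgClosed.splits _)] at hcard
  have h1 : (minpoly M z).natDegree = 1 :=
    le_antisymm hcard (minpoly.natDegree_pos hz.isIntegral)
  obtain ⟨a, rfl⟩ := minpoly.natDegree_eq_one_iff.1 h1
  exact a.2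

/-- A unit has roots of order prime to the residue characteristic. -/
theorem exists_unit_root [IsAlgClosed Ω] {M : Subfield Ω} (hM : S.L ≤ M) {w : Ω} (hw : w ∈ M)
    (hw0 : S.v w = 0) {e : ℕ} (he : ¬ S.p ∣ e) : ∃ r ∈ M, r ^ e = w := by
  haveI : Fact S.p.Prime := ⟨S.hp⟩
  obtain ⟨N, l, hl, hwl⟩ := S.pins w hw0.ge
  have hl0 : S.v l = 0 := by
    have h1 : S.v (w ^ S.p ^ N) = 0 := by rw [S.v.map_pow, hw0, nsmul_zero]
    rw [← h1]
    exact S.v.map_eq_of_lt_sub (by rw [h1, S.v.map_sub_swap]; exact hwl)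
  obtain ⟨z, hz, hzl⟩ := S.roots l hl hl0 e he
  have he0 : e ≠ 0 := fun h => he (h ▸ dvd_zero _)
  have hz0 : S.v z = 0 := by
    have h1 : S.v (z ^ e) = 0 := by
      rw [← hl0]
      exact S.v.map_eq_of_lt_sub (by rw [hl0]; exact hzl)
    have hzne : z ≠ 0 := fun h => by
      rw [h, zero_pow he0, S.v.map_zero] at h1
      exact WithTop.top_ne_zero h1
    obtain ⟨q, hq⟩ := val_exists S.v hzne
    rw [v_pow S.v hq, ← WithTop.coe_zero, WithTop.coe_eq_coe] at h1
    rw [hq, ← WithTop.coe_zero, WithTop.coe_eq_coe]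
    exact (mul_eq_zero.1 h1).resolve_left (by exact_mod_cast he0)
  -- Bezout
  have hcop : IsCoprime (((S.p ^ N : ℕ) : ℤ)) (e : ℤ) := by
    rw [Int.isCoprime_iff_nat_coprime, Int.natAbs_natCast, Int.natAbs_natCast]
    exact Nat.Coprime.pow_left N ((Nat.Prime.coprime_iff_not_dvd S.hp).2 he)
  obtain ⟨a, b, hab⟩ := hcop
  have hzne : z ≠ 0 := ne_zero_of_eq S.v (q := 0) hz0
  have hwne : w ≠ 0 := ne_zero_of_eq S.v (q := 0) hw0
  let y : Ω := z ^ a * w ^ b
  have hyM : y ∈ M := M.mul_mem (zpow_mem (hM hz) a) (zpow_mem hw b)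
  have hunit : ∀ {c : Ω} (hc : S.v c = 0) (n : ℤ), S.v (c ^ n) = 0 := fun {c} hc n => by
    rcases n with n | n
    · rw [Int.ofNat_eq_natCast, zpow_natCast, S.v.map_pow, hc, nsmul_zero]
    · rw [zpow_negSucc, S.v.map_inv, S.v.map_pow, hc, nsmul_zero]
      rfl
  have hy0 : S.v y = 0 := by rw [S.v.map_mul, hunit hz0, hunit hw0, add_zero]
  have hdiff : 0 < S.v (y ^ e - w) := by
    have hye : 0 ≤ S.v (y ^ e) := by rw [S.v.map_pow, hy0, nsmul_zero]
    rw [← residue_eq_residue S.v (show y ^ e ∈ O S.v from hye) (show w ∈ O S.v from hw0.ge)]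
    let zO : (O S.v)ˣ := ⟨⟨z, hz0.ge⟩, ⟨z⁻¹, (hunit hz0 (-1)).ge.trans_eq (by rw [zpow_neg_one])⟩,
      Subtype.ext (mul_inv_cancel₀ hzne), Subtype.ext (inv_mul_cancel₀ hzne)⟩
    let wO : (O S.v)ˣ := ⟨⟨w, hw0.ge⟩, ⟨w⁻¹, (hunit hw0 (-1)).ge.trans_eq (by rw [zpow_neg_one])⟩,
      Subtype.ext (mul_inv_cancel₀ hwne), Subtype.ext (inv_mul_cancel₀ hwne)⟩
    let res := Units.map (IsLocalRing.residue (O S.v) : O S.v →* IsLocalRing.ResidueField (O S.v))
    have hkey : res zO ^ (e : ℤ) = res wO ^ ((S.p ^ N : ℕ) : ℤ) := by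
      rw [zpow_natCast, zpow_natCast]
      refine Units.ext ?_
      show (IsLocalRing.residue (O S.v) ⟨z, _⟩) ^ e = (IsLocalRing.residue (O S.v) ⟨w, _⟩) ^ (S.p ^ N)
      rw [← map_pow, ← map_pow]
      refine (residue_eq_residue S.v (pow_mem (show z ∈ O S.v from hz0.ge) e)
        (pow_mem (show w ∈ O S.v from hw0.ge) (S.p ^ N))).2 ?_
      rw [show z ^ e - w ^ S.p ^ N = (z ^ e - l) - (w ^ S.p ^ N - l) by ring]
      exact lt_of_lt_of_le (lt_min hzl hwl) (S.v.map_sub _ _)
    have hres : (res zO ^ a * res wO ^ b) ^ e = res wO := by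
      rw [← zpow_natCast, mul_zpow, ← zpow_mul, mul_comm a, zpow_mul, hkey, ← zpow_mul, ← zpow_mul,
        ← zpow_add]
      conv_rhs => rw [← zpow_one (res wO)]
      congr 1
      linear_combination hab
    have hcoe : ((zO ^ a * wO ^ b : (O S.v)ˣ) : O S.v).1 = y := by
      have h := map_mul (Units.map ((O S.v).subtype : O S.v →* Ω)) (zO ^ a) (wO ^ b)
      rw [map_zpow, map_zpow] at h
      have h2 := congrArg Units.val h
      rw [Units.val_mul, Units.val_zpow_eq_zpow_val, Units.val_zpow_eq_zpow_val] at h2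
      exact h2
    have : IsLocalRing.residue (O S.v) ((((zO ^ a * wO ^ b) ^ e : (O S.v)ˣ)) : O S.v) =
        IsLocalRing.residue (O S.v) (wO : O S.v) := by
      have h := congrArg Units.val hres
      rw [← map_zpow, ← map_zpow, ← map_mul, ← map_pow] at h
      exact h
    convert this using 3
    exact congrArg (· ^ e) hcoe.symm
  -- a root of `X ^ e - w` near `y`
  let f : Ω[X] := X ^ e - C w
  have hsplit : f = (f.roots.map fun a => X - C a).prod :=
    (IsAlgClosed.splits f).eq_prod_roots_of_monic (monic_X_pow_sub_C w he0)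
  obtain ⟨r, hr, hyr⟩ : ∃ r ∈ f.roots, 0 < S.v (y - r) := by
    by_contra! hall
    have : S.v (f.eval y) ≤ 0 := by
      rw [hsplit, eval_multiset_prod, Multiset.map_map]
      revert hall
      induction f.roots using Multiset.induction_on with
      | empty => simp
      | cons a s ih =>
        intro hall
        rw [Multiset.map_cons, Multiset.prod_cons, S.v.map_mul]
        refine add_nonpos ?_ (ih fun x hx => hall x (Multiset.mem_cons_of_mem hx))
        simpa using hall a (Multiset.mem_cons_self a s)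
    simp only [f, eval_sub, eval_pow, eval_X, eval_C] at this
    exact absurd hdiff (not_lt.2 this)
  have hre : r ^ e = w := by
    have := (mem_roots (monic_X_pow_sub_C w he0).ne_zero).1 hr
    simpa [f, IsRoot, sub_eq_zero] using this
  have hr0 : S.v r = 0 := by
    rw [← hy0]
    exact S.v.map_eq_of_lt_sub (by rw [hy0, S.v.map_sub_swap]; exact hyr)
  refine ⟨r, ?_, hre⟩
  have heΩ : S.v (e : Ω) = 0 := by
    refine le_antisymm (not_lt.1 fun hpos => ?_) ?_
    · haveI : CharP (IsLocalRing.ResidueField (O S.v)) S.p := (CharP.charP_iff_prime_eq_zero S.hp).2 (by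
        rw [← map_natCast (IsLocalRing.residue (O S.v))]
        exact (residue_eq_zero S.v (x := ((S.p : O S.v) : Ω)) _).2 (by simpa using S.v_p))
      refine he ((CharP.cast_eq_zero_iff (IsLocalRing.ResidueField (O S.v)) S.p e).1 ?_)
      rw [← map_natCast (IsLocalRing.residue (O S.v))]
      exact (residue_eq_zero S.v (x := ((e : O S.v) : Ω)) _).2 (by simpa using hpos)
    · exact (natCast_mem (O S.v) e : (e : Ω) ∈ O S.v)
  refine mem_of_near S hM ?_ hyM (by rw [S.v.map_sub_swap]; exact hyr) fun σ hσ => ?_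
  · have heM : (e : M) ≠ 0 := fun h0 => by
      have : (e : Ω) = 0 := by
        rw [← map_natCast M.subtype, h0, map_zero]
      rw [this, S.v.map_zero] at heΩ
      exact WithTop.top_ne_zero heΩ
    exact (separable_X_pow_sub_C (⟨w, hw⟩ : M) heM fun h => hwne (congrArg Subtype.val h)).of_dvd
      (minpoly.dvd M r (by rw [map_sub, map_pow, aeval_X, aeval_C, hre]; exact sub_self w))
  · have hr_ne : r ≠ 0 := ne_zero_of_eq S.v (q := 0) hr0
    have hσr : σ r ^ e = r ^ e := by rw [← map_pow, hre]; exact σ.commutes ⟨w, hw⟩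
    by_contra hlt
    rw [not_le] at hlt
    set η := σ r / r
    have hη : η ^ e = 1 := by rw [div_pow, hσr, div_self (pow_ne_zero _ hr_ne)]
    have hη1 : η ≠ 1 := fun h => hσ ((div_eq_one_iff_eq hr_ne).1 h)
    have hη0 : S.v η = 0 := by
      rw [S.v.map_div, inv_over S hM, hr0, sub_zero]
    have hηsub : 0 < S.v (η - 1) := by
      rw [show η - 1 = (σ r - r) / r by rw [sub_div, div_self hr_ne], S.v.map_div, hr0, sub_zero]
      exact hlt
    have hsum : ∑ i ∈ Finset.range e, η ^ i = 0 := by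
      have := geom_sum_mul η e
      rw [hη, sub_self] at this
      exact (mul_eq_zero.1 this).resolve_right (sub_ne_zero.2 hη1)
    have hclose : 0 < S.v (∑ i ∈ Finset.range e, η ^ i - (e : Ω)) := by
      have : (e : Ω) = ∑ i ∈ Finset.range e, (1 : Ω) ^ i := by simp
      rw [this, ← Finset.sum_sub_distrib]
      exact S.v.map_lt_sum WithTop.zero_ne_top fun i _ =>
        v_pow_sub_pos S.v hη0.ge (by rw [S.v.map_one]) hηsub i
    rw [hsum, zero_sub, S.v.map_neg, heΩ] at hclose
    exact lt_irrefl _ hclose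

end Groth.Agent.Epp23
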