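import Groth.Agent.Epp23.Phase2

/-!
# The wild step far from zero

Exponents live in the finite grid `G`; the group `W M` of combinations of grid terms below `M` is
stable under the operations of one step, which lowers `M`.
-/

set_option autoImplicit false
set_option linter.style.haveILetI false
set_option linter.unusedSectionVars false
universe u

open Polynomial

namespace Groth.Agent.Epp23

variable {Ω : Type u} [Field Ω] {S : Setup Ω}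

namespace Eqn

/-- A grid for a right hand side of value at least `-N δ`. -/
structure Grid (D : Eqn S) where
  /-- the bound -/
  N : ℕ
  /-- the level -/
  J : ℕ
  /-- the root of the uniformizer -/
  ρ : Ω
  hN : N < S.p ^ J
  hNk : N < S.p * D.k
  hρ : S.v ρ = ((D.δ / (S.p ^ J : ℕ) : ℚ) : WithTop ℚ)
  hρR : ρ ^ S.p ^ J ∈ D.F

namespace Grid

variable {D : Eqn S} (Γ : Grid D)

/-- The admissible exponents. -/
def G (m : ℕ) : Prop :=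
  0 < m ∧ ∃ j ≤ Γ.J, S.p ^ (Γ.J - j) ∣ m ∧ m * S.p ^ j ≤ Γ.N * S.p ^ Γ.J

/-- The grid terms below `M`, together with the integral elements. -/
def gens (M : ℕ) : Set Ω :=
  {r | 0 ≤ S.v r} ∪ {y | ∃ (m : ℕ) (x : Ω), Γ.G m ∧ m < M ∧ x ∈ D.E ∧ 0 ≤ S.v x ∧ y = x * (Γ.ρ ^ m)⁻¹}

/-- The combinations of grid terms below `M`. -/
def W (M : ℕ) : AddSubgroup Ω := AddSubgroup.closure (Γ.gens M)

theorem ρ_ne : Γ.ρ ≠ 0 := ne_zero_of_eq S.v Γ.hρ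

theorem R_pos : (0 : ℚ) < (S.p ^ Γ.J : ℕ) := by exact_mod_cast pow_pos S.hp.pos _

theorem unit_pos : 0 < D.δ / (S.p ^ Γ.J : ℕ) := div_pos D.δ_pos Γ.R_pos

theorem G_le {m : ℕ} (h : Γ.G m) : m ≤ Γ.N * S.p ^ Γ.J := by
  obtain ⟨-, j, -, -, hb⟩ := h
  exact le_trans (Nat.le_mul_of_pos_right m (pow_pos S.hp.pos j)) hb

theorem NR_lt : Γ.N * S.p ^ Γ.J < S.p * D.k * S.p ^ Γ.J :=
  Nat.mul_lt_mul_of_pos_right Γ.hNk (pow_pos S.hp.pos _)

theorem W_mono {M M' : ℕ} (h : M ≤ M') : Γ.W M ≤ Γ.W M' :=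
  AddSubgroup.closure_mono (Set.union_subset_union_right _
    fun y ⟨m, x, h1, h2, h3⟩ => ⟨m, x, h1, h2.trans_le h, h3⟩)

theorem mem_of_nonneg {M : ℕ} {r : Ω} (h : 0 ≤ S.v r) : r ∈ Γ.W M :=
  AddSubgroup.subset_closure (Or.inl h)

theorem v_pow_ρ (n : ℕ) : S.v (Γ.ρ ^ n) = ((n * (D.δ / (S.p ^ Γ.J : ℕ)) : ℚ) : WithTop ℚ) :=
  v_pow S.v Γ.hρ n

theorem term_mem {M a c : ℕ} {x : Ω} (hx : x ∈ D.E) (hx0 : 0 ≤ S.v x)
    (h : c < a → Γ.G (a - c) ∧ a - c < M) : x * (Γ.ρ ^ a)⁻¹ * Γ.ρ ^ c ∈ Γ.W M := by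
  rcases lt_or_ge c a with hca | hca
  · obtain ⟨h1, h2⟩ := h hca
    refine AddSubgroup.subset_closure (Or.inr ⟨a - c, x, h1, h2, hx, hx0, ?_⟩)
    rw [pow_sub₀ _ Γ.ρ_ne hca.le, mul_inv, inv_inv, mul_assoc]
  · refine Γ.mem_of_nonneg ?_
    rw [S.v.map_mul, S.v.map_mul, v_inv S.v (Γ.v_pow_ρ a), Γ.v_pow_ρ c, add_assoc]
    refine add_nonneg hx0 ?_
    rw [← WithTop.coe_add, ← WithTop.coe_zero, WithTop.coe_le_coe]
    have : (a : ℚ) ≤ c := by exact_mod_cast hca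
    nlinarith [Γ.unit_pos]

theorem v_mem {M : ℕ} {y : Ω} (hy : y ∈ Γ.W (M + 1)) :
    ((-((M : ℚ) * (D.δ / (S.p ^ Γ.J : ℕ))) : ℚ) : WithTop ℚ) ≤ S.v y := by
  induction hy using AddSubgroup.closure_induction with
  | mem y hy =>
    rcases hy with hy | ⟨m, x, -, hm, -, hx0, rfl⟩
    · refine le_trans ?_ hy
      rw [← WithTop.coe_zero, WithTop.coe_le_coe, neg_nonpos]
      exact mul_nonneg (Nat.cast_nonneg M) Γ.unit_pos.le
    · rw [S.v.map_mul, v_inv S.v (Γ.v_pow_ρ m)]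
      refine le_trans ?_ (le_add_of_nonneg_left hx0)
      rw [WithTop.coe_le_coe, neg_le_neg_iff]
      exact mul_le_mul_of_nonneg_right (by exact_mod_cast Nat.lt_succ_iff.1 hm) Γ.unit_pos.le
  | zero => rw [S.v.map_zero]; exact le_top
  | add a b _ _ ha hb => exact S.v.map_le_add ha hb
  | neg a _ ha => rwa [S.v.map_neg]

theorem split {m : ℕ} {y : Ω} (hy : y ∈ Γ.W (m + 1)) :
    ∃ x ∈ D.E, 0 ≤ S.v x ∧ (Γ.G m ∨ x = 0) ∧ y - x * (Γ.ρ ^ m)⁻¹ ∈ Γ.W m := by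
  induction hy using AddSubgroup.closure_induction with
  | mem y hy =>
    rcases hy with hy | ⟨n, x, hn, hnm, hx, hx0, rfl⟩
    · exact ⟨0, D.E.zero_mem, by rw [S.v.map_zero]; exact le_top, Or.inr rfl,
        by rw [zero_mul, sub_zero]; exact Γ.mem_of_nonneg hy⟩
    · rcases (Nat.lt_succ_iff.1 hnm).lt_or_eq with h | rfl
      · exact ⟨0, D.E.zero_mem, by rw [S.v.map_zero]; exact le_top, Or.inr rfl, by
          rw [zero_mul, sub_zero]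
          exact AddSubgroup.subset_closure (Or.inr ⟨n, x, hn, h, hx, hx0, rfl⟩)⟩
      · exact ⟨x, hx, hx0, Or.inl hn, by rw [sub_self]; exact zero_mem _⟩
  | zero => exact ⟨0, D.E.zero_mem, by rw [S.v.map_zero]; exact le_top, Or.inr rfl, by simp⟩
  | add a b _ _ ha hb =>
    obtain ⟨x, hx, hx0, hxG, ha⟩ := ha
    obtain ⟨x', hx', hx0', hxG', hb⟩ := hb
    refine ⟨x + x', add_mem hx hx', S.v.map_le_add hx0 hx0', ?_, ?_⟩
    · rcases hxG with h | h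
      · exact Or.inl h
      rcases hxG' with h' | h'
      · exact Or.inl h'
      exact Or.inr (by rw [h, h', add_zero])
    · rw [show a + b - (x + x') * (Γ.ρ ^ m)⁻¹ =
        (a - x * (Γ.ρ ^ m)⁻¹) + (b - x' * (Γ.ρ ^ m)⁻¹) by ring]
      exact add_mem ha hb
  | neg a _ ha =>
    obtain ⟨x, hx, hx0, hxG, ha⟩ := ha
    refine ⟨-x, neg_mem hx, by rwa [S.v.map_neg], hxG.imp id (fun h => by rw [h, neg_zero]), ?_⟩
    rw [show -a - -x * (Γ.ρ ^ m)⁻¹ = -(a - x * (Γ.ρ ^ m)⁻¹) by ring]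
    exact neg_mem ha

theorem finitary {y : Ω} (hy : y ∈ Γ.W (S.p ^ Γ.J)) :
    ∃ x : ℕ → Ω, (∀ m, x m ∈ D.E ∧ 0 ≤ S.v (x m)) ∧
      0 ≤ S.v (y - ∑ m ∈ Finset.Ioo 0 (S.p ^ Γ.J), x m * (Γ.ρ ^ m)⁻¹) := by
  classical
  induction hy using AddSubgroup.closure_induction with
  | mem y hy =>
    rcases hy with hy | ⟨n, x, hn, hnm, hx, hx0, rfl⟩
    · refine ⟨fun _ => 0, fun _ => ⟨D.E.zero_mem, by rw [S.v.map_zero]; exact le_top⟩, ?_⟩
      simpa using hy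
    · refine ⟨fun i => if i = n then x else 0, fun i => ?_, ?_⟩
      · show (if i = n then x else 0) ∈ D.E ∧ 0 ≤ S.v (if i = n then x else 0)
        split_ifs
        · exact ⟨hx, hx0⟩
        · exact ⟨D.E.zero_mem, by rw [S.v.map_zero]; exact le_top⟩
      · rw [Finset.sum_eq_single_of_mem n (Finset.mem_Ioo.2 ⟨hn.1, hnm⟩)
          fun i _ hi => by show (if i = n then x else 0) * _ = 0; rw [if_neg hi, zero_mul]]
        show 0 ≤ S.v (_ - (if n = n then x else 0) * _)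
        rw [if_pos rfl, sub_self, S.v.map_zero]
        exact le_top
  | zero => exact ⟨fun _ => 0, fun _ => ⟨D.E.zero_mem, by rw [S.v.map_zero]; exact le_top⟩, by simp⟩
  | add a b _ _ ha hb =>
    obtain ⟨x, hx, ha⟩ := ha
    obtain ⟨x', hx', hb⟩ := hb
    refine ⟨x + x', fun i => ⟨add_mem (hx i).1 (hx' i).1, S.v.map_le_add (hx i).2 (hx' i).2⟩, ?_⟩
    simp only [Pi.add_apply, add_mul, Finset.sum_add_distrib]
    rw [add_sub_add_comm]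
    exact S.v.map_le_add ha hb
  | neg a _ ha =>
    obtain ⟨x, hx, ha⟩ := ha
    refine ⟨-x, fun i => ⟨neg_mem (hx i).1, by rw [Pi.neg_apply, S.v.map_neg]; exact (hx i).2⟩, ?_⟩
    simp only [Pi.neg_apply, neg_mul, Finset.sum_neg_distrib]
    rw [← neg_sub', S.v.map_neg]
    exact ha

theorem ρR_v : S.v (Γ.ρ ^ S.p ^ Γ.J) = ((D.δ : ℚ) : WithTop ℚ) := by
  rw [Γ.v_pow_ρ, WithTop.coe_eq_coe, mul_div_cancel₀ _ Γ.R_pos.ne']

/-- Dividing an element of `E` by powers of the uniformizer. -/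
theorem exists_div {y : Ω} (hy : y ∈ D.E) {n : ℕ} (h : ((n * D.δ : ℚ) : WithTop ℚ) ≤ S.v y) :
    ∃ γ ∈ D.E, 0 ≤ S.v γ ∧ y = γ * Γ.ρ ^ (n * S.p ^ Γ.J) := by
  have hv : S.v (Γ.ρ ^ (n * S.p ^ Γ.J)) = ((n * D.δ : ℚ) : WithTop ℚ) := by
    rw [mul_comm, pow_mul, v_pow S.v Γ.ρR_v n]
  refine ⟨y / Γ.ρ ^ (n * S.p ^ Γ.J), ?_, ?_, (div_mul_cancel₀ _ (pow_ne_zero _ Γ.ρ_ne)).symm⟩
  · refine div_mem hy ?_
    rw [mul_comm, pow_mul]
    exact pow_mem (D.mem_E Γ.hρR) n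
  · rw [S.v.map_div, hv]
    rcases eq_or_ne y 0 with rfl | hy0
    · rw [S.v.map_zero]; exact le_of_le_of_eq le_top rfl
    obtain ⟨q, hq⟩ := val_exists S.v hy0
    rw [hq] at h ⊢
    rw [WithTop.coe_le_coe] at h
    rw [← WithTop.LinearOrderedAddCommGroup.coe_sub, ← WithTop.coe_zero, WithTop.coe_le_coe]
    linarith

theorem mul_mem_W {M M' : ℕ} {a b : Ω} (ha : a ∈ Γ.W M) (hb : b ∈ Γ.W M') :
    D.c ^ S.p * a * b ∈ Γ.W M := by
  have hP := Γ.NR_lt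
  have hcp : (((S.p * D.k : ℕ) * D.δ : ℚ) : WithTop ℚ) ≤ S.v (D.c ^ S.p) := by
    rw [S.v.map_pow]
    refine le_trans (le_of_eq ?_) (nsmul_le_nsmul_right D.vc _)
    rw [← WithTop.coe_nsmul, nsmul_eq_mul, Nat.cast_mul, mul_assoc]
    rfl
  obtain ⟨γ, hγ, hγ0, hγe⟩ := Γ.exists_div (pow_mem (D.mem_E D.hc) _) hcp
  induction hb using AddSubgroup.closure_induction with
  | mem b hb =>
    induction ha using AddSubgroup.closure_induction with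
    | mem a ha =>
      rw [hγe]
      rcases ha with ha | ⟨n₁, x₁, hn₁, hn₁M, hx₁, hx₁0, rfl⟩ <;>
        rcases hb with hb | ⟨n₂, x₂, hn₂, hn₂M, hx₂, hx₂0, rfl⟩
      · refine Γ.mem_of_nonneg ?_
        rw [S.v.map_mul, S.v.map_mul, S.v.map_mul]
        refine add_nonneg (add_nonneg (add_nonneg hγ0 ?_) ha) hb
        rw [Γ.v_pow_ρ, ← WithTop.coe_zero, WithTop.coe_le_coe]
        exact mul_nonneg (Nat.cast_nonneg _) Γ.unit_pos.le
      · refine Γ.mem_of_nonneg ?_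
        rw [show γ * Γ.ρ ^ (S.p * D.k * S.p ^ Γ.J) * a * (x₂ * (Γ.ρ ^ n₂)⁻¹) =
          (γ * a * x₂) * (Γ.ρ ^ (S.p * D.k * S.p ^ Γ.J) * (Γ.ρ ^ n₂)⁻¹) by ring]
        rw [S.v.map_mul]
        refine add_nonneg (by rw [S.v.map_mul, S.v.map_mul]; exact add_nonneg (add_nonneg hγ0 ha) hx₂0) ?_
        rw [S.v.map_mul, v_inv S.v (Γ.v_pow_ρ n₂), Γ.v_pow_ρ, ← WithTop.coe_add, ← WithTop.coe_zero,
          WithTop.coe_le_coe]
        have : (n₂ : ℚ) ≤ (S.p * D.k * S.p ^ Γ.J : ℕ) := by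
          exact_mod_cast (Γ.G_le hn₂).trans hP.le
        nlinarith [Γ.unit_pos]
      · refine Γ.mem_of_nonneg ?_
        rw [show γ * Γ.ρ ^ (S.p * D.k * S.p ^ Γ.J) * (x₁ * (Γ.ρ ^ n₁)⁻¹) * b =
          (γ * x₁ * b) * (Γ.ρ ^ (S.p * D.k * S.p ^ Γ.J) * (Γ.ρ ^ n₁)⁻¹) by ring]
        rw [S.v.map_mul]
        refine add_nonneg (by rw [S.v.map_mul, S.v.map_mul]; exact add_nonneg (add_nonneg hγ0 hx₁0) hb) ?_
        rw [S.v.map_mul, v_inv S.v (Γ.v_pow_ρ n₁), Γ.v_pow_ρ, ← WithTop.coe_add, ← WithTop.coe_zero,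
          WithTop.coe_le_coe]
        have : (n₁ : ℚ) ≤ (S.p * D.k * S.p ^ Γ.J : ℕ) := by
          exact_mod_cast (Γ.G_le hn₁).trans hP.le
        nlinarith [Γ.unit_pos]
      · rw [show γ * Γ.ρ ^ (S.p * D.k * S.p ^ Γ.J) * (x₁ * (Γ.ρ ^ n₁)⁻¹) * (x₂ * (Γ.ρ ^ n₂)⁻¹) =
          (γ * x₁ * x₂) * (Γ.ρ ^ (n₁ + n₂))⁻¹ * Γ.ρ ^ (S.p * D.k * S.p ^ Γ.J) by
            rw [pow_add, mul_inv]; ring]
        refine Γ.term_mem (mul_mem (mul_mem hγ hx₁) hx₂) (by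
          rw [S.v.map_mul, S.v.map_mul]; exact add_nonneg (add_nonneg hγ0 hx₁0) hx₂0) fun hlt => ?_
        have h1 := (Γ.G_le hn₁).trans hP.le
        have h2 := (Γ.G_le hn₂).trans hP.le
        refine ⟨⟨Nat.sub_pos_of_lt hlt, ?_⟩, by omega⟩
        obtain ⟨-, j₁, hj₁, hd₁, hb₁⟩ := hn₁
        obtain ⟨-, j₂, hj₂, hd₂, hb₂⟩ := hn₂
        have hdR : ∀ j, S.p ^ (Γ.J - j) ∣ S.p * D.k * S.p ^ Γ.J := fun j =>
          Dvd.dvd.mul_left (pow_dvd_pow _ (Nat.sub_le _ _)) _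
        rcases le_total j₁ j₂ with hj | hj
        · exact ⟨j₂, hj₂, Nat.dvd_sub (Nat.dvd_add ((pow_dvd_pow _ (by omega)).trans hd₁) hd₂) (hdR _),
            le_trans (Nat.mul_le_mul_right _ (by omega)) hb₂⟩
        · exact ⟨j₁, hj₁, Nat.dvd_sub (Nat.dvd_add hd₁ ((pow_dvd_pow _ (by omega)).trans hd₂)) (hdR _),
            le_trans (Nat.mul_le_mul_right _ (by omega)) hb₁⟩
    | zero => rw [mul_zero, zero_mul]; exact zero_mem _
    | add a a' _ _ h h' => rw [mul_add, add_mul]; exact add_mem h h'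
    | neg a _ h => rw [mul_neg, neg_mul]; exact neg_mem h
  | zero => rw [mul_zero]; exact zero_mem _
  | add b b' _ _ h h' => rw [mul_add]; exact add_mem h h'
  | neg b _ h => rw [mul_neg]; exact neg_mem h

/-- The induction over the bound of the grid. -/
theorem red_far [IsAlgClosed Ω] : ∀ (M : ℕ) (F₁ : IntermediateField S.K Ω),
    FiniteDimensional S.K F₁ → D.F ≤ F₁ → Γ.ρ ∈ F₁ →
    ∀ b ∈ comp S D.E F₁, b ∈ Γ.W M → D.Red F₁ b := by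
  classical
  intro M
  induction M using Nat.strong_induction_on with
  | _ M ih =>
  intro F₁ hfin hF hρF b hb hbW
  haveI := hfin
  rcases le_or_gt M (S.p ^ Γ.J) with hM | hM
  · obtain ⟨x, hx, happ⟩ := Γ.finitary (Γ.W_mono hM hbW)
    exact D.red_near hF hρF Γ.hρ _ x (fun m hm => ⟨(Finset.mem_Ioo.1 hm).1, (Finset.mem_Ioo.1 hm).2,
      hx m⟩) hb happ
  obtain ⟨m, rfl⟩ : ∃ m, M = m + 1 := ⟨M - 1, by omega⟩
  have hmR : S.p ^ Γ.J ≤ m := Nat.lt_succ_iff.1 hM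
  have hm0 : 0 < m := lt_of_lt_of_le (pow_pos S.hp.pos _) hmR
  obtain ⟨x, hxE, hx0, hG, hrest⟩ := Γ.split hbW
  rcases hG with hG | rfl
  swap
  · rw [zero_mul, sub_zero] at hrest
    exact ih m (Nat.lt_succ_self m) F₁ hfin hF hρF b hb hrest
  obtain ⟨-, j, hjJ, hdvd, hbound⟩ := hG
  rcases eq_or_ne (S.v x) 0 with hx1 | hx1
  swap
  · refine ih m (Nat.lt_succ_self m) F₁ hfin hF hρF b hb ?_
    have hxpos : 0 < S.v x := lt_of_le_of_ne hx0 (Ne.symm hx1)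
    obtain ⟨γ, hγ, hγ0, rfl⟩ := Γ.exists_div hxE (n := 1) (by
      rw [Nat.cast_one, one_mul]; exact D.disc.le_of_pos S.v D.δ_pos hxE hxpos)
    have h := add_mem hrest (Γ.term_mem (M := m) (a := m) (c := S.p ^ Γ.J) hγ hγ0 fun hlt =>
      ⟨⟨Nat.sub_pos_of_lt hlt, j, hjJ, Nat.dvd_sub hdvd (pow_dvd_pow _ (Nat.sub_le _ _)),
        le_trans (Nat.mul_le_mul_right _ (Nat.sub_le _ _)) hbound⟩,
        Nat.sub_lt hm0 (pow_pos S.hp.pos _)⟩)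
    rwa [one_mul, show b - γ * Γ.ρ ^ S.p ^ Γ.J * (Γ.ρ ^ m)⁻¹ + γ * (Γ.ρ ^ m)⁻¹ * Γ.ρ ^ S.p ^ Γ.J = b by
      ring] at h
  by_cases hpow : ∃ y ∈ D.E, 0 < S.v (x - y ^ S.p)
  swap
  · have hsv := v_inv S.v (Γ.v_pow_ρ m)
    refine D.red_of_notPow hF hb (inv_mem (pow_mem hρF m)) hsv ?_ hxE ⟨hx0, hpow⟩ ?_
    · rw [neg_lt_zero]
      exact mul_pos (by exact_mod_cast hm0) Γ.unit_pos
    · obtain ⟨m', rfl⟩ : ∃ m', m = m' + 1 := ⟨m - 1, by omega⟩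
      rw [mul_comm _ x]
      refine lt_of_lt_of_le ?_ (Γ.v_mem hrest)
      rw [WithTop.coe_lt_coe, neg_lt_neg_iff]
      exact mul_lt_mul_of_pos_right (by exact_mod_cast Nat.lt_succ_self m') Γ.unit_pos
  obtain ⟨y, hy, hxy⟩ := hpow
  have hy0 := v_nonneg_of_pow_near S.v hx0 S.hp.pos hxy
  have hjlt : j < Γ.J := by
    have h1 : S.p ^ Γ.J * S.p ^ j ≤ Γ.N * S.p ^ Γ.J :=
      le_trans (Nat.mul_le_mul_right _ hmR) hbound
    have h2 : S.p ^ j ≤ Γ.N := by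
      rw [mul_comm] at h1
      exact Nat.le_of_mul_le_mul_right h1 (pow_pos S.hp.pos _)
    exact (Nat.pow_lt_pow_iff_right S.hp.one_lt).1 (h2.trans_lt Γ.hN)
  obtain ⟨q, hq⟩ : S.p ∣ m := (dvd_pow_self S.p (by omega : Γ.J - j ≠ 0)).trans hdvd
  have hqd : S.p ^ (Γ.J - (j + 1)) ∣ q := by
    have : S.p * S.p ^ (Γ.J - (j + 1)) ∣ S.p * q := by
      rw [← pow_succ', ← hq]
      rwa [show Γ.J - (j + 1) + 1 = Γ.J - j by omega]
    exact Nat.dvd_of_mul_dvd_mul_left S.hp.pos this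
  have hqk : q < D.k * S.p ^ Γ.J := by
    have h1 : S.p * q < S.p * (D.k * S.p ^ Γ.J) := by
      rw [← hq, ← mul_assoc]
      exact lt_of_le_of_lt (le_trans (Nat.le_mul_of_pos_right m (pow_pos S.hp.pos j)) hbound) Γ.NR_lt
    exact Nat.lt_of_mul_lt_mul_left h1
  have hq0 : 0 < q := Nat.pos_of_ne_zero fun h => by rw [h, mul_zero] at hq; omega
  have hqm : q < m := hq ▸ (lt_mul_iff_one_lt_left hq0).2 S.hp.one_lt
  let w := y * (Γ.ρ ^ q)⁻¹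
  have hwE : w ∈ comp S D.E F₁ :=
    mul_mem (le_comp_left S _ _ hy) (inv_mem (pow_mem (le_comp_right S _ _ hρF) q))
  have hsW : D.g w - x * (Γ.ρ ^ m)⁻¹ ∈ Γ.W m := by
    have e : D.g w - x * (Γ.ρ ^ m)⁻¹ = (y ^ S.p - x) * (Γ.ρ ^ m)⁻¹ +
        ∑ i ∈ Finset.Ioo 0 S.p, D.a i * y ^ i * (Γ.ρ ^ (i * q))⁻¹ := by
      rw [g, mul_pow, inv_pow, ← pow_mul, mul_comm q, ← hq, Finset.sum_congr rfl fun i _ => by
        rw [mul_pow, inv_pow, ← pow_mul, mul_comm q, ← mul_assoc]]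
      ring
    rw [e]
    refine add_mem ?_ (sum_mem fun i hi => ?_)
    · obtain ⟨γ, hγ, hγ0, hγe⟩ := Γ.exists_div (n := 1) (sub_mem (pow_mem hy _) hxE) (by
        rw [Nat.cast_one, one_mul]
        exact D.disc.le_of_pos S.v D.δ_pos (sub_mem (pow_mem hy _) hxE)
          (by rw [S.v.map_sub_swap]; exact hxy))
      rw [hγe, one_mul, mul_right_comm]
      exact Γ.term_mem hγ hγ0 fun hlt => ⟨⟨Nat.sub_pos_of_lt hlt, j, hjJ,
        Nat.dvd_sub hdvd (pow_dvd_pow _ (Nat.sub_le _ _)),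
        le_trans (Nat.mul_le_mul_right _ (Nat.sub_le _ _)) hbound⟩,
        Nat.sub_lt hm0 (pow_pos S.hp.pos _)⟩
    · obtain ⟨hi1, hi2⟩ := Finset.mem_Ioo.1 hi
      obtain ⟨α, hα, hα0, hαe⟩ := Γ.exists_div (n := (i - 1) * D.k) (D.mem_E (D.ha i)) (D.va i)
      rw [hαe, show α * Γ.ρ ^ ((i - 1) * D.k * S.p ^ Γ.J) * y ^ i * (Γ.ρ ^ (i * q))⁻¹ =
        (α * y ^ i) * (Γ.ρ ^ (i * q))⁻¹ * Γ.ρ ^ ((i - 1) * D.k * S.p ^ Γ.J) by ring]
      refine Γ.term_mem (mul_mem hα (pow_mem hy i)) (by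
        rw [S.v.map_mul, S.v.map_pow]; exact add_nonneg hα0 (nsmul_nonneg hy0 i)) fun hlt => ?_
      have hle : i * q - (i - 1) * D.k * S.p ^ Γ.J ≤ q := by
        obtain ⟨i', rfl⟩ : ∃ i', i = i' + 1 := ⟨i - 1, by omega⟩
        rw [Nat.add_sub_cancel, add_mul, one_mul]
        have : i' * q ≤ i' * D.k * S.p ^ Γ.J := by
          rw [mul_assoc]; exact Nat.mul_le_mul_left _ hqk.le
        omega
      refine ⟨⟨Nat.sub_pos_of_lt hlt, j + 1, hjlt, Nat.dvd_sub (Dvd.dvd.mul_left hqd _)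
        (Dvd.dvd.mul_left (pow_dvd_pow _ (Nat.sub_le _ _)) _), ?_⟩, lt_of_le_of_lt hle hqm⟩
      refine le_trans (Nat.mul_le_mul_right _ hle) ?_
      calc q * S.p ^ (j + 1) = m * S.p ^ j := by rw [hq, pow_succ]; ring
        _ ≤ _ := hbound
  have hd : b - D.g w ∈ Γ.W m := by
    rw [show b - D.g w = (b - x * (Γ.ρ ^ m)⁻¹) - (D.g w - x * (Γ.ρ ^ m)⁻¹) by ring]
    exact sub_mem hrest hsW
  have hs : D.g w ∈ Γ.W (m + 1) := by
    rw [show D.g w = (D.g w - x * (Γ.ρ ^ m)⁻¹) + x * (Γ.ρ ^ m)⁻¹ * Γ.ρ ^ 0 by rw [pow_zero]; ring]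
    exact add_mem (Γ.W_mono (Nat.le_succ m) hsW) (Γ.term_mem hxE hx0 fun _ =>
      ⟨⟨by simpa using hm0, j, hjJ, by simpa using hdvd, by simpa using hbound⟩, by simp⟩)
  set uu := D.c ^ S.p * D.g w with huu
  have hpow' : ∀ n : ℕ, (-uu) ^ n * (b - D.g w) ∈ Γ.W m := by
    intro n
    induction n with
    | zero => rwa [pow_zero, one_mul]
    | succ n ihn =>
      rw [show (-uu) ^ (n + 1) * (b - D.g w) =
        -(D.c ^ S.p * ((-uu) ^ n * (b - D.g w)) * D.g w) by rw [huu, pow_succ]; ring]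
      exact neg_mem (Γ.mul_mem_W ihn hs)
  set P := S.p * D.k * S.p ^ Γ.J with hPdef
  have hmP : m + 1 ≤ P :=
    lt_of_le_of_lt (le_trans (Nat.le_mul_of_pos_right m (pow_pos S.hp.pos j)) hbound) Γ.NR_lt
  have hvu : ((D.δ / (S.p ^ Γ.J : ℕ) : ℚ) : WithTop ℚ) ≤ S.v uu := by
    rw [huu, S.v.map_mul, S.v.map_pow]
    refine le_trans ?_ (add_le_add (nsmul_le_nsmul_right D.vc _) (Γ.v_mem hs))
    rw [← WithTop.coe_nsmul, ← WithTop.coe_add, WithTop.coe_le_coe, nsmul_eq_mul]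
    have e : (S.p : ℚ) * (D.k * step S D.F) = (P : ℚ) * (D.δ / (S.p ^ Γ.J : ℕ)) := by
      rw [hPdef, Nat.cast_mul (S.p * D.k), mul_assoc ((S.p * D.k : ℕ) : ℚ),
        mul_div_cancel₀ _ Γ.R_pos.ne', Nat.cast_mul, mul_assoc]
      rfl
    rw [e]
    have : (m : ℚ) + 1 ≤ P := by exact_mod_cast hmP
    nlinarith [Γ.unit_pos]
  have hupos : 0 < S.v uu := lt_of_lt_of_le (by
    rw [← WithTop.coe_zero, WithTop.coe_lt_coe]; exact Γ.unit_pos) hvu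
  have h1u : S.v (1 + uu) = 0 := by
    rw [S.v.map_add_eq_of_lt_left (by rwa [S.v.map_one]), S.v.map_one]
  have hne : 1 + uu ≠ 0 := ne_zero_of_eq S.v (q := 0) h1u
  have hcw : 0 < S.v (D.c * w) := by
    rw [S.v.map_mul, S.v.map_mul, v_inv S.v (Γ.v_pow_ρ q)]
    refine lt_of_lt_of_le ?_ (add_le_add D.vc (le_add_of_nonneg_left hy0))
    rw [← WithTop.coe_add, ← WithTop.coe_zero, WithTop.coe_lt_coe]
    have e : (D.k : ℚ) * step S D.F = ((D.k * S.p ^ Γ.J : ℕ) : ℚ) * (D.δ / (S.p ^ Γ.J : ℕ)) := by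
      rw [Nat.cast_mul, mul_assoc, mul_div_cancel₀ _ Γ.R_pos.ne']
      rfl
    rw [e]
    have : (q : ℚ) + 1 ≤ ((D.k * S.p ^ Γ.J : ℕ) : ℚ) := by exact_mod_cast hqk
    nlinarith [Γ.unit_pos]
  have hne' : 1 + D.c * w ≠ 0 := by
    refine ne_zero_of_eq S.v (q := 0) ?_
    rw [S.v.map_add_eq_of_lt_left (by rwa [S.v.map_one]), S.v.map_one]
    rfl
  have hFM : D.F.toSubfield ≤ comp S D.E F₁ := D.hFE.trans le_sup_left
  refine D.red_of_shift le_rfl hwE hne' hne (ih m (Nat.lt_succ_self m) F₁ hfin hF hρF _ ?_ ?_)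
  · exact div_mem (sub_mem hb (D.g_mem hFM hwE))
      (add_mem (one_mem _) (mul_mem (pow_mem (hFM D.hc) _) (D.g_mem hFM hwE)))
  · have e : (b - D.g w) / (1 + uu) = ∑ n ∈ Finset.range P, (-uu) ^ n * (b - D.g w) +
        (-uu) ^ P * (b - D.g w) / (1 + uu) := by
      rw [← Finset.sum_mul, div_eq_iff hne, add_mul, div_mul_cancel₀ _ hne]
      linear_combination (b - D.g w) * geom_sum_mul (-uu) P
    show (b - D.g w) / (1 + uu) ∈ Γ.W m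
    rw [e]
    refine add_mem (sum_mem fun n _ => hpow' n) (Γ.mem_of_nonneg ?_)
    rw [S.v.map_div, h1u, sub_zero, S.v.map_mul, S.v.map_pow, S.v.map_neg]
    obtain ⟨m', rfl⟩ : ∃ m', m = m' + 1 := ⟨m - 1, by omega⟩
    refine le_trans ?_ (add_le_add (nsmul_le_nsmul_right hvu P) (Γ.v_mem hd))
    rw [← WithTop.coe_nsmul, ← WithTop.coe_add, ← WithTop.coe_zero, WithTop.coe_le_coe, nsmul_eq_mul]
    have : (m' : ℚ) ≤ P := by exact_mod_cast (by omega : m' ≤ P)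
    nlinarith [Γ.unit_pos]

end Grid

/-- The wild step. -/
theorem wild (D : Eqn S) [IsAlgClosed Ω] {b : Ω} (hb : b ∈ D.E) {N : ℕ}
    (hbv : ((-((N : ℚ) * D.δ) : ℚ) : WithTop ℚ) ≤ S.v b) (hN : N < S.p * D.k) :
    D.Red D.F b := by
  haveI := D.fin
  rcases le_or_gt 0 (S.v b) with h0 | h0
  · exact D.red_of_nonneg le_rfl (le_comp_left S _ _ hb) h0
  obtain ⟨ϖ, hϖ, hϖv⟩ := exists_uniformizer S D.F
  obtain ⟨F₁, ρ, hfin, hle, hρF, hρR, hρv, -⟩ :=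
    exists_root_ext S D.F hϖ hϖv (pow_pos S.hp.pos N)
  let Γ : Grid D :=
    { N := N, J := N, ρ := ρ, hN := Nat.lt_pow_self S.hp.one_lt, hNk := hN, hρ := hρv
      hρR := by rw [hρR]; exact hϖ }
  suffices hbW : b ∈ Γ.W (N * S.p ^ N + 1) by
    intro z hz
    obtain ⟨F', h1, h2, h3⟩ := Γ.red_far _ F₁ hfin hle hρF b (le_comp_left S _ _ hb) hbW z hz
    exact ⟨F', h1, hle.trans h2, h3⟩
  obtain ⟨q, hq, hbq⟩ := v_neg_of_not_nonneg S.v (not_le.2 h0)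
  obtain ⟨k, hk⟩ := D.disc b hb (ne_zero_of_eq S.v hbq)
  rw [hbq, WithTop.coe_eq_coe] at hk
  rw [hbq, WithTop.coe_le_coe] at hbv
  have hδ : 0 < step S D.F := D.δ_pos
  have hk0 : k < 0 := by
    have : (k : ℚ) < 0 := by nlinarith
    exact_mod_cast this
  obtain ⟨n, hn⟩ : ∃ n : ℕ, (n : ℤ) = -k := ⟨k.natAbs, by omega⟩
  have hnN : n ≤ N := by
    have h1 : -(k : ℚ) ≤ N := by
      have : (-k : ℚ) * step S D.F ≤ N * step S D.F := by
        show _ ≤ _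
        have : -((N : ℚ) * step S D.F) ≤ q := hbv
        rw [hk] at this
        linarith
      exact le_of_mul_le_mul_right this hδ
    have h2 : (n : ℚ) ≤ N := by
      rw [show (n : ℚ) = ((n : ℤ) : ℚ) by simp, hn, Int.cast_neg]
      exact h1
    exact_mod_cast h2
  have hn0 : 0 < n := by omega
  have hvx : S.v (b * ϖ ^ n) = 0 := by
    rw [v_mul S.v hbq (v_pow S.v hϖv n), ← WithTop.coe_zero, WithTop.coe_eq_coe, hk,
      show (n : ℚ) = ((n : ℤ) : ℚ) by simp, hn]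
    push_cast
    ring
  have hb' : b = b * ϖ ^ n * (ρ ^ (n * S.p ^ N))⁻¹ * ρ ^ 0 := by
    rw [pow_zero, mul_one, mul_comm n, pow_mul, hρR, mul_inv_cancel_right₀]
    exact pow_ne_zero _ (ne_zero_of_eq S.v hϖv)
  rw [hb']
  refine Γ.term_mem (mul_mem hb (pow_mem (D.mem_E hϖ) n)) hvx.ge fun _ => ?_
  refine ⟨⟨by simpa using Nat.mul_pos hn0 (pow_pos S.hp.pos N), 0, Nat.zero_le _, ?_, ?_⟩, ?_⟩
  · show S.p ^ (N - 0) ∣ n * S.p ^ N - 0
    simp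
  · show (n * S.p ^ N - 0) * S.p ^ 0 ≤ N * S.p ^ N
    simpa using Nat.mul_le_mul_right (S.p ^ N) hnN
  · show n * S.p ^ N - 0 < N * S.p ^ N + 1
    have := Nat.mul_le_mul_right (S.p ^ N) hnN
    omega

end Eqn

end Groth.Agent.Epp23
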