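import Groth.Agent.Epp23.Step

/-!
# The wild step near zero

The right hand side is a finite combination, modulo integral elements, of negative powers of a root
of a uniformizer, all of value above `-δ`; we induct on the number of terms and on the sum of the
depths of their coefficients.
-/

set_option autoImplicit false
set_option linter.style.haveILetI false
set_option linter.unusedSectionVars false
universe u

open Polynomial

namespace Groth.Agent.Epp23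

variable {Ω : Type u} [Field Ω] {S : Setup Ω}

theorem v_neg_of_not_nonneg (v : AddValuation Ω (WithTop ℚ)) {z : Ω} (h : ¬ 0 ≤ v z) :
    ∃ q : ℚ, q < 0 ∧ v z = q := by
  rw [not_le] at h
  obtain ⟨q, hq⟩ := val_exists v (x := z) fun h0 => by
    rw [h0, v.map_zero] at h
    exact absurd h (not_lt.2 le_top)
  rw [hq, ← WithTop.coe_zero, WithTop.coe_lt_coe] at h
  exact ⟨q, h, hq⟩

theorem v_nonneg_of_pow_near (v : AddValuation Ω (WithTop ℚ)) {x y : Ω} (hx : 0 ≤ v x) {n : ℕ}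
    (hn : 0 < n) (h : 0 < v (x - y ^ n)) : 0 ≤ v y := by
  by_contra hy
  obtain ⟨q, hq, hv⟩ := v_neg_of_not_nonneg v hy
  have h1 : v (y ^ n) < 0 := by
    rw [v_pow v hv, ← WithTop.coe_zero, WithTop.coe_lt_coe]
    exact mul_neg_of_pos_of_neg (by exact_mod_cast hn) hq
  rw [v.map_sub_eq_of_lt_right (h1.trans_le hx)] at h
  exact absurd h (not_lt.2 h1.le)

namespace Eqn

variable (D : Eqn S)

/-- Infinitely divisible residues come from `K`. -/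
theorem exists_const {x : Ω} (hx : x ∈ D.E) (hx0 : 0 ≤ S.v x)
    (h : ∀ n : ℕ, ∃ y ∈ D.E, 0 < S.v (x - y ^ S.p ^ n)) : ∃ μ ∈ S.K, 0 < S.v (x - μ) := by
  obtain ⟨N, hN⟩ := D.bdd
  have hp := S.hp
  have key : ∀ j : ℕ, ∃ η ∈ S.L, 0 ≤ S.v η ∧ 0 < S.v (x ^ S.p ^ N - η ^ S.p ^ j) := by
    intro j
    obtain ⟨y, hy, hxy⟩ := h j
    have hy0 := v_nonneg_of_pow_near S.v hx0 (pow_pos hp.pos j) hxy
    obtain ⟨l, hl, hyl⟩ := hN y hy hy0
    have hl0 : 0 ≤ S.v l := by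
      rw [show l = y ^ S.p ^ N - (y ^ S.p ^ N - l) by ring]
      exact S.v.map_le_sub (by rw [S.v.map_pow]; exact nsmul_nonneg hy0 _) hyl.le
    refine ⟨l, hl, hl0, ?_⟩
    have h1 : 0 < S.v (x ^ S.p ^ N - (y ^ S.p ^ j) ^ S.p ^ N) :=
      v_pow_sub_pos S.v hx0 (by rw [S.v.map_pow]; exact nsmul_nonneg hy0 _) hxy _
    have h2 : 0 < S.v ((y ^ S.p ^ N) ^ S.p ^ j - l ^ S.p ^ j) :=
      v_pow_sub_pos S.v (by rw [S.v.map_pow]; exact nsmul_nonneg hy0 _) hl0 hyl _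
    rw [show x ^ S.p ^ N - l ^ S.p ^ j = (x ^ S.p ^ N - (y ^ S.p ^ j) ^ S.p ^ N) +
      ((y ^ S.p ^ N) ^ S.p ^ j - l ^ S.p ^ j) by rw [← pow_mul, ← pow_mul, mul_comm]; ring]
    exact S.v.map_lt_add h1 h2
  choose η hηL hη0 hη using key
  have hdiv : ∀ n : ℕ, ∃ y ∈ S.L, 0 < S.v (η N - y ^ S.p ^ n) := fun n => by
    refine ⟨η (N + n), hηL _, ?_⟩
    refine v_sub_pos_of_pow S.v hp S.v_p (hη0 N)
      (by rw [S.v.map_pow]; exact nsmul_nonneg (hη0 _) _) N ?_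
    rw [← pow_mul, ← pow_add, add_comm n N,
      show η N ^ S.p ^ N - η (N + n) ^ S.p ^ (N + n) =
        (x ^ S.p ^ N - η (N + n) ^ S.p ^ (N + n)) - (x ^ S.p ^ N - η N ^ S.p ^ N) by ring]
    exact lt_of_lt_of_le (lt_min (hη _) (hη N)) (S.v.map_sub _ _)
  obtain ⟨μ, hμ, hμ'⟩ := S.resK _ (hηL N) (hη0 N) hdiv
  have hμ0 : 0 ≤ S.v μ := by
    rw [show μ = η N - (η N - μ) by ring]
    exact S.v.map_le_sub (hη0 N) hμ'.le
  refine ⟨μ, hμ, v_sub_pos_of_pow S.v hp S.v_p hx0 hμ0 N ?_⟩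
  rw [show x ^ S.p ^ N - μ ^ S.p ^ N = (x ^ S.p ^ N - η N ^ S.p ^ N) + (η N ^ S.p ^ N - μ ^ S.p ^ N) by ring]
  exact S.v.map_lt_add (hη N) (v_pow_sub_pos S.v (hη0 N) hμ0 hμ' _)

/-- Near zero `g w` is `w ^ p - w` up to integral elements. -/
theorem g_approx {w : Ω} (hv : ((-D.δ / S.p : ℚ) : WithTop ℚ) ≤ S.v w) :
    0 ≤ S.v (D.g w - (w ^ S.p - w)) := by
  classical
  have hp2 : (2 : ℚ) ≤ S.p := by exact_mod_cast S.hp.two_le
  have h1 : 1 ∈ Finset.Ioo 0 S.p := Finset.mem_Ioo.2 ⟨one_pos, S.hp.one_lt⟩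
  have hsplit : D.g w - (w ^ S.p - w) =
      (D.a 1 + 1) * w + ∑ i ∈ (Finset.Ioo 0 S.p).erase 1, D.a i * w ^ i := by
    rw [g, ← Finset.add_sum_erase _ _ h1]
    ring
  rw [hsplit]
  have hδ := D.δ_pos
  refine S.v.map_le_add ?_ (S.v.map_le_sum fun i hi => ?_)
  · have h2 : ((D.δ : ℚ) : WithTop ℚ) ≤ S.v (D.a 1 + 1) :=
      D.disc.le_of_pos S.v hδ (add_mem (D.mem_E (D.ha 1)) D.E.one_mem) D.va1
    rw [S.v.map_mul]
    refine le_trans ?_ (add_le_add h2 hv)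
    rw [← WithTop.coe_add, ← WithTop.coe_zero, WithTop.coe_le_coe]
    have : D.δ / S.p ≤ D.δ := div_le_self hδ.le (by linarith)
    rw [neg_div]
    linarith
  · obtain ⟨hi1, hi2⟩ := Finset.mem_erase.1 hi
    obtain ⟨hi3, hi4⟩ := Finset.mem_Ioo.1 hi2
    have hk : (1 : ℚ) ≤ D.k := by exact_mod_cast D.hk
    have hi5 : (2 : ℚ) ≤ i := by exact_mod_cast (by omega : 2 ≤ i)
    rw [S.v.map_mul, S.v.map_pow]
    refine le_trans ?_ (add_le_add (D.va i) (nsmul_le_nsmul_right hv i))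
    rw [← WithTop.coe_nsmul, ← WithTop.coe_add, ← WithTop.coe_zero, WithTop.coe_le_coe,
      nsmul_eq_mul, Nat.cast_mul, Nat.cast_sub (by omega), Nat.cast_one]
    show 0 ≤ ((i : ℚ) - 1) * D.k * D.δ + i * (-D.δ / S.p)
    have h3 : (i : ℚ) / S.p ≤ (i : ℚ) / 2 := div_le_div_of_nonneg_left (by linarith) two_pos hp2
    have h4 : ((i : ℚ) - 1) * 1 ≤ ((i : ℚ) - 1) * D.k := mul_le_mul_of_nonneg_left hk (by linarith)
    have e : (i : ℚ) * (-D.δ / S.p) = -((i : ℚ) / S.p) * D.δ := by ring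
    rw [e]
    nlinarith

/-- Replacing `b` by `b - g w` near zero. -/
theorem replace_near {F₁ F₂ : IntermediateField S.K Ω} (hF : F₁ ≤ F₂) {b w : Ω}
    (hb : b ∈ comp S D.E F₁) (hw : w ∈ comp S D.E F₂)
    (hvb : ((-D.δ : ℚ) : WithTop ℚ) ≤ S.v b) (hvs : ((-D.δ : ℚ) : WithTop ℚ) ≤ S.v (D.g w))
    (h : ∀ b' ∈ comp S D.E F₂, 0 ≤ S.v (b' - (b - D.g w)) → D.Red F₂ b') : D.Red F₁ b := by
  have hδ := D.δ_pos
  have hp2 : (2 : ℚ) ≤ S.p := by exact_mod_cast S.hp.two_le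
  have hk : (1 : ℚ) ≤ D.k := by exact_mod_cast D.hk
  have hvw := D.v_ge_of_g (neg_nonpos.2 hδ.le) hvs
  have hcw : 0 < S.v (D.c * w) := by
    rw [S.v.map_mul]
    refine lt_of_lt_of_le ?_ (add_le_add D.vc hvw)
    rw [← WithTop.coe_add, ← WithTop.coe_zero, WithTop.coe_lt_coe]
    show 0 < (D.k : ℚ) * D.δ + -D.δ / S.p
    have : D.δ / S.p ≤ D.δ / 2 := div_le_div_of_nonneg_left hδ.le two_pos hp2
    rw [neg_div]
    nlinarith
  have hu : (((2 * D.δ - D.δ : ℚ)) : WithTop ℚ) ≤ S.v (D.c ^ S.p * D.g w) := by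
    rw [S.v.map_mul, S.v.map_pow]
    refine le_trans ?_ (add_le_add (nsmul_le_nsmul_right D.vc _) hvs)
    rw [← WithTop.coe_nsmul, ← WithTop.coe_add, WithTop.coe_le_coe, nsmul_eq_mul]
    show 2 * D.δ - D.δ ≤ (S.p : ℚ) * (D.k * D.δ) + -D.δ
    have : (2 : ℚ) * 1 ≤ S.p * D.k := mul_le_mul hp2 hk zero_le_one (by linarith)
    nlinarith
  have hupos : 0 < S.v (D.c ^ S.p * D.g w) := by
    refine lt_of_lt_of_le ?_ hu
    rw [← WithTop.coe_zero, WithTop.coe_lt_coe]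
    linarith
  have h1u : S.v (1 + D.c ^ S.p * D.g w) = 0 := by
    rw [S.v.map_add_eq_of_lt_left (by rwa [S.v.map_one]), S.v.map_one]
  have hne : (1 : Ω) + D.c ^ S.p * D.g w ≠ 0 := ne_zero_of_eq S.v (q := 0) h1u
  have hne' : (1 : Ω) + D.c * w ≠ 0 := by
    refine ne_zero_of_eq S.v (q := 0) ?_
    rw [S.v.map_add_eq_of_lt_left (by rwa [S.v.map_one]), S.v.map_one]
    rfl
  refine D.red_of_shift hF hw hne' hne (h _ ?_ ?_)
  · have hbF := comp_mono S (le_refl D.E) hF hb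
    have hFM : D.F.toSubfield ≤ comp S D.E F₂ := D.hFE.trans le_sup_left
    exact div_mem (sub_mem hbF (D.g_mem hFM hw))
      (add_mem (one_mem _) (mul_mem (pow_mem (hFM D.hc) _) (D.g_mem hFM hw)))
  · have hbs : ((-D.δ : ℚ) : WithTop ℚ) ≤ S.v (b - D.g w) := S.v.map_le_sub hvb hvs
    have e : (b - D.g w) / (1 + D.c ^ S.p * D.g w) - (b - D.g w) =
        -((b - D.g w) * (D.c ^ S.p * D.g w)) / (1 + D.c ^ S.p * D.g w) := by
      rw [eq_div_iff hne, sub_mul, div_mul_cancel₀ _ hne]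
      ring
    rw [e, S.v.map_div, h1u, sub_zero, S.v.map_neg, S.v.map_mul]
    refine le_trans ?_ (add_le_add hbs hu)
    rw [← WithTop.coe_add, ← WithTop.coe_zero, WithTop.coe_le_coe]
    linarith

open Classical in
/-- The first exponent at which `x` stops being a power. -/
noncomputable def depth (x : Ω) : ℕ :=
  if h : ∃ n : ℕ, ¬ ∃ y ∈ D.E, 0 < S.v (x - y ^ S.p ^ n) then Nat.find h else 0

theorem depth_lt {x y : Ω} (hx : x ∈ D.E) (hy : y ∈ D.E) (hx0 : 0 ≤ S.v x)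
    (hfin : ∃ n : ℕ, ¬ ∃ y ∈ D.E, 0 < S.v (x - y ^ S.p ^ n)) (hxy : 0 < S.v (x - y ^ S.p)) :
    D.depth y < D.depth x := by
  classical
  have hd : D.depth x = Nat.find hfin := by rw [depth, dif_pos hfin]
  have hspec := Nat.find_spec hfin
  have hpos : 0 < Nat.find hfin := by
    rw [Nat.pos_iff_ne_zero]
    intro h0
    rw [h0] at hspec
    exact hspec ⟨x, hx, by rw [pow_zero, pow_one, sub_self, S.v.map_zero]; exact WithTop.coe_lt_top _⟩
  have hy0 := v_nonneg_of_pow_near S.v hx0 S.hp.pos hxy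
  have hy' : ¬ ∃ z ∈ D.E, 0 < S.v (y - z ^ S.p ^ (Nat.find hfin - 1)) := by
    rintro ⟨z, hz, hyz⟩
    refine hspec ⟨z, hz, ?_⟩
    have hz0 := v_nonneg_of_pow_near S.v hy0 (pow_pos S.hp.pos _) hyz
    have h2 := v_pow_sub_pos S.v hy0 (by rw [S.v.map_pow]; exact nsmul_nonneg hz0 _) hyz S.p
    rw [← pow_mul, ← pow_succ, Nat.sub_add_cancel hpos] at h2
    rw [show x - z ^ S.p ^ Nat.find hfin = (x - y ^ S.p) + (y ^ S.p - z ^ S.p ^ Nat.find hfin) by ring]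
    exact S.v.map_lt_add hxy h2
  rw [hd, depth, dif_pos ⟨_, hy'⟩]
  exact lt_of_le_of_lt (Nat.find_le hy') (by omega)

theorem v_term {J m : ℕ} {ρ : Ω} (hρ : S.v ρ = ((D.δ / (S.p ^ J : ℕ) : ℚ) : WithTop ℚ))
    (hm : m < S.p ^ J) {x : Ω} (hx : 0 ≤ S.v x) :
    ((-D.δ : ℚ) : WithTop ℚ) ≤ S.v (x * (ρ ^ m)⁻¹) := by
  rw [S.v.map_mul, v_inv S.v (v_pow S.v hρ m)]
  refine le_trans ?_ (le_add_of_nonneg_left hx)
  rw [WithTop.coe_le_coe, neg_le_neg_iff]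
  have hR : (0 : ℚ) < (S.p ^ J : ℕ) := by exact_mod_cast pow_pos S.hp.pos J
  have : (m : ℚ) ≤ (S.p ^ J : ℕ) := by exact_mod_cast hm.le
  rw [mul_div, div_le_iff₀ hR]
  nlinarith [D.δ_pos]

theorem v_small_term {J m : ℕ} {ρ : Ω} (hρ : S.v ρ = ((D.δ / (S.p ^ J : ℕ) : ℚ) : WithTop ℚ))
    (hm : m ≤ S.p ^ J) {x : Ω} (hx : x ∈ D.E) (hx0 : 0 < S.v x) :
    0 ≤ S.v (x * (ρ ^ m)⁻¹) := by
  rw [S.v.map_mul, v_inv S.v (v_pow S.v hρ m)]
  refine le_trans ?_ (add_le_add (D.disc.le_of_pos S.v D.δ_pos hx hx0) le_rfl)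
  rw [← WithTop.coe_add, ← WithTop.coe_zero, WithTop.coe_le_coe]
  have hR : (0 : ℚ) < (S.p ^ J : ℕ) := by exact_mod_cast pow_pos S.hp.pos J
  have : (m : ℚ) ≤ (S.p ^ J : ℕ) := by exact_mod_cast hm
  show 0 ≤ D.δ + -((m : ℚ) * (D.δ / (S.p ^ J : ℕ)))
  rw [mul_div, ← sub_eq_add_neg, sub_nonneg, div_le_iff₀ hR]
  nlinarith [D.δ_pos]

/-- The statement proved by induction. -/
def NearOK (n d : ℕ) : Prop :=
  ∀ (F₁ : IntermediateField S.K Ω), FiniteDimensional S.K F₁ → D.F ≤ F₁ → ∀ (J : ℕ) (ρ : Ω),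
    ρ ∈ F₁ → S.v ρ = ((D.δ / (S.p ^ J : ℕ) : ℚ) : WithTop ℚ) → ∀ (T : Finset ℕ) (x : ℕ → Ω),
    (∀ m ∈ T, 0 < m ∧ m < S.p ^ J ∧ x m ∈ D.E ∧ 0 ≤ S.v (x m)) → T.card = n →
    ∑ m ∈ T, D.depth (x m) = d → ∀ b ∈ comp S D.E F₁,
    0 ≤ S.v (b - ∑ m ∈ T, x m * (ρ ^ m)⁻¹) → D.Red F₁ b

theorem nearOK [IsAlgClosed Ω] : ∀ n d, D.NearOK n d := by
  classical
  intro n
  induction n using Nat.strong_induction_on with
  | _ n ihn =>
  intro d
  induction d using Nat.strong_induction_on with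
  | _ d ihd =>
  intro F₁ hfin hF J ρ hρF hρ T x hT hcard hdepth b hb happrox
  haveI := hfin
  have hρ0 : ρ ≠ 0 := ne_zero_of_eq S.v hρ
  have hE₁ : ∀ {y : Ω}, y ∈ D.E → y ∈ comp S D.E F₁ := fun h => le_comp_left S _ _ h
  rcases T.eq_empty_or_nonempty with hTe | hne
  · rw [hTe, Finset.sum_empty, sub_zero] at happrox
    exact D.red_of_nonneg hF hb happrox
  have hvb : ((-D.δ : ℚ) : WithTop ℚ) ≤ S.v b := by
    rw [show b = (b - ∑ m ∈ T, x m * (ρ ^ m)⁻¹) + ∑ m ∈ T, x m * (ρ ^ m)⁻¹ by ring]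
    refine S.v.map_le_add (le_trans ?_ happrox) (S.v.map_le_sum fun m hm =>
      D.v_term hρ (hT m hm).2.1 (hT m hm).2.2.2)
    rw [← WithTop.coe_zero, WithTop.coe_le_coe]
    linarith [D.δ_pos]
  -- coefficients with positive value disappear
  by_cases hpos : ∃ m ∈ T, 0 < S.v (x m)
  · obtain ⟨m, hm, hxm⟩ := hpos
    refine ihn (T.erase m).card (hcard ▸ Finset.card_erase_lt_of_mem hm) _ F₁ hfin hF J ρ hρF hρ
      (T.erase m) x (fun i hi => hT i (Finset.mem_of_mem_erase hi)) rfl rfl b hb ?_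
    rw [← Finset.add_sum_erase _ _ hm] at happrox
    rw [show b - ∑ i ∈ T.erase m, x i * (ρ ^ i)⁻¹ =
      (b - (x m * (ρ ^ m)⁻¹ + ∑ i ∈ T.erase m, x i * (ρ ^ i)⁻¹)) + x m * (ρ ^ m)⁻¹ by ring]
    exact S.v.map_le_add happrox (D.v_small_term hρ (hT m hm).2.1.le (hT m hm).2.2.1 hxm)
  push Not at hpos
  -- constants are removed
  by_cases hinf : ∃ m ∈ T, ∀ k : ℕ, ∃ y ∈ D.E, 0 < S.v (x m - y ^ S.p ^ k)
  · obtain ⟨m, hm, hxm⟩ := hinf
    obtain ⟨-, hmlt, hxE, hx0⟩ := hT m hm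
    obtain ⟨μ, hμ, hxμ⟩ := D.exists_const hxE hx0 hxm
    have hμ0 : 0 ≤ S.v μ := by
      rw [show μ = x m - (x m - μ) by ring]
      exact S.v.map_le_sub hx0 hxμ.le
    have hμE : μ ∈ D.E := D.hLE (S.hKL hμ)
    have hs : μ * (ρ ^ m)⁻¹ ∈ F₁ :=
      mul_mem (F₁.algebraMap_mem ⟨μ, hμ⟩) (inv_mem (pow_mem hρF m))
    obtain ⟨F₂, w, hfin₂, hF₂, hwF, hw⟩ := D.exists_root F₁ hF hs
    refine D.replace_near hF₂ hb (le_comp_right S _ _ hwF) hvb (hw ▸ D.v_term hρ hmlt hμ0)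
      fun b' hb' hb'' => ?_
    refine ihn (T.erase m).card (hcard ▸ Finset.card_erase_lt_of_mem hm) _ F₂ hfin₂ (hF.trans hF₂)
      J ρ (hF₂ hρF) hρ (T.erase m) x (fun i hi => hT i (Finset.mem_of_mem_erase hi)) rfl rfl b' hb' ?_
    rw [← Finset.add_sum_erase _ _ hm] at happrox
    rw [show b' - ∑ i ∈ T.erase m, x i * (ρ ^ i)⁻¹ = (b' - (b - D.g w)) +
      ((b - (x m * (ρ ^ m)⁻¹ + ∑ i ∈ T.erase m, x i * (ρ ^ i)⁻¹)) + (x m - μ) * (ρ ^ m)⁻¹) by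
        rw [hw]; ring]
    exact S.v.map_le_add hb'' (S.v.map_le_add happrox
      (D.v_small_term hρ hmlt.le (sub_mem hxE hμE) hxμ))
  push Not at hinf
  -- the term of smallest value
  let m := T.max' hne
  have hm : m ∈ T := T.max'_mem hne
  obtain ⟨hm0, hmlt, hxE, hx0⟩ := hT m hm
  obtain ⟨k₀, hk₀⟩ := hinf m hm
  have hfinite : ∃ n : ℕ, ¬ ∃ y ∈ D.E, 0 < S.v (x m - y ^ S.p ^ n) :=
    ⟨k₀, fun ⟨y, hy, h⟩ => absurd h (not_lt.2 (hk₀ y hy))⟩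
  have hRpos : (0 : ℚ) < (S.p ^ J : ℕ) := by exact_mod_cast pow_pos S.hp.pos J
  by_cases hpow : ∃ y ∈ D.E, 0 < S.v (x m - y ^ S.p)
  swap
  · have hsv := v_inv S.v (v_pow S.v hρ m)
    refine D.red_of_notPow hF hb (inv_mem (pow_mem hρF m)) hsv ?_ hxE ⟨hx0, hpow⟩ ?_
    · rw [neg_lt_zero]
      exact mul_pos (by exact_mod_cast hm0) (div_pos D.δ_pos hRpos)
    · rw [show b - (ρ ^ m)⁻¹ * x m = (b - ∑ i ∈ T, x i * (ρ ^ i)⁻¹) +
        ∑ i ∈ T.erase m, x i * (ρ ^ i)⁻¹ by rw [← Finset.add_sum_erase _ _ hm]; ring]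
      have hneg : ((-(m * (D.δ / (S.p ^ J : ℕ))) : ℚ) : WithTop ℚ) < (0 : WithTop ℚ) := by
        rw [← WithTop.coe_zero, WithTop.coe_lt_coe, neg_lt_zero]
        exact mul_pos (by exact_mod_cast hm0) (div_pos D.δ_pos hRpos)
      refine S.v.map_lt_add (hneg.trans_le happrox) (S.v.map_lt_sum WithTop.coe_ne_top fun i hi => ?_)
      obtain ⟨hne', hiT⟩ := Finset.mem_erase.1 hi
      rw [S.v.map_mul, v_inv S.v (v_pow S.v hρ i)]
      refine lt_of_lt_of_le ?_ (le_add_of_nonneg_left (hT i hiT).2.2.2)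
      rw [WithTop.coe_lt_coe, neg_lt_neg_iff]
      have : i < m := lt_of_le_of_ne (T.le_max' i hiT) hne'
      exact mul_lt_mul_of_pos_right (by exact_mod_cast this) (div_pos D.δ_pos hRpos)
  obtain ⟨y, hy, hxy⟩ := hpow
  have hy0 := v_nonneg_of_pow_near S.v hx0 S.hp.pos hxy
  -- refine the grid
  obtain ⟨ρ', hρ'⟩ := IsAlgClosed.exists_pow_nat_eq ρ S.hp.pos
  obtain ⟨F₂, hfin₂, hF₂, hρ'F⟩ := exists_ext S F₁ ρ' ⟨X ^ S.p - C ⟨ρ, hρF⟩,
    monic_X_pow_sub_C _ S.hp.ne_zero, by simp [hρ']⟩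
  have hρ'0 : ρ' ≠ 0 := fun h => hρ0 (by rw [← hρ', h, zero_pow S.hp.ne_zero])
  have hρ'v : S.v ρ' = ((D.δ / (S.p ^ (J + 1) : ℕ) : ℚ) : WithTop ℚ) := by
    obtain ⟨t, ht⟩ := val_exists S.v hρ'0
    have h := v_pow S.v ht S.p
    rw [hρ', hρ, WithTop.coe_eq_coe] at h
    rw [ht, WithTop.coe_eq_coe, pow_succ, Nat.cast_mul]
    have hp0 : (S.p : ℚ) ≠ 0 := by exact_mod_cast S.hp.ne_zero
    rw [← div_div, h]
    field_simp
  let w := y * (ρ' ^ m)⁻¹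
  have hwF : w ∈ comp S D.E F₂ :=
    mul_mem (le_comp_left S _ _ hy) (inv_mem (pow_mem (le_comp_right S _ _ hρ'F) m))
  have hvw : ((-D.δ / S.p : ℚ) : WithTop ℚ) ≤ S.v w := by
    rw [S.v.map_mul, v_inv S.v (v_pow S.v hρ'v m)]
    refine le_trans ?_ (le_add_of_nonneg_left hy0)
    rw [WithTop.coe_le_coe, neg_div, neg_le_neg_iff, pow_succ, Nat.cast_mul, ← div_div]
    have h1 : (m : ℚ) * (D.δ / (S.p ^ J : ℕ)) ≤ D.δ := by
      rw [mul_div, div_le_iff₀ hRpos]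
      have : (m : ℚ) ≤ (S.p ^ J : ℕ) := by exact_mod_cast hmlt.le
      nlinarith [D.δ_pos]
    rw [mul_div]
    exact div_le_div_of_nonneg_right h1 (Nat.cast_nonneg _)
  have hga := D.g_approx hvw
  have hwp : w ^ S.p = y ^ S.p * (ρ ^ m)⁻¹ := by
    rw [mul_pow, inv_pow, ← pow_mul, mul_comm m, pow_mul, hρ']
  have hvs : ((-D.δ : ℚ) : WithTop ℚ) ≤ S.v (D.g w) := by
    rw [show D.g w = (D.g w - (w ^ S.p - w)) + (w ^ S.p - w) by ring]
    refine S.v.map_le_add (le_trans ?_ hga) (S.v.map_le_sub ?_ (le_trans ?_ hvw))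
    · rw [← WithTop.coe_zero, WithTop.coe_le_coe]; linarith [D.δ_pos]
    · rw [hwp]
      exact D.v_term hρ hmlt (by rw [S.v.map_pow]; exact nsmul_nonneg hy0 _)
    · rw [WithTop.coe_le_coe, neg_div, neg_le_neg_iff]
      exact div_le_self D.δ_pos.le (by exact_mod_cast S.hp.one_lt.le)
  refine D.replace_near hF₂ hb hwF hvb hvs fun b' hb' hb'' => ?_
  let T' := insert m ((T.erase m).image (S.p * ·))
  let x' : ℕ → Ω := fun i => (if i = m then y else 0) +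
    (if i ∈ (T.erase m).image (S.p * ·) then x (i / S.p) else 0)
  have hinjmul : Set.InjOn (S.p * ·) (T.erase m : Set ℕ) := fun a _ b _ h =>
    Nat.eq_of_mul_eq_mul_left S.hp.pos h
  have hdiv : ∀ a : ℕ, S.p * a / S.p = a := fun a => Nat.mul_div_cancel_left a S.hp.pos
  have hT' : ∀ i ∈ T', 0 < i ∧ i < S.p ^ (J + 1) ∧ x' i ∈ D.E ∧ 0 ≤ S.v (x' i) := by
    intro i hi
    have hxi : (if i ∈ (T.erase m).image (S.p * ·) then x (i / S.p) else 0) ∈ D.E ∧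
        0 ≤ S.v (if i ∈ (T.erase m).image (S.p * ·) then x (i / S.p) else 0) := by
      split_ifs with h
      · obtain ⟨a, ha, rfl⟩ := Finset.mem_image.1 h
        rw [hdiv]
        exact (hT a (Finset.mem_of_mem_erase ha)).2.2
      · exact ⟨D.E.zero_mem, by rw [S.v.map_zero]; exact le_top⟩
    refine ⟨?_, ?_, D.E.add_mem ?_ hxi.1, S.v.map_le_add ?_ hxi.2⟩
    · rcases Finset.mem_insert.1 hi with rfl | hi
      · exact hm0
      · obtain ⟨a, ha, rfl⟩ := Finset.mem_image.1 hi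
        exact Nat.mul_pos S.hp.pos (hT a (Finset.mem_of_mem_erase ha)).1
    · rcases Finset.mem_insert.1 hi with rfl | hi
      · exact hmlt.trans (Nat.pow_lt_pow_right S.hp.one_lt (Nat.lt_succ_self J))
      · obtain ⟨a, ha, rfl⟩ := Finset.mem_image.1 hi
        rw [pow_succ']
        exact Nat.mul_lt_mul_of_pos_left (hT a (Finset.mem_of_mem_erase ha)).2.1 S.hp.pos
    · split_ifs <;> [exact hy; exact D.E.zero_mem]
    · split_ifs <;> [exact hy0; skip]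
      rw [S.v.map_zero]; exact le_top
  have hsum : ∑ i ∈ T', x' i * (ρ' ^ i)⁻¹ = w + ∑ a ∈ T.erase m, x a * (ρ ^ a)⁻¹ := by
    simp only [x', add_mul, Finset.sum_add_distrib]
    congr 1
    · rw [Finset.sum_eq_single_of_mem m (Finset.mem_insert_self _ _)
        fun i _ hi => by rw [if_neg hi, zero_mul], if_pos rfl]
    · have hsub : (T.erase m).image (S.p * ·) ⊆ T' := Finset.subset_insert _ _
      rw [← Finset.sum_subset hsub fun i _ hi => by rw [if_neg hi, zero_mul],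
        Finset.sum_image hinjmul]
      refine Finset.sum_congr rfl fun a ha => ?_
      rw [if_pos (Finset.mem_image_of_mem _ ha), hdiv, pow_mul, hρ']
  have happ' : 0 ≤ S.v (b' - ∑ i ∈ T', x' i * (ρ' ^ i)⁻¹) := by
    rw [hsum]
    rw [← Finset.add_sum_erase _ _ hm] at happrox
    have e : b' - (w + ∑ a ∈ T.erase m, x a * (ρ ^ a)⁻¹) = (b' - (b - D.g w)) +
        (((b - (x m * (ρ ^ m)⁻¹ + ∑ a ∈ T.erase m, x a * (ρ ^ a)⁻¹)) +
          (x m - y ^ S.p) * (ρ ^ m)⁻¹) - (D.g w - (w ^ S.p - w))) := by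
      rw [hwp]; ring
    rw [e]
    exact S.v.map_le_add hb'' (S.v.map_le_sub (S.v.map_le_add happrox
      (D.v_small_term hρ hmlt.le (sub_mem hxE (pow_mem hy _)) hxy)) hga)
  have hcardimg : ((T.erase m).image (S.p * ·)).card = n - 1 := by
    rw [Finset.card_image_of_injOn hinjmul, Finset.card_erase_of_mem hm, hcard]
  have hn : 0 < n := hcard ▸ hne.card_pos
  by_cases hcol : m ∈ (T.erase m).image (S.p * ·)
  · refine ihn T'.card ?_ _ F₂ hfin₂ (hF.trans hF₂) (J + 1) ρ' hρ'F hρ'v T' x' hT' rfl rfl b' hb'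
      happ'
    show (insert m ((T.erase m).image (S.p * ·))).card < n
    rw [Finset.insert_eq_of_mem hcol, hcardimg]
    omega
  · refine ihd _ ?_ F₂ hfin₂ (hF.trans hF₂) (J + 1) ρ' hρ'F hρ'v T' x' hT' ?_ rfl b' hb' happ'
    · rw [← hdepth, Finset.sum_insert hcol, ← Finset.add_sum_erase _ _ hm, Finset.sum_image hinjmul]
      have h1 : x' m = y := by
        show (if m = m then y else 0) + (if m ∈ (T.erase m).image (S.p * ·) then x (m / S.p) else 0) = y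
        rw [if_pos rfl, if_neg hcol, add_zero]
      have h2 : ∀ a ∈ T.erase m, x' (S.p * a) = x a := fun a ha => by
        have hne2 : S.p * a ≠ m := fun h => hcol (Finset.mem_image.2 ⟨a, ha, h⟩)
        simp only [x', if_neg hne2, if_pos (Finset.mem_image_of_mem (S.p * ·) ha), hdiv, zero_add]
      rw [h1, Finset.sum_congr rfl fun a ha => by rw [h2 a ha]]
      exact Nat.add_lt_add_right (D.depth_lt hxE hy hx0 hfinite hxy) _
    · rw [Finset.card_insert_of_notMem hcol, hcardimg]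
      omega

/-- Right hand sides supported near zero. -/
theorem red_near [IsAlgClosed Ω] {F₁ : IntermediateField S.K Ω} [FiniteDimensional S.K F₁]
    (hF : D.F ≤ F₁) {J : ℕ} {ρ : Ω} (hρF : ρ ∈ F₁)
    (hρ : S.v ρ = ((D.δ / (S.p ^ J : ℕ) : ℚ) : WithTop ℚ)) (T : Finset ℕ) (x : ℕ → Ω)
    (hT : ∀ m ∈ T, 0 < m ∧ m < S.p ^ J ∧ x m ∈ D.E ∧ 0 ≤ S.v (x m)) {b : Ω}
    (hb : b ∈ comp S D.E F₁) (happrox : 0 ≤ S.v (b - ∑ m ∈ T, x m * (ρ ^ m)⁻¹)) : D.Red F₁ b :=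
  D.nearOK _ _ F₁ inferInstance hF J ρ hρF hρ T x hT rfl rfl b hb happrox

end Eqn

end Groth.Agent.Epp23
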