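import Groth.Agent.Epp23.Solution
import Groth.Agent.S1982
import Groth.Agent.S1988
import Groth.Agent.S0549
import Groth.Agent.Cohen12.FlatLift
import Groth.Agent.Cohen12.Completion
import Groth.Agent.Cohen12.CohenRing
import Mathlib.FieldTheory.SeparableClosure
import Mathlib.RingTheory.Flat.TorsionFree
import Mathlib.RingTheory.LocalRing.ResidueField.Basic

/-!
# Epp's theorem for arbitrary discrete valuation rings
-/

set_option autoImplicit false
set_option linter.style.haveILetI false
set_option maxHeartbeats 1000000
universe u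

open IsLocalRing

namespace Groth.Agent.Epp23

theorem isSeparable_residue {B C κ' : Type u} [CommRing B] [IsLocalRing B] [CommRing C] [IsLocalRing C]
    [Field κ'] [Algebra (ResidueField B) (ResidueField C)] [Algebra (ResidueField B) κ']
    [Algebra.IsSeparable (ResidueField B) κ'] (e : κ' ≃+* ResidueField C)
    (h : ∀ b, e (algebraMap (ResidueField B) κ' b) = algebraMap (ResidueField B) (ResidueField C) b) :
    Algebra.IsSeparable (ResidueField B) (ResidueField C) :=
  Algebra.IsSeparable.of_equiv_equiv (RingEquiv.refl _) e (RingHom.ext fun b => (h b).symm)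

/-- A flat lift of the completion with separably closed residue field. -/
theorem exists_sepClosed_extension (B : Type u) [CommRing B] [IsDomain B] [IsDiscreteValuationRing B] :
    ∃ (C : Type u) (_ : CommRing C) (_ : IsDomain C) (_ : IsDiscreteValuationRing C)
      (_ : IsAdicComplete (maximalIdeal C) C) (j : B →+* C) (_ : IsLocalHom j),
      Function.Injective j ∧ IsSepClosed (ResidueField C) ∧
        ∀ y : ResidueField C, letI := (ResidueField.map j).toAlgebra; IsSeparable (ResidueField B) y := by
  let Bh := AdicCompletion (maximalIdeal B) B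
  obtain ⟨hdom, hdvr⟩ := (Groth.Agent.S0549.result B).mp ⟨inferInstance, inferInstance⟩
  haveI := hdom; haveI := hdvr
  haveI : IsAdicComplete (maximalIdeal Bh) Bh := Cohen12.isAdicComplete_completion B
  haveI : IsLocalHom (algebraMap B Bh) := ⟨fun b hb => by
    by_contra hnb
    refine (mem_maximalIdeal _).1 ?_ hb
    rw [← pow_one (maximalIdeal Bh), Cohen12.algebraMap_mem_pow_iff, pow_one]
    exact (mem_maximalIdeal b).2 hnb⟩
  let Ks := SeparableClosure (ResidueField Bh)
  haveI : IsAdicComplete (maximalIdeal Ks) Ks := by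
    rw [isField_iff_maximalIdeal_eq.1 (Field.toIsField Ks)]
    infer_instance
  obtain ⟨C, iC, lC, nC, f, π, hf, hcC, hflat, hπ, hker, hπf⟩ :=
    Cohen12.exists_flat_lift (A := Bh) Ks (algebraMap (ResidueField Bh) Ks)
  letI := iC; haveI := lC; haveI := nC; haveI := hf; haveI := hcC
  obtain ⟨w, hw⟩ := IsDiscreteValuationRing.exists_irreducible Bh
  have hmax : maximalIdeal C = (maximalIdeal Bh).map f := by
    rw [← hker]
    exact (IsLocalRing.eq_maximalIdeal (RingHom.ker_isMaximal_of_surjective π hπ)).symm
  have hnzd : f w ∈ nonZeroDivisors C := by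
    letI := f.toAlgebra
    haveI : Module.Flat Bh C := hflat
    haveI : Module.IsTorsionFree Bh C := inferInstance
    refine mem_nonZeroDivisors_iff_right.2 fun c hc => ?_
    have h1 : w • c = 0 := by rw [Algebra.smul_def, mul_comm]; exact hc
    exact (smul_eq_zero_iff_right hw.ne_zero).1 h1
  obtain ⟨hdC, hvC⟩ := Cohen12.isDVR_of_maximalIdeal_eq_span (f w) (by
    rw [hmax, (IsDiscreteValuationRing.irreducible_iff_uniformizer w).1 hw, Ideal.map_span,
      Set.image_singleton]) hnzd
  haveI := hdC; haveI := hvC
  have hfinj : Function.Injective f := by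
    rw [injective_iff_map_eq_zero]
    intro b hb
    by_contra hb0
    obtain ⟨n, v, rfl⟩ := IsDiscreteValuationRing.eq_unit_mul_pow_irreducible hb0 hw
    rw [map_mul, map_pow, mul_eq_zero] at hb
    exact hb.elim (v.isUnit.map f).ne_zero (pow_ne_zero _ (nonZeroDivisors.ne_zero hnzd))
  have hBinj : Function.Injective (algebraMap B Bh) := by
    rw [injective_iff_map_eq_zero]
    intro b hb
    have hall : ∀ n, b ∈ maximalIdeal B ^ n := fun n =>
      (Cohen12.algebraMap_mem_pow_iff B n b).1 (by rw [hb]; exact zero_mem _)
    have hK := Ideal.iInf_pow_eq_bot_of_isLocalRing (maximalIdeal B) (maximalIdeal.isMaximal B).ne_top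
    exact (Submodule.mem_bot B).1 (hK ▸ (Submodule.mem_iInf _).2 hall)
  haveI hjloc : IsLocalHom (f.comp (algebraMap B Bh)) := RingHom.isLocalHom_comp _ _
  -- residue fields
  let ρ : ResidueField C →+* Ks := Ideal.Quotient.lift (maximalIdeal C) π fun c hc => by
    rw [hmax, ← hker] at hc
    exact hc
  have hρb : Function.Bijective ρ := ⟨ρ.injective, fun x => by
    obtain ⟨c, hc⟩ := hπ x
    exact ⟨residue C c, hc⟩⟩
  let e := RingEquiv.ofBijective ρ hρb
  let r := ResidueField.map (algebraMap B Bh)
  have hr : Function.Bijective r := ⟨r.injective, fun x => by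
    obtain ⟨c, rfl⟩ := residue_surjective x
    obtain ⟨b, hb⟩ := Cohen12.exists_sub_mem_pow B 1 c
    rw [pow_one, ← residue_eq_zero_iff, map_sub, sub_eq_zero] at hb
    exact ⟨residue B b, hb.symm⟩⟩
  refine ⟨C, iC, hdC, hvC, hcC, f.comp (algebraMap B Bh), hjloc, hfinj.comp hBinj,
    isSepClosed_of_ringEquiv e.symm, fun y => ?_⟩
  letI : Algebra (ResidueField B) (ResidueField C) := (ResidueField.map (f.comp (algebraMap B Bh))).toAlgebra
  letI : Algebra (ResidueField B) Ks := ((algebraMap (ResidueField Bh) Ks).comp r).toAlgebra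
  haveI : Algebra.IsSeparable (ResidueField B) Ks :=
    Algebra.IsSeparable.of_equiv_equiv (RingEquiv.ofBijective r hr).symm (RingEquiv.refl Ks)
      (RingHom.ext fun x => by
        show algebraMap (ResidueField Bh) Ks (r ((RingEquiv.ofBijective r hr).symm x)) = _
        rw [show r ((RingEquiv.ofBijective r hr).symm x) = x from
          (RingEquiv.ofBijective r hr).apply_symm_apply x]
        rfl)
  haveI := isSeparable_residue (B := B) (C := C) e.symm fun b => by
    obtain ⟨b, rfl⟩ := residue_surjective b
    refine e.injective ?_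
    rw [RingEquiv.apply_symm_apply]
    exact (hπf _).symm
  exact Algebra.IsSeparable.isSeparable (ResidueField B) y

/-- Epp's theorem. -/
theorem epp (A B K L : Type u) [CommRing A] [IsDomain A] [IsDiscreteValuationRing A]
    [CommRing B] [IsDomain B] [IsDiscreteValuationRing B] [Algebra A B] [IsLocalHom (algebraMap A B)]
    (hinj : Function.Injective (algebraMap A B))
    [Field K] [Field L] [Algebra A K] [IsFractionRing A K] [Algebra B L] [IsFractionRing B L]
    [Algebra K L] [Algebra A L] [IsScalarTower A K L] [IsScalarTower A B L]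
    (hres : ∀ p : ℕ, p.Prime → CharP (ResidueField A) p →
      ∀ x : ResidueField B, (∀ n : ℕ, ∃ y : ResidueField B, y ^ (p ^ n) = x) →
        IsSeparable (ResidueField A) x) :
    ∃ (K₁ : Type u) (_ : Field K₁) (_ : Algebra K K₁) (_ : FiniteDimensional K K₁),
      EtRam.IsWeakSolution B K L K₁ := by
  classical
  rcases CharP.exists' (ResidueField A) with h0 | ⟨p, hp, hpA⟩
  · -- residue characteristic zero
    obtain ⟨π, hπ⟩ := IsDiscreteValuationRing.exists_irreducible A
    obtain ⟨πB, hπB⟩ := IsDiscreteValuationRing.exists_irreducible B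
    obtain ⟨e, he, -, heB⟩ := Dvr24.exists_map_maximalIdeal_eq (A := A) (B := B) hinj hπB
    obtain ⟨r, hr⟩ := IsAlgClosed.exists_pow_nat_eq (algebraMap K (AlgebraicClosure K) (algebraMap A K π)) he
    let K₁ := IntermediateField.adjoin K ({r} : Set (AlgebraicClosure K))
    haveI : FiniteDimensional K K₁ :=
      IntermediateField.adjoin.finiteDimensional (Algebra.IsIntegral.isIntegral r)
    refine ⟨K₁, inferInstance, inferInstance, inferInstance, ?_⟩
    intro M _ _ _ _ _ _ hgen W hW
    haveI := Ram24.finiteDimensional_of_adjoin_eq_top (K := K) (L := L) (K₁ := K₁) (M := M) hgen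
    haveI := Ram24.dvr_of_dominates W hW
    let V := W.comap (algebraMap K₁ M)
    have hA : ∀ a : A, algebraMap K K₁ (algebraMap A K a) ∈ V := fun a => by
      show algebraMap K₁ M (algebraMap K K₁ (algebraMap A K a)) ∈ W
      rw [← IsScalarTower.algebraMap_apply K K₁ M, IsScalarTower.algebraMap_apply K L M,
        ← IsScalarTower.algebraMap_apply A K L, IsScalarTower.algebraMap_apply A B L]
      exact hW.1 _
    have hdomV : EtRam.Dominates A ((algebraMap K K₁).comp (algebraMap A K)) V := by
      refine ⟨hA, fun a ha => (ValuationSubring.valuation_lt_one_iff V ⟨_, hA a⟩).mp ?_⟩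
      rw [mem_maximalIdeal, mem_nonunits_iff,
        ← isUnit_map_iff (EtRam.inclOfComap W (algebraMap K₁ M)), ← mem_nonunits_iff,
        ← mem_maximalIdeal, ValuationSubring.valuation_lt_one_iff W]
      simp only [EtRam.inclOfComap_apply_coe]
      rw [← IsScalarTower.algebraMap_apply K K₁ M, IsScalarTower.algebraMap_apply K L M,
        ← IsScalarTower.algebraMap_apply A K L, IsScalarTower.algebraMap_apply A B L]
      exact hW.2 _ (map_nonunit (algebraMap A B) a ha)
    haveI : IsDiscreteValuationRing V := Ram24.dvr_of_dominates (B := A) (L := K) V hdomV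
    letI algAV : Algebra A V :=
      (RingHom.codRestrict ((algebraMap K K₁).comp (algebraMap A K)) V hA).toAlgebra
    haveI : IsLocalHom (algebraMap A V) := EtAlg23.RamTower.isLocalHom_dmap hdomV
    obtain ⟨π₁, hπ₁⟩ := IsDiscreteValuationRing.exists_irreducible V
    obtain ⟨e₁, -, hmapV, heV⟩ := Dvr24.exists_map_maximalIdeal_eq (A := A) (B := V)
      (EtAlg23.RamTower.dmap_injective hdomV) hπ₁
    -- the root lies in `V`
    let z : K₁ := ⟨r, IntermediateField.mem_adjoin_simple_self K r⟩
    have hz : z ^ e = algebraMap K K₁ (algebraMap A K π) := Subtype.ext hr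
    have hzV : z ∈ V := by
      have h1 : IsIntegral V z := by
        refine IsIntegral.of_pow he ?_
        rw [hz]
        exact isIntegral_algebraMap (x := (⟨_, hA π⟩ : V))
      obtain ⟨w, hw⟩ := IsIntegrallyClosed.algebraMap_eq_of_integral h1
      exact hw ▸ w.2
    have hdvd : e ∣ e₁ := by
      have hzπ : (⟨z, hzV⟩ : V) ^ e = algebraMap A V π := Subtype.ext hz
      have hz0 : (⟨z, hzV⟩ : V) ≠ 0 := fun h => by
        rw [h, zero_pow he.ne'] at hzπ
        exact hπ.ne_zero (EtAlg23.RamTower.dmap_injective hdomV (hzπ.symm.trans (map_zero _).symm))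
      obtain ⟨k, u, hk⟩ := IsDiscreteValuationRing.eq_unit_mul_pow_irreducible hz0 hπ₁
      rw [(IsDiscreteValuationRing.irreducible_iff_uniformizer π).1 hπ, Ideal.map_span,
        Set.image_singleton, ← hzπ, hk, mul_pow, ← pow_mul,
        Ideal.span_singleton_eq_span_singleton] at hmapV
      obtain ⟨u', hu'⟩ := hmapV
      have heq : ((u ^ e * u' : Vˣ) : V) * π₁ ^ (k * e) = ((1 : Vˣ) : V) * π₁ ^ e₁ := by
        rw [Units.val_one, one_mul, ← hu', Units.val_mul, Units.val_pow_eq_pow_val]
        ring
      exact ⟨k, ((IsDiscreteValuationRing.unit_mul_pow_congr_pow hπ₁ hπ₁ _ _ _ _ heq).symm).trans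
        (mul_comm k e)⟩
    haveI := h0
    refine (Groth.Agent.S1982.result A B K L hinj (Or.inl inferInstance) K₁ M hgen W hW hA ?_).1
    show Ideal.ramificationIdx' (maximalIdeal A) (maximalIdeal B) ∣
      Ideal.ramificationIdx' (maximalIdeal A) (maximalIdeal V)
    rw [heB, heV]
    exact hdvd
  · -- residue characteristic `p`
    haveI := hp; haveI := hpA
    haveI : CharP (ResidueField B) p :=
      ((ResidueField.map (algebraMap A B)).charP_iff (RingHom.injective _) p).1 inferInstance
    obtain ⟨C, iC, dC, vC, cC, j, hjl, hjinj, hsc, hjsep⟩ := exists_sepClosed_extension B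
    letI := iC; haveI := dC; haveI := vC; haveI := cC; haveI := hjl; haveI := hsc
    haveI : CharP (ResidueField C) p :=
      ((ResidueField.map j).charP_iff (RingHom.injective _) p).1 inferInstance
    let M := FractionRing C
    letI : Algebra B C := j.toAlgebra
    letI : Algebra A C := (j.comp (algebraMap A B)).toAlgebra
    haveI : IsLocalHom (algebraMap B C) := hjl
    haveI : IsLocalHom (algebraMap A C) := RingHom.isLocalHom_comp j (algebraMap A B)
    haveI : IsScalarTower A B C := .of_algebraMap_eq fun _ => rfl
    have hBM : Function.Injective (algebraMap B M) := by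
      rw [IsScalarTower.algebraMap_eq B C M]
      exact (IsFractionRing.injective C M).comp hjinj
    letI : Algebra L M := (IsFractionRing.lift (A := B) (K := L) hBM).toAlgebra
    letI : Algebra K M := ((algebraMap L M).comp (algebraMap K L)).toAlgebra
    haveI : IsScalarTower A C M := inferInstance
    haveI : IsScalarTower B L M := .of_algebraMap_eq fun b =>
      (IsFractionRing.lift_algebraMap (A := B) (K := L) hBM b).symm
    haveI : IsScalarTower K L M := .of_algebraMap_eq fun _ => rfl
    haveI : IsScalarTower A K M := .of_algebraMap_eq fun a => by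
      rw [IsScalarTower.algebraMap_apply A C M,
        show algebraMap K M (algebraMap A K a) = algebraMap L M (algebraMap K L (algebraMap A K a)) from rfl,
        ← IsScalarTower.algebraMap_apply A K L, IsScalarTower.algebraMap_apply A B L,
        ← IsScalarTower.algebraMap_apply B L M, IsScalarTower.algebraMap_apply B C M]
      rfl
    letI : Algebra (ResidueField B) (ResidueField C) := (ResidueField.map j).toAlgebra
    have hres' : ∀ x ∈ perfCore p (ResidueField C), IsSeparable (ResidueField A) x := by
      intro x hx
      haveI : IsScalarTower (ResidueField A) (ResidueField B) (ResidueField C) :=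
        .of_algebraMap_eq fun a => by
          obtain ⟨a, rfl⟩ := residue_surjective a
          rfl
      refine isSeparable_of_roots p (ResidueField B) (k := ResidueField A)
        (fun c hc => hres p hp.out hpA c ((mem_perfCore p _).1 hc)) fun n => ?_
      obtain ⟨y, hy⟩ := (mem_perfCore p _).1 hx n
      exact ⟨y, hjsep y, hy⟩
    obtain ⟨K₁, iK, aK, hfin, hsol⟩ :=
      weakSolution_complete p A K C M (hjinj.comp hinj) hres'
    letI := iK; letI := aK; haveI := hfin
    exact ⟨K₁, iK, aK, hfin, (Groth.Agent.S1988.result A B C K L M K₁ hinj hjinj).1 hsol⟩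

end Groth.Agent.Epp23
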