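import Mathlib.RingTheory.Valuation.ValuationSubring
import Mathlib.RingTheory.Polynomial.Basic
import Mathlib.FieldTheory.IntermediateField.Adjoin.Basic
import Mathlib.FieldTheory.IntermediateField.Adjoin.Algebra
import Mathlib.FieldTheory.IsAlgClosed.AlgebraicClosure
import Mathlib.FieldTheory.PurelyInseparable.Basic
import Mathlib.FieldTheory.KummerPolynomial
import Mathlib.FieldTheory.PrimitiveElement
import Mathlib.Tactic.Linarith
import Mathlib.Tactic.FieldSimp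

/-!
# The setting for Epp's theorem

An algebraically closed field `Ω` with a valuation with rational values, a discretely valued
subfield `L` over which `Ω` is algebraic, and a subfield `K` of `L` all whose finite extensions are
totally ramified.
-/

set_option autoImplicit false
set_option linter.style.haveILetI false
universe u

open Polynomial

namespace Groth.Agent.Epp23

variable {Ω : Type u} [Field Ω]

/-- The values on `E` are integral multiples of `δ`. -/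
def Disc (v : AddValuation Ω (WithTop ℚ)) (E : Subfield Ω) (δ : ℚ) : Prop :=
  ∀ x ∈ E, x ≠ 0 → ∃ k : ℤ, v x = (((k : ℚ) * δ : ℚ) : WithTop ℚ)

variable (v : AddValuation Ω (WithTop ℚ))

theorem val_exists {x : Ω} (hx : x ≠ 0) : ∃ q : ℚ, v x = q := by
  obtain ⟨q, hq⟩ := WithTop.ne_top_iff_exists.1 (v.ne_top_iff.2 hx)
  exact ⟨q, hq.symm⟩

theorem ne_zero_of_eq {x : Ω} {q : ℚ} (h : v x = q) : x ≠ 0 := fun h0 => by
  rw [h0, v.map_zero] at h
  exact WithTop.top_ne_coe h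

theorem v_mul {x y : Ω} {a b : ℚ} (hx : v x = a) (hy : v y = b) : v (x * y) = ((a + b : ℚ) : WithTop ℚ) := by
  rw [v.map_mul, hx, hy, ← WithTop.coe_add]

theorem v_pow {x : Ω} {a : ℚ} (hx : v x = a) (n : ℕ) : v (x ^ n) = ((n * a : ℚ) : WithTop ℚ) := by
  rw [v.map_pow, hx, ← WithTop.coe_nsmul, nsmul_eq_mul]

theorem v_inv {x : Ω} {a : ℚ} (hx : v x = a) : v x⁻¹ = ((-a : ℚ) : WithTop ℚ) := by
  rw [v.map_inv, hx]; rfl

theorem v_div {x y : Ω} {a b : ℚ} (hx : v x = a) (hy : v y = b) :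
    v (x / y) = ((a - b : ℚ) : WithTop ℚ) := by
  rw [div_eq_mul_inv, v_mul v hx (v_inv v hy), sub_eq_add_neg]

theorem Disc.le_of_pos {E : Subfield Ω} {δ : ℚ} (hE : Disc v E δ) (hδ : 0 < δ) {x : Ω} (hx : x ∈ E)
    (h : 0 < v x) : ((δ : ℚ) : WithTop ℚ) ≤ v x := by
  rcases eq_or_ne x 0 with rfl | hx0
  · rw [v.map_zero]; exact le_top
  obtain ⟨k, hk⟩ := hE x hx hx0
  rw [hk, ← WithTop.coe_zero, WithTop.coe_lt_coe] at h
  rw [hk, WithTop.coe_le_coe]
  have hk0 : (0 : ℤ) < k := by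
    by_contra hcon
    have : (k : ℚ) ≤ 0 := by exact_mod_cast not_lt.1 hcon
    nlinarith
  have : (1 : ℚ) ≤ k := by exact_mod_cast hk0
  nlinarith

theorem Disc.mono {E E' : Subfield Ω} {δ : ℚ} (hE : Disc v E δ) (h : E' ≤ E) : Disc v E' δ :=
  fun x hx => hE x (h hx)

/-- The valuation ring. -/
def O : ValuationSubring Ω where
  carrier := {x | 0 ≤ v x}
  mul_mem' {a b} ha hb := by
    show 0 ≤ v (a * b)
    rw [v.map_mul]; exact add_nonneg ha hb
  one_mem' := by show 0 ≤ v 1; rw [v.map_one]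
  add_mem' {a b} ha hb := v.map_le_add ha hb
  zero_mem' := by show 0 ≤ v 0; rw [v.map_zero]; exact le_top
  neg_mem' {a} ha := by show 0 ≤ v (-a); rw [v.map_neg]; exact ha
  mem_or_inv_mem' x := by
    rcases eq_or_ne x 0 with rfl | hx
    · exact Or.inl (by show 0 ≤ v 0; rw [v.map_zero]; exact le_top)
    obtain ⟨q, hq⟩ := val_exists v hx
    rcases le_or_gt 0 q with h | h
    · refine Or.inl ?_
      show 0 ≤ v x
      rw [hq]; exact_mod_cast h
    · refine Or.inr ?_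
      show 0 ≤ v x⁻¹
      rw [v_inv v hq]; exact_mod_cast (neg_nonneg.2 h.le)

theorem mem_O {x : Ω} : x ∈ O v ↔ 0 ≤ v x := Iff.rfl

theorem residue_eq_zero {x : Ω} (hx : x ∈ O v) :
    IsLocalRing.residue (O v) ⟨x, hx⟩ = 0 ↔ 0 < v x := by
  rw [IsLocalRing.residue_eq_zero_iff, IsLocalRing.mem_maximalIdeal, mem_nonunits_iff]
  refine ⟨fun h => lt_of_le_of_ne hx fun h0 => h ?_, fun h hu => ?_⟩
  · have hx0 : x ≠ 0 := ne_zero_of_eq v (q := 0) (by rw [← h0]; rfl)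
    have hinv : x⁻¹ ∈ O v := by
      rw [mem_O, v.map_inv, ← h0]; exact le_of_eq rfl
    exact ⟨⟨⟨x, hx⟩, ⟨x⁻¹, hinv⟩, Subtype.ext (mul_inv_cancel₀ hx0),
      Subtype.ext (inv_mul_cancel₀ hx0)⟩, rfl⟩
  · obtain ⟨y, hy⟩ := hu.exists_right_inv
    have h1 : v (x * (y : Ω)) = 0 := by
      rw [show x * (y : Ω) = 1 from congrArg Subtype.val hy, v.map_one]
    rw [v.map_mul] at h1
    exact (add_pos_of_pos_of_nonneg h y.2).ne' h1

theorem residue_eq_residue {x y : Ω} (hx : x ∈ O v) (hy : y ∈ O v) :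
    IsLocalRing.residue (O v) ⟨x, hx⟩ = IsLocalRing.residue (O v) ⟨y, hy⟩ ↔ 0 < v (x - y) := by
  rw [← sub_eq_zero, ← map_sub]
  exact residue_eq_zero v _

theorem v_pow_sub_pos {a b : Ω} (ha : 0 ≤ v a) (hb : 0 ≤ v b) (h : 0 < v (a - b)) (n : ℕ) :
    0 < v (a ^ n - b ^ n) := by
  rw [← residue_eq_residue v (pow_mem (show a ∈ O v from ha) n) (pow_mem (show b ∈ O v from hb) n)]
  show IsLocalRing.residue (O v) (⟨a, ha⟩ ^ n) = IsLocalRing.residue (O v) (⟨b, hb⟩ ^ n)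
  rw [map_pow, map_pow, (residue_eq_residue v ha hb).2 h]

theorem v_sub_pos_of_pow {p : ℕ} (hp : p.Prime) (hvp : 0 < v (p : Ω)) {a b : Ω} (ha : 0 ≤ v a)
    (hb : 0 ≤ v b) (n : ℕ) (h : 0 < v (a ^ p ^ n - b ^ p ^ n)) : 0 < v (a - b) := by
  haveI : Fact p.Prime := ⟨hp⟩
  haveI : CharP (IsLocalRing.ResidueField (O v)) p := (CharP.charP_iff_prime_eq_zero hp).2 (by
    rw [← map_natCast (IsLocalRing.residue (O v))]
    exact (residue_eq_zero v (x := ((p : O v) : Ω)) _).2 (by simpa using hvp))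
  rw [← residue_eq_residue v ha hb]
  rw [← residue_eq_residue v (pow_mem (show a ∈ O v from ha) _) (pow_mem (show b ∈ O v from hb) _)] at h
  refine iterateFrobenius_inj (IsLocalRing.ResidueField (O v)) p n ?_
  rw [iterateFrobenius_def, iterateFrobenius_def, ← map_pow, ← map_pow]
  exact h

/-- `x` is not a `p`-th power modulo positive values in `E`. -/
def NotPow (p : ℕ) (E : Subfield Ω) (x : Ω) : Prop :=
  0 ≤ v x ∧ ¬ ∃ y ∈ E, 0 < v (x - y ^ p)

/-! ### Simple extensions by an element of fractional value -/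

theorem mem_sup_closure {E : Subfield Ω} {ρ : Ω} {f : E[X]} (hf : f.Monic) (h0 : aeval ρ f = 0)
    {y : Ω} (hy : y ∈ E ⊔ Subfield.closure {ρ}) :
    ∃ c : ℕ → Ω, (∀ i, c i ∈ E) ∧ y = ∑ i ∈ Finset.range f.natDegree, c i * ρ ^ i := by
  have hint : IsIntegral E ρ := ⟨f, hf, h0⟩
  have hle : E ⊔ Subfield.closure {ρ} ≤ (IntermediateField.adjoin E ({ρ} : Set Ω)).toSubfield := by
    refine sup_le (fun x hx => (IntermediateField.adjoin E ({ρ} : Set Ω)).algebraMap_mem ⟨x, hx⟩) ?_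
    rw [Subfield.closure_le]
    rintro x rfl
    exact IntermediateField.subset_adjoin E _ rfl
  have hy' : y ∈ (IntermediateField.adjoin E ({ρ} : Set Ω)).toSubalgebra := hle hy
  rw [IntermediateField.adjoin_simple_toSubalgebra_of_isAlgebraic hint.isAlgebraic,
    Algebra.adjoin_singleton_eq_range_aeval, AlgHom.mem_range] at hy'
  obtain ⟨P, rfl⟩ := hy'
  refine ⟨fun i => ((P %ₘ f).coeff i : Ω), fun i => ((P %ₘ f).coeff i).2, ?_⟩
  rw [← aeval_modByMonic_eq_self_of_root h0]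
  rcases eq_or_ne f 1 with rfl | h1
  · simp
  rw [aeval_eq_sum_range' (natDegree_modByMonic_lt P hf h1)]
  rfl

theorem sum_val {δ : ℚ} (hδ : 0 < δ) {r : ℕ} {E : Subfield Ω} (hE : Disc v E δ) {ρ : Ω}
    (hρ : v ρ = ((δ / r : ℚ) : WithTop ℚ)) (c : ℕ → Ω) (hc : ∀ i, c i ∈ E)
    (hy : ∑ i ∈ Finset.range r, c i * ρ ^ i ≠ 0) :
    ∃ i < r, c i ≠ 0 ∧ v (∑ i ∈ Finset.range r, c i * ρ ^ i) = v (c i * ρ ^ i) ∧
      ∀ j < r, j ≠ i → v (c i * ρ ^ i) < v (c j * ρ ^ j) := by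
  classical
  have hρ0 : ρ ≠ 0 := ne_zero_of_eq v hρ
  let s := (Finset.range r).filter fun i => c i ≠ 0
  have hs : s.Nonempty := by
    by_contra h
    refine hy (Finset.sum_eq_zero fun i hi => ?_)
    rw [Finset.not_nonempty_iff_eq_empty] at h
    by_contra hne
    have : i ∈ s := Finset.mem_filter.2 ⟨hi, fun h0 => hne (by rw [h0, zero_mul])⟩
    rw [h] at this
    exact Finset.notMem_empty i this
  obtain ⟨i, hi, hmin⟩ := s.exists_min_image (fun i => v (c i * ρ ^ i)) hs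
  obtain ⟨hir, hci⟩ := Finset.mem_filter.1 hi
  have hir' : i < r := Finset.mem_range.1 hir
  have hval : ∀ j, c j ≠ 0 → ∃ k : ℤ, v (c j * ρ ^ j) = ((k * δ + j * (δ / r) : ℚ) : WithTop ℚ) := by
    intro j hj
    obtain ⟨k, hk⟩ := hE _ (hc j) hj
    exact ⟨k, v_mul v hk (v_pow v hρ j)⟩
  have hlt : ∀ j < r, j ≠ i → v (c i * ρ ^ i) < v (c j * ρ ^ j) := by
    intro j hjr hji
    rcases eq_or_ne (c j) 0 with h0 | h0
    · rw [h0, zero_mul, v.map_zero, lt_top_iff_ne_top, v.ne_top_iff]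
      exact mul_ne_zero hci (pow_ne_zero _ hρ0)
    refine lt_of_le_of_ne (hmin j (Finset.mem_filter.2 ⟨Finset.mem_range.2 hjr, h0⟩)) fun heq => ?_
    obtain ⟨k, hk⟩ := hval i hci
    obtain ⟨l, hl⟩ := hval j h0
    rw [hk, hl, WithTop.coe_eq_coe] at heq
    have hr0 : (r : ℚ) ≠ 0 := by exact_mod_cast (by omega : r ≠ 0)
    field_simp at heq
    have h1 : ((k * r + i : ℤ) : ℚ) = ((l * r + j : ℤ) : ℚ) := by push_cast; linarith
    have h2 : k * r + i = l * r + j := by exact_mod_cast h1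
    refine hji ?_
    have h3 : ((k - l) * r : ℤ) = (j : ℤ) - i := by linarith
    have h4 : |(k - l) * (r : ℤ)| < r := by
      rw [h3, abs_lt]; omega
    rw [abs_mul, Nat.abs_cast] at h4
    have h5 : k - l = 0 := by
      rw [← abs_eq_zero]
      nlinarith [abs_nonneg (k - l)]
    rw [h5, zero_mul] at h3
    omega
  refine ⟨i, hir', hci, ?_, hlt⟩
  rw [← Finset.add_sum_erase _ _ hir]
  refine v.map_add_eq_of_lt_left (v.map_lt_sum (v.ne_top_iff.2 (mul_ne_zero hci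
    (pow_ne_zero _ hρ0))) fun j hj => ?_)
  exact hlt j (Finset.mem_range.1 (Finset.mem_of_mem_erase hj)) (Finset.ne_of_mem_erase hj)

/-- Adjoining a root `ρ` of value `δ / r` of a monic polynomial of degree at most `r` refines the
values and keeps the residue field. -/
theorem span_disc {δ : ℚ} (hδ : 0 < δ) {r : ℕ} (hr : 0 < r) {E : Subfield Ω} (hE : Disc v E δ)
    {ρ : Ω} (hρ : v ρ = ((δ / r : ℚ) : WithTop ℚ)) {f : E[X]} (hf : f.Monic) (hd : f.natDegree = r)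
    (h0 : aeval ρ f = 0) :
    Disc v (E ⊔ Subfield.closure {ρ}) (δ / r) ∧
      ∀ y ∈ E ⊔ Subfield.closure {ρ}, 0 ≤ v y → ∃ x ∈ E, 0 < v (y - x) := by
  have hr' : (0 : ℚ) < r := by exact_mod_cast hr
  refine ⟨fun y hy hy0 => ?_, fun y hy hy0 => ?_⟩
  · obtain ⟨c, hc, rfl⟩ := mem_sup_closure hf h0 hy
    rw [hd] at hy0 ⊢
    obtain ⟨i, -, hci, hv, -⟩ := sum_val v hδ hE hρ c hc hy0
    obtain ⟨k, hk⟩ := hE _ (hc i) hci
    refine ⟨k * r + i, ?_⟩
    rw [hv, v_mul v hk (v_pow v hρ i), WithTop.coe_eq_coe]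
    push_cast
    field_simp
  · obtain ⟨c, hc, rfl⟩ := mem_sup_closure hf h0 hy
    rw [hd] at hy0 ⊢
    refine ⟨c 0, hc 0, ?_⟩
    have hρ0 : ρ ≠ 0 := ne_zero_of_eq v hρ
    let c' : ℕ → Ω := fun i => if i = 0 then 0 else c i
    have hc' : ∀ i, c' i ∈ E := fun i => by
      show (if i = 0 then 0 else c i) ∈ E
      split_ifs <;> [exact E.zero_mem; exact hc i]
    have hsplit : ∑ i ∈ Finset.range r, c i * ρ ^ i =
        c 0 + ∑ i ∈ Finset.range r, c' i * ρ ^ i := by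
      rw [← Finset.add_sum_erase _ _ (Finset.mem_range.2 hr),
        ← Finset.add_sum_erase (Finset.range r) (fun i => c' i * ρ ^ i) (Finset.mem_range.2 hr)]
      have h1 : c' 0 = 0 := if_pos rfl
      rw [h1, zero_mul, zero_add, pow_zero, mul_one]
      refine congrArg _ (Finset.sum_congr rfl fun i hi => ?_)
      show _ = (if i = 0 then 0 else c i) * _
      rw [if_neg (Finset.ne_of_mem_erase hi)]
    rw [hsplit] at hy0 ⊢
    rw [add_sub_cancel_left]
    by_contra hpos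
    rw [not_lt] at hpos
    have hne : ∑ i ∈ Finset.range r, c' i * ρ ^ i ≠ 0 := fun h => by
      rw [h, v.map_zero, top_le_iff] at hpos
      exact WithTop.zero_ne_top hpos
    obtain ⟨i, hir, hci, hv, -⟩ := sum_val v hδ hE hρ c' hc' hne
    have hi0 : i ≠ 0 := fun h => hci (by rw [h]; exact if_pos rfl)
    obtain ⟨k, hk⟩ := hE _ (hc' i) hci
    have hval := v_mul v hk (v_pow v hρ i)
    have hnot : ∀ l : ℤ, (l : ℚ) * δ ≠ k * δ + i * (δ / r) := by
      intro l heq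
      field_simp at heq
      have h1 : (((l - k) * r : ℤ) : ℚ) = ((i : ℤ) : ℚ) := by push_cast; linarith
      have h2 : (l - k) * (r : ℤ) = i := by exact_mod_cast h1
      have h3 : (0 : ℤ) < i := by omega
      have h4 : (i : ℤ) < r := by omega
      rcases le_or_gt (l - k) 0 with h | h
      · nlinarith
      · nlinarith
    rw [hv, hval] at hpos
    have hlt : (k : ℚ) * δ + i * (δ / r) < 0 := by
      refine lt_of_le_of_ne (by exact_mod_cast hpos) fun h => hnot 0 ?_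
      rw [h, Int.cast_zero, zero_mul]
    have hy : v (c 0 + ∑ i ∈ Finset.range r, c' i * ρ ^ i) < 0 := by
      rcases eq_or_ne (c 0) 0 with h | h
      · rw [h, zero_add, hv, hval, ← WithTop.coe_zero, WithTop.coe_lt_coe]; exact hlt
      obtain ⟨l, hl⟩ := hE _ (hc 0) h
      rw [v.map_add_of_distinct_val (by rw [hl, hv, hval, Ne, WithTop.coe_eq_coe]; exact hnot l)]
      refine min_lt_of_right_lt ?_
      rw [hv, hval, ← WithTop.coe_zero, WithTop.coe_lt_coe]; exact hlt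
    exact absurd hy0 (not_le.2 hy)

/-- Adjoining a root `ρ` with `ρ ^ p ≡ x` where `x` is not a `p`-th power keeps the values. -/
theorem span_disc_of_notPow {p : ℕ} (hp : p.Prime) (hvp : 0 < v (p : Ω)) {δ : ℚ} {E : Subfield Ω}
    (hE : Disc v E δ) {x ρ : Ω} (hx : x ∈ E) (hxn : NotPow v p E x) (hρ : 0 ≤ v ρ)
    (hρx : 0 < v (ρ ^ p - x)) {f : E[X]} (hf : f.Monic) (hd : f.natDegree = p)
    (h0 : aeval ρ f = 0) : Disc v (E ⊔ Subfield.closure {ρ}) δ := by
  classical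
  intro y hy hy0
  obtain ⟨c, hc, rfl⟩ := mem_sup_closure hf h0 hy
  rw [hd] at hy0 ⊢
  obtain ⟨i₀, hi₀, hmin⟩ := (Finset.range p).exists_min_image (fun i => v (c i))
    ⟨0, Finset.mem_range.2 hp.pos⟩
  have hc0 : c i₀ ≠ 0 := fun h => hy0 (Finset.sum_eq_zero fun i hi => by
    have := hmin i hi
    rw [h, v.map_zero, top_le_iff, v.top_iff] at this
    rw [this, zero_mul])
  obtain ⟨k, hk⟩ := hE _ (hc i₀) hc0
  refine ⟨k, ?_⟩
  -- normalise
  let d : ℕ → Ω := fun i => c i / c i₀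
  have hdE : ∀ i, d i ∈ E := fun i => E.div_mem (hc i) (hc i₀)
  have hd0 : ∀ i ∈ Finset.range p, 0 ≤ v (d i) := fun i hi => by
    rcases eq_or_ne (c i) 0 with h | h
    · simp [d, h]
    obtain ⟨q, hq⟩ := val_exists v h
    have := hmin i hi
    rw [hk, hq, WithTop.coe_le_coe] at this
    rw [v_div v hq hk, ← WithTop.coe_zero, WithTop.coe_le_coe]
    linarith
  have hsplit : ∑ i ∈ Finset.range p, c i * ρ ^ i = c i₀ * ∑ i ∈ Finset.range p, d i * ρ ^ i := by
    rw [Finset.mul_sum]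
    exact Finset.sum_congr rfl fun i _ => by rw [← mul_assoc, mul_div_cancel₀ _ hc0]
  have hS0 : 0 ≤ v (∑ i ∈ Finset.range p, d i * ρ ^ i) :=
    v.map_le_sum fun i hi => by
      rw [v.map_mul, v.map_pow]
      exact add_nonneg (hd0 i hi) (nsmul_nonneg hρ i)
  suffices hS : v (∑ i ∈ Finset.range p, d i * ρ ^ i) = 0 by
    rw [hsplit, v.map_mul, hS, add_zero, hk]
  refine le_antisymm (not_lt.1 fun hpos => ?_) hS0
  -- pass to residue fields
  let O' : Subring (O v) := Subring.comap (O v).subtype E.toSubring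
  let res := IsLocalRing.residue (O v)
  let κ : Subfield (IsLocalRing.ResidueField (O v)) :=
    { O'.map res with
      inv_mem' := by
        rintro _ ⟨⟨a, ha⟩, haE, rfl⟩
        rcases eq_or_ne (res ⟨a, ha⟩) 0 with h | h
        · rw [h, inv_zero]; exact (O'.map res).zero_mem
        have hva : v a = 0 := le_antisymm (not_lt.1 fun h1 => h ((residue_eq_zero v ha).2 h1)) ha
        have ha' : a⁻¹ ∈ O v := by rw [mem_O, v.map_inv, hva]; exact le_of_eq rfl
        refine ⟨⟨a⁻¹, ha'⟩, E.inv_mem haE, (eq_inv_of_mul_eq_one_right ?_)⟩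
        rw [← map_mul, ← map_one res]
        exact congrArg res (Subtype.ext (mul_inv_cancel₀ (ne_zero_of_eq v (q := 0) hva))) }
  let x' : κ := ⟨res ⟨x, hxn.1⟩, ⟨x, hxn.1⟩, hx, rfl⟩
  have hirr : Irreducible (X ^ p - C x' : κ[X]) := X_pow_sub_C_irreducible_of_prime hp fun b hb => by
    obtain ⟨⟨a, ha⟩, haE, hab⟩ := b.2
    refine hxn.2 ⟨a, haE, ?_⟩
    rw [← residue_eq_residue v hxn.1 (pow_mem (show a ∈ O v from ha) p)]
    show res ⟨x, hxn.1⟩ = res (⟨a, ha⟩ ^ p)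
    rw [map_pow, hab]
    exact (congrArg Subtype.val hb).symm
  let ρ' : IsLocalRing.ResidueField (O v) := res ⟨ρ, hρ⟩
  have hρ' : aeval ρ' (X ^ p - C x' : κ[X]) = 0 := by
    rw [map_sub, map_pow, aeval_X, aeval_C, sub_eq_zero, ← map_pow]
    exact (residue_eq_residue v (pow_mem (show ρ ∈ O v from hρ) p) hxn.1).2 hρx
  have hminp : X ^ p - C x' = minpoly κ ρ' :=
    minpoly.eq_of_irreducible_of_monic hirr hρ' (monic_X_pow_sub_C _ hp.ne_zero)
  let P : κ[X] := ∑ i : Fin p, C ⟨res ⟨d i, hd0 i (Finset.mem_range.2 i.2)⟩,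
    ⟨⟨d i, hd0 i (Finset.mem_range.2 i.2)⟩, hdE i, rfl⟩⟩ * X ^ (i : ℕ)
  have hP : aeval ρ' P = 0 := by
    have h1 : aeval ρ' P = res ⟨_, hS0⟩ := by
      simp only [P, map_sum, map_mul, map_pow, aeval_C, aeval_X]
      show ∑ i : Fin p, res ⟨d i, _⟩ * res ⟨ρ, hρ⟩ ^ (i : ℕ) = _
      simp only [← map_pow, ← map_mul, ← map_sum]
      refine congrArg res (Subtype.ext ?_)
      simp only [AddSubmonoidClass.coe_finsetSum, MulMemClass.coe_mul, SubmonoidClass.coe_pow]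
      exact Fin.sum_univ_eq_sum_range (fun i => d i * ρ ^ i) p
    rw [h1]
    exact (residue_eq_zero v hS0).2 hpos
  have hdvd : X ^ p - C x' ∣ P := hminp ▸ minpoly.dvd κ ρ' hP
  have hdeg : P.natDegree < (X ^ p - C x' : κ[X]).natDegree := by
    rw [natDegree_X_pow_sub_C]
    refine lt_of_le_of_lt (natDegree_sum_le_of_forall_le _ _ fun i _ =>
      (natDegree_C_mul_X_pow_le _ _).trans (Nat.le_sub_one_of_lt i.2)) ?_
    exact Nat.sub_lt hp.pos one_pos
  have hP0 : P = 0 := eq_zero_of_dvd_of_natDegree_lt hdvd hdeg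
  have hcoef := congrArg (fun Q : κ[X] => Q.coeff i₀) hP0
  simp only [P, finsetSum_coeff, coeff_C_mul_X_pow, coeff_zero] at hcoef
  rw [Finset.sum_eq_single (⟨i₀, Finset.mem_range.1 hi₀⟩ : Fin p)
    (fun j _ hj => if_neg fun h => hj (Fin.ext h.symm)) (fun h => absurd (Finset.mem_univ _) h),
    if_pos rfl] at hcoef
  have h1 : res ⟨d i₀, hd0 i₀ hi₀⟩ = 0 := congrArg Subtype.val hcoef
  have h2 := (residue_eq_zero v (hd0 i₀ hi₀)).1 h1
  simp only [d, div_self hc0, v.map_one, lt_self_iff_false] at h2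

/-- The data for Epp's theorem. -/
structure Setup (Ω : Type u) [Field Ω] where
  /-- the residue characteristic -/
  p : ℕ
  hp : p.Prime
  /-- the valuation -/
  v : AddValuation Ω (WithTop ℚ)
  v_p : 0 < v (p : Ω)
  /-- the upper field -/
  L : Subfield Ω
  /-- the lower field -/
  K : Subfield Ω
  hKL : K ≤ L
  algebraic : Algebra.IsAlgebraic L Ω
  inv : ∀ (σ : Ω ≃ₐ[L] Ω) (x : Ω), v (σ x) = v x
  discL : Disc v L 1
  /-- the uniformizer -/
  π : Ω
  π_mem : π ∈ K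
  v_π : v π = ((1 : ℚ) : WithTop ℚ)
  kfin : ∀ F : IntermediateField K Ω, FiniteDimensional K F →
    Disc v F.toSubfield ((1 : ℚ) / Module.finrank K F) ∧
      ∃ ϖ ∈ F, v ϖ = (((1 : ℚ) / Module.finrank K F : ℚ) : WithTop ℚ)
  pins : ∀ x, 0 ≤ v x → ∃ N : ℕ, ∃ l ∈ L, 0 < v (x ^ p ^ N - l)
  roots : ∀ l ∈ L, v l = 0 → ∀ e : ℕ, ¬ p ∣ e → ∃ y ∈ L, 0 < v (y ^ e - l)
  resK : ∀ x ∈ L, 0 ≤ v x → (∀ n : ℕ, ∃ y ∈ L, 0 < v (x - y ^ p ^ n)) → ∃ l ∈ K, 0 < v (x - l)

end Groth.Agent.Epp23
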