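import Groth.Agent.Epp23.Build
import Groth.Agent.Epp23.Base
import Groth.Agent.Epp23.Dense
import Groth.Agent.Epp23.Descent
import Groth.Agent.Ram24.Overring
import Groth.Agent.Ram24.SmoothBase
import Groth.Prelude.Def_EtRam

/-!
# Weak solutions over a complete ring with separably closed residue field
-/

set_option autoImplicit false
set_option linter.style.haveILetI false
set_option maxHeartbeats 1000000
universe u

open IsLocalRing Polynomial

namespace Groth.Agent.Epp23

variable {Ω : Type u} [Field Ω]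

/-- The valuation subring dominating a complete DVR in a finite extension is the integral closure. -/
theorem mem_iff_isIntegral {C M M' : Type u} [CommRing C] [IsDomain C] [IsDiscreteValuationRing C]
    [IsAdicComplete (maximalIdeal C) C] [Field M] [Algebra C M] [IsFractionRing C M]
    [Field M'] [Algebra M M'] [FiniteDimensional M M'] [Algebra C M'] [IsScalarTower C M M']
    (W : ValuationSubring M') (hW : EtRam.Dominates C ((algebraMap M M').comp (algebraMap C M)) W)
    (y : M') : y ∈ W ↔ IsIntegral C y := by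
  haveI := dvr_integralClosure C M M'
  haveI : IsFractionRing (integralClosure C M') M' :=
    integralClosure.isFractionRing_of_finite_extension M M'
  set ψ := algebraMap (integralClosure C M') M'
  have hfrac : ∀ z : M', ∃ a b, ψ b ≠ 0 ∧ z * ψ b = ψ a := fun z => by
    obtain ⟨a, b, hb, rfl⟩ := IsFractionRing.div_surjective (A := integralClosure C M') z
    have hb0 : ψ b ≠ 0 := (map_ne_zero_iff _ (IsFractionRing.injective _ M')).2
      (nonZeroDivisors.ne_zero hb)
    exact ⟨a, b, hb0, div_mul_cancel₀ _ hb0⟩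
  have hle : ∀ d, ψ d ∈ W := Ram24.mem_of_isIntegral ψ W (B := C) fun c => by
    rw [← IsScalarTower.algebraMap_apply C (integralClosure C M') M',
      IsScalarTower.algebraMap_apply C M M']
    exact hW.1 c
  obtain ⟨w, hw⟩ := IsDiscreteValuationRing.exists_irreducible C
  have hne : ∃ d, d ≠ 0 ∧ W.valuation (ψ d) < 1 := by
    refine ⟨algebraMap C _ w, fun h => hw.ne_zero ?_, ?_⟩
    · have h1 : algebraMap C M' w = 0 := by
        rw [IsScalarTower.algebraMap_apply C (integralClosure C M') M', h, map_zero]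
      rw [IsScalarTower.algebraMap_apply C M M', map_eq_zero,
        map_eq_zero_iff _ (IsFractionRing.injective C M)] at h1
      exact h1
    · rw [← IsScalarTower.algebraMap_apply C (integralClosure C M') M',
        IsScalarTower.algebraMap_apply C M M']
      exact hW.2 w ((mem_maximalIdeal w).2 hw.not_isUnit)
  rw [Ram24.mem_iff_mem_range ψ hfrac W hle
    (Ram24.valuation_lt_one_of_mem_maximalIdeal ψ W hle hne) y]
  exact ⟨fun ⟨d, hd⟩ => hd ▸ d.2, fun h => ⟨⟨y, h⟩, rfl⟩⟩

/-- Epp's theorem for a complete ring with separably closed residue field. -/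
theorem weakSolution_complete (p : ℕ) [Fact p.Prime] (A K C M : Type u) [CommRing A] [IsDomain A]
    [IsDiscreteValuationRing A] [Field K] [Algebra A K] [IsFractionRing A K]
    [CommRing C] [IsDomain C] [IsDiscreteValuationRing C] [IsAdicComplete (maximalIdeal C) C]
    [Field M] [Algebra C M] [IsFractionRing C M] [Algebra A C] [IsLocalHom (algebraMap A C)]
    [Algebra K M] [Algebra A M] [IsScalarTower A K M] [IsScalarTower A C M]
    [CharP (ResidueField C) p] [IsSepClosed (ResidueField C)]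
    (hinj : Function.Injective (algebraMap A C))
    (hres : ∀ x ∈ perfCore p (ResidueField C), IsSeparable (ResidueField A) x) :
    ∃ (K₁ : Type u) (_ : Field K₁) (_ : Algebra K K₁), FiniteDimensional K K₁ ∧
      EtRam.IsWeakSolution C K M K₁ := by
  classical
  obtain ⟨π, hπ⟩ := IsDiscreteValuationRing.exists_irreducible A
  haveI : CharP (ResidueField A) p :=
    ((ResidueField.map (algebraMap A C)).charP_iff (RingHom.injective _) p).2 inferInstance
  obtain ⟨D⟩ := exists_baseData p C (algebraMap A C π)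
    (map_nonunit _ π ((mem_maximalIdeal π).2 hπ.not_isUnit)) ((map_ne_zero_iff _ hinj).2 hπ.ne_zero)
  haveI := D.φloc
  haveI := D.ψloc
  obtain ⟨hAc, hBc, hBp, hrng⟩ := D.residue_props
  haveI := hAc; haveI := hBc; haveI := hBp
  let Ω := AlgebraicClosure M
  let ι : C →+* Ω := (algebraMap M Ω).comp (algebraMap C M)
  have hιinj : Function.Injective ι :=
    (algebraMap M Ω).injective.comp (IsFractionRing.injective C M)
  letI algAB : Algebra D.A₀ D.B₀ := D.φ.toAlgebra
  letI algBC : Algebra D.B₀ C := D.ψ.toAlgebra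
  letI algBM : Algebra D.B₀ M := ((algebraMap C M).comp D.ψ).toAlgebra
  letI algAM : Algebra D.A₀ M := ((algebraMap C M).comp (D.ψ.comp D.φ)).toAlgebra
  haveI : IsScalarTower D.B₀ C M := .of_algebraMap_eq fun _ => rfl
  haveI : IsScalarTower D.A₀ D.B₀ M := .of_algebraMap_eq fun _ => rfl
  haveI : IsScalarTower D.B₀ M Ω := .of_algebraMap_eq fun _ => rfl
  haveI : IsScalarTower D.A₀ D.B₀ Ω := .of_algebraMap_eq fun _ => rfl
  haveI : IsScalarTower D.B₀ C Ω := .of_algebraMap_eq fun b => by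
    rw [IsScalarTower.algebraMap_apply C M Ω]; rfl
  haveI : IsLocalHom (algebraMap D.A₀ D.B₀) := D.φloc
  haveI : Module.Finite D.B₀ C := D.finite
  haveI : Algebra.IsIntegral D.B₀ C := inferInstance
  have hBΩ : Function.Injective (algebraMap D.B₀ Ω) := hιinj.comp D.ψ_injective
  have hAΩ : Function.Injective (algebraMap D.A₀ Ω) := hBΩ.comp D.φ_injective
  haveI : Algebra.IsAlgebraic D.B₀ Ω := by
    haveI : Algebra.IsAlgebraic D.B₀ M := by
      haveI : Algebra.IsAlgebraic C M := (IsFractionRing.comap_isAlgebraic_iff (A := C) (K := M)).2 inferInstance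
      exact Algebra.IsAlgebraic.trans D.B₀ C M
    exact Algebra.IsAlgebraic.trans D.B₀ M Ω
  obtain ⟨S, hSp, hSπ, hSK, hSL, hSv, hSK'⟩ := exists_setup (Ω := Ω) D.A₀ D.B₀ hAΩ hBΩ
    (Fact.out : p.Prime) D.ϖirr D.map_maximalIdeal hrng
  have hint : ∀ c : C, IsIntegral D.B₀ (ι c) := fun c =>
    (Algebra.IsIntegral.isIntegral c).map (IsScalarTower.toAlgHom D.B₀ C Ω)
  have hC0 : ∀ c : C, 0 ≤ S.v (ι c) := fun c => (hSv _).2 (hint c)
  have hCpos : ∀ c ∈ maximalIdeal C, 0 < S.v (ι c) := by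
    intro c hc
    refine lt_of_le_of_ne (hC0 c) fun h0 => ?_
    have h1 : 0 ≤ S.v (ι c)⁻¹ := by rw [S.v.map_inv, ← h0]; exact le_of_eq rfl
    have h2 : IsIntegral C (algebraMap M Ω (algebraMap C M c)⁻¹) := by
      rw [map_inv₀]
      exact ((hSv _).1 h1).tower_top
    rw [isIntegral_algebraMap_iff (algebraMap M Ω).injective] at h2
    obtain ⟨d, hd⟩ := IsIntegrallyClosed.algebraMap_eq_of_integral h2
    have hc0 : algebraMap C M c ≠ 0 := fun h => by
      rw [show ι c = algebraMap M Ω (algebraMap C M c) from rfl, h, map_zero, S.v.map_zero] at h0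
      exact WithTop.top_ne_zero h0.symm
    refine (mem_maximalIdeal c).1 hc (IsUnit.of_mul_eq_one d (IsFractionRing.injective C M ?_))
    rw [map_mul, hd, map_one, mul_inv_cancel₀ hc0]
  obtain ⟨w, hw⟩ := IsDiscreteValuationRing.exists_irreducible C
  obtain ⟨δ, hδ⟩ := val_exists S.v (x := ι w) ((map_ne_zero_iff _ hιinj).2 hw.ne_zero)
  have hδ0 : 0 < δ := by
    have h := hCpos w ((mem_maximalIdeal w).2 hw.not_isUnit)
    rw [hδ, ← WithTop.coe_zero, WithTop.coe_lt_coe] at h
    exact h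
  have hdeep : ∀ n : ℕ, ∀ c ∈ maximalIdeal C ^ n,
      (((n : ℚ) * δ : ℚ) : WithTop ℚ) ≤ S.v (ι c) := by
    intro n c hc
    rw [(IsDiscreteValuationRing.irreducible_iff_uniformizer w).1 hw, Ideal.span_singleton_pow,
      Ideal.mem_span_singleton] at hc
    obtain ⟨e, rfl⟩ := hc
    rw [map_mul, map_pow, S.v.map_mul, v_pow S.v hδ]
    exact le_add_of_nonneg_right (hC0 e)
  -- the fields
  let E : Subfield Ω := (algebraMap M Ω).fieldRange
  let g : K →+* Ω := (algebraMap M Ω).comp (algebraMap K M)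
  let Ks : Subfield Ω := g.fieldRange
  have hKsE : Ks ≤ E := by rintro _ ⟨k, rfl⟩; exact ⟨_, rfl⟩
  have hAKs : ∀ a : A, ι (algebraMap A C a) ∈ Ks := fun a =>
    ⟨algebraMap A K a, congrArg (algebraMap M Ω)
      ((IsScalarTower.algebraMap_apply A K M a).symm.trans (IsScalarTower.algebraMap_apply A C M a))⟩
  have hSπKs : S.π ∈ Ks := by
    rw [hSπ]
    show ι (D.ψ (D.φ D.ϖ)) ∈ Ks
    rcases D.ϖC with h | h
    · rw [h]; exact hAKs π
    · rw [h, map_natCast]; exact natCast_mem Ks p
  have hLE : S.L ≤ E := by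
    rw [hSL]
    rintro _ ⟨y, rfl⟩
    obtain ⟨a, b, -, rfl⟩ := IsFractionRing.div_surjective (A := D.B₀) y
    rw [map_div₀, IsFractionRing.lift_algebraMap, IsFractionRing.lift_algebraMap]
    exact div_mem ⟨_, rfl⟩ ⟨_, rfl⟩
  have hBL : ∀ b : D.B₀, algebraMap D.B₀ Ω b ∈ S.L := fun b => by
    rw [hSL]; exact ⟨algebraMap _ _ b, IsFractionRing.lift_algebraMap hBΩ b⟩
  have hsmall : Small S E := by
    obtain ⟨s, hs⟩ := (Module.Finite.fg_top : (⊤ : Submodule D.B₀ C).FG)
    haveI := S.algebraic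
    haveI : FiniteDimensional S.L (IntermediateField.adjoin S.L (ι '' (↑s : Set C))) := by
      haveI : Finite ↥(ι '' (↑s : Set C)) := (s.finite_toSet.image ι).to_subtype
      exact IntermediateField.finiteDimensional_adjoin fun x _ => Algebra.IsIntegral.isIntegral x
    refine ⟨IntermediateField.adjoin S.L (ι '' (↑s : Set C)), inferInstance, ?_⟩
    have hCmem : ∀ c : C, ι c ∈ IntermediateField.adjoin S.L (ι '' (↑s : Set C)) := by
      intro c
      have hc : c ∈ Submodule.span D.B₀ (↑s : Set C) := hs ▸ Submodule.mem_top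
      induction hc using Submodule.span_induction with
      | mem x hx => exact IntermediateField.subset_adjoin _ _ ⟨x, hx, rfl⟩
      | zero => rw [map_zero]; exact zero_mem _
      | add x y _ _ hx hy => rw [map_add]; exact add_mem hx hy
      | smul a x _ hx =>
        rw [Algebra.smul_def, map_mul]
        exact mul_mem (IntermediateField.algebraMap_mem _ (⟨_, hBL a⟩ : S.L)) hx
    rintro _ ⟨y, rfl⟩
    obtain ⟨a, b, -, rfl⟩ := IsFractionRing.div_surjective (A := C) y
    rw [map_div₀]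
    exact div_mem (hCmem a) (hCmem b)
  have hAK : ∀ a, algebraMap D.A₀ Ω a ∈ S.K := fun a => by
    rw [hSK]; exact ⟨algebraMap _ _ a, IsFractionRing.lift_algebraMap hAΩ a⟩
  haveI : IsLocalHom (D.ψ.comp D.φ) := RingHom.isLocalHom_comp _ _
  -- algebraic approximations
  have hU : ∀ x ∈ S.K, ∀ N : ℕ, ∃ u ∈ S.K, IsSeparable (S.K ⊓ clos S.v Ks : Subfield Ω) u ∧
      (∀ r, aeval r (minpoly (S.K ⊓ clos S.v Ks : Subfield Ω) u) = 0 → r ∈ S.K) ∧
      ((N : ℚ) : WithTop ℚ) < S.v (x - u) := by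
    intro x hx N
    set K₀ : Subfield Ω := S.K ⊓ clos S.v Ks
    set G := IntermediateField.adjoin K₀
      {u : Ω | IsSeparable K₀ u ∧ ∀ r, aeval r (minpoly K₀ u) = 0 → r ∈ S.K}
    have hle : S.K ≤ clos S.v G.toSubfield := by
      rw [hSK]
      rintro _ ⟨y, rfl⟩
      obtain ⟨a, b, -, rfl⟩ := IsFractionRing.div_surjective (A := D.A₀) y
      rw [map_div₀, IsFractionRing.lift_algebraMap, IsFractionRing.lift_algebraMap]
      have key : ∀ a, algebraMap D.A₀ Ω a ∈ clos S.v G.toSubfield := fun a =>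
        dense_model S.v (D.ψ.comp D.φ) ι (algebraMap A C) p Ks S.K δ (D.ψ_injective.comp D.φ_injective)
          hιinj hδ0 hdeep hAKs hAK D.ϖirr
          (le_clos S.v Ks (by rw [hSπ] at hSπKs; exact hSπKs)) D.resA (fun z hz => hres z hz) a
      exact div_mem (key a) (key b)
    obtain ⟨u, hu, huv⟩ := (mem_clos S.v).1 (hle hx) N
    obtain ⟨hus, hur⟩ := conj_mem_of_mem_adjoin K₀ S.K inf_le_left hu
    exact ⟨u, hur u (minpoly.aeval _ _), hus, hur, huv⟩
  obtain ⟨K₁, δ₁, hfin, hnor, hδ₁, hdisc, ϖ₁, hϖ₁, hϖ₁v⟩ :=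
    descent S hSK' E hLE hsmall Ks hKsE hSπKs (S.K ⊓ clos S.v Ks) inf_le_left inf_le_right hU
  haveI := hfin; haveI := hnor
  letI : Algebra K Ω := g.toAlgebra
  let K₁' : IntermediateField K Ω :=
    K₁.toSubfield.toIntermediateField fun k => K₁.algebraMap_mem ⟨g k, k, rfl⟩
  let eK : Ks ≃+* K := (RingEquiv.ofBijective g.rangeRestrictField
    ⟨fun a b h => g.injective (congrArg Subtype.val h), g.rangeRestrictField_bijective.2⟩).symm
  haveI : FiniteDimensional K K₁' := Module.Finite.of_equiv_equiv (A₁ := Ks) (B₁ := K₁) eK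
    (RingEquiv.refl K₁) (by
      refine RingHom.ext fun a => Subtype.ext ?_
      show g (eK a) = (a : Ω)
      exact congrArg Subtype.val (RingEquiv.apply_symm_apply (RingEquiv.ofBijective g.rangeRestrictField _) a))
  refine ⟨K₁', inferInstance, inferInstance, inferInstance, ?_⟩
  intro M' _ _ _ _ _ _ hgen W hW
  haveI := Ram24.finiteDimensional_of_adjoin_eq_top (K := K) (L := M) (K₁ := K₁') (M := M') hgen
  letI : Algebra C M' := ((algebraMap M M').comp (algebraMap C M)).toAlgebra
  haveI : IsScalarTower C M M' := .of_algebraMap_eq fun _ => rfl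
  let f : M' →ₐ[M] Ω := IsAlgClosed.lift
  let fC : M' →ₐ[C] Ω := f.restrictScalars C
  have hmem : ∀ y : M', y ∈ W ↔ 0 ≤ S.v (f y) := by
    intro y
    rw [mem_iff_isIntegral W hW, hSv]
    constructor
    · intro h
      exact isIntegral_trans _ (h.map fC)
    · intro h
      exact (isIntegral_algHom_iff fC f.injective).1 (h.tower_top (A := C))
  -- the image of `K₁`
  let τ₀ : K₁' →+* Ω := f.toRingHom.comp (algebraMap K₁' M')
  let τ : K₁ →ₐ[Ks] Ω :=
    { toRingHom := τ₀
      commutes' := by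
        rintro ⟨a, k, rfl⟩
        show f (algebraMap K₁' M' (algebraMap K K₁' k)) = g k
        rw [← IsScalarTower.algebraMap_apply, IsScalarTower.algebraMap_apply K M M', f.commutes]
        rfl }
  have hrange : τ.fieldRange = K₁ := AlgHom.fieldRange_of_normal τ
  have hfmem : ∀ y : M', f y ∈ E ⊔ K₁.toSubfield := by
    intro y
    have hy : y ∈ Algebra.adjoin M (Set.range (algebraMap K₁' M')) := hgen ▸ Algebra.mem_top
    induction hy using Algebra.adjoin_induction with
    | mem x hx =>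
      obtain ⟨z, rfl⟩ := hx
      refine (le_sup_right : K₁.toSubfield ≤ E ⊔ K₁.toSubfield) ?_
      exact hrange.le ⟨(⟨z.1, z.2⟩ : K₁), rfl⟩
    | algebraMap m => rw [f.commutes]; exact (le_sup_left : E ≤ E ⊔ K₁.toSubfield) ⟨m, rfl⟩
    | add x y _ _ hx hy => rw [map_add]; exact add_mem hx hy
    | mul x y _ _ hx hy => rw [map_mul]; exact mul_mem hx hy
  obtain ⟨k₁, hk₁⟩ : ∃ k₁, τ k₁ = ϖ₁ := by
    rw [← hrange] at hϖ₁
    exact hϖ₁
  let i := EtRam.inclOfComap W (algebraMap K₁' M')
  show (maximalIdeal (W.comap (algebraMap K₁' M'))).map i = maximalIdeal W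
  refine le_antisymm (Ideal.map_le_iff_le_comap.2 fun x hx => map_nonunit i x hx) fun x hx => ?_
  have hfk : f (algebraMap K₁' M' k₁) = ϖ₁ := hk₁
  have hkW : algebraMap K₁' M' k₁ ∈ W := by
    rw [hmem, hfk, hϖ₁v, ← WithTop.coe_zero, WithTop.coe_le_coe]; exact hδ₁.le
  have hposiff : ∀ z : W, z ∈ maximalIdeal W → 0 < S.v (f (z : M')) := by
    intro z hz
    refine lt_of_le_of_ne ((hmem _).1 z.2) fun h0 => ?_
    have hz0 : (z : M') ≠ 0 := fun h => by
      rw [h, map_zero, S.v.map_zero] at h0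
      exact WithTop.top_ne_zero h0.symm
    have hinv : (z : M')⁻¹ ∈ W := by
      rw [hmem, map_inv₀, S.v.map_inv, ← h0]; exact le_of_eq rfl
    exact (mem_maximalIdeal z).1 hz
      (IsUnit.of_mul_eq_one ⟨_, hinv⟩ (Subtype.ext (mul_inv_cancel₀ hz0)))
  have hxδ : (δ₁ : WithTop ℚ) ≤ S.v (f (x : M')) :=
    hdisc.le_of_pos S.v hδ₁ (hfmem _) (hposiff x hx)
  have hk0 : algebraMap K₁' M' k₁ ≠ 0 := fun h =>
    ne_zero_of_eq S.v hϖ₁v (by rw [← hfk, h, map_zero])
  have hq : (x : M') / algebraMap K₁' M' k₁ ∈ W := by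
    rw [hmem, map_div₀, hfk]
    rcases eq_or_ne (f (x : M')) 0 with h | h
    · rw [h, zero_div, S.v.map_zero]; exact le_top
    obtain ⟨q, hq⟩ := val_exists S.v h
    rw [hq, WithTop.coe_le_coe] at hxδ
    rw [v_div S.v hq hϖ₁v, ← WithTop.coe_zero, WithTop.coe_le_coe]
    linarith
  have hxeq : x = i ⟨k₁, hkW⟩ * ⟨_, hq⟩ := Subtype.ext (mul_div_cancel₀ _ hk0).symm
  rw [hxeq]
  refine Ideal.mul_mem_right _ _ (Ideal.mem_map_of_mem i ((mem_maximalIdeal _).2 fun hu => ?_))
  obtain ⟨c, hc⟩ := (hu.map i).exists_right_inv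
  have h1 := congrArg (fun z : W => S.v (f (z : M'))) hc
  simp only [MulMemClass.coe_mul, OneMemClass.coe_one, map_mul, map_one, S.v.map_mul, S.v.map_one] at h1
  rw [show f ((i ⟨k₁, hkW⟩ : W) : M') = ϖ₁ from hfk, hϖ₁v] at h1
  exact (add_pos_of_pos_of_nonneg (show (0 : WithTop ℚ) < (δ₁ : WithTop ℚ) from WithTop.coe_lt_coe.2 hδ₁)
    ((hmem _).1 c.2)).ne' h1

end Groth.Agent.Epp23
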