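import Groth.Agent.Epp23.Lemmas

/-!
# The wild step in the setting of Epp's theorem

For a polynomial `g` of degree `p` that is additive for the group law `x + y + c x y` (Artin–Schreier
or Kummer) and `b` in a field `E` with the values of `F`, a finite extension `F'` of `F` absorbs the
ramification of every root of `g z = b`.
-/

set_option autoImplicit false
set_option linter.style.haveILetI false
set_option linter.unusedSectionVars false
universe u

open Polynomial

namespace Groth.Agent.Epp23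

variable {Ω : Type u} [Field Ω] (S : Setup Ω)

/-- The residue extension of `E` over that of `L` has bounded exponent. -/
def Bdd (E : Subfield Ω) : Prop :=
  ∃ N : ℕ, ∀ x ∈ E, 0 ≤ S.v x → ∃ l ∈ S.L, 0 < S.v (x ^ S.p ^ N - l)

/-- The data of the equations `g z = b`. -/
structure Eqn where
  /-- the base field -/
  F : IntermediateField S.K Ω
  fin : FiniteDimensional S.K F
  /-- the field of the right hand sides -/
  E : Subfield Ω
  hLE : S.L ≤ E
  hFE : F.toSubfield ≤ E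
  disc : Disc S.v E (step S F)
  bdd : Bdd S E
  /-- the parameter of the group law -/
  c : Ω
  /-- the coefficients -/
  a : ℕ → Ω
  /-- the bound -/
  k : ℕ
  hk : 0 < k
  hc : c ∈ F
  ha : ∀ i, a i ∈ F
  vc : (((k : ℚ) * step S F : ℚ) : WithTop ℚ) ≤ S.v c
  va : ∀ i, ((((i - 1) * k : ℕ) : ℚ) * step S F : ℚ) ≤ S.v (a i)
  va1 : 0 < S.v (a 1 + 1)
  law : ∀ x y : Ω, (x + y + c * x * y) ^ S.p + ∑ i ∈ Finset.Ioo 0 S.p, a i * (x + y + c * x * y) ^ i =
    (x ^ S.p + ∑ i ∈ Finset.Ioo 0 S.p, a i * x ^ i) + (y ^ S.p + ∑ i ∈ Finset.Ioo 0 S.p, a i * y ^ i) +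
      c ^ S.p * (x ^ S.p + ∑ i ∈ Finset.Ioo 0 S.p, a i * x ^ i) *
        (y ^ S.p + ∑ i ∈ Finset.Ioo 0 S.p, a i * y ^ i)
  sep : ∀ x y : Ω, x ^ S.p + ∑ i ∈ Finset.Ioo 0 S.p, a i * x ^ i =
    y ^ S.p + ∑ i ∈ Finset.Ioo 0 S.p, a i * y ^ i → x ≠ y → 0 ≤ S.v y → S.v (x - y) ≤ 0

namespace Eqn

variable {S} (D : Eqn S)

/-- The polynomial function. -/
def g (z : Ω) : Ω := z ^ S.p + ∑ i ∈ Finset.Ioo 0 S.p, D.a i * z ^ i

theorem g_law (x y : Ω) : D.g (x + y + D.c * x * y) = D.g x + D.g y + D.c ^ S.p * D.g x * D.g y :=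
  D.law x y

/-- The value step. -/
noncomputable def δ : ℚ := step S D.F

theorem δ_pos : 0 < D.δ := by
  haveI := D.fin
  exact step_pos S D.F

theorem mem_E {x : Ω} (hx : x ∈ D.F) : x ∈ D.E := D.hFE hx

/-- The ramification of `g z = b` is absorbed by an extension of `F₁`. -/
def Red (F₁ : IntermediateField S.K Ω) (b : Ω) : Prop :=
  ∀ z, D.g z = b → ∃ F' : IntermediateField S.K Ω, FiniteDimensional S.K F' ∧ F₁ ≤ F' ∧
    Disc S.v (comp S D.E F' ⊔ Subfield.closure {z}) (step S F')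

theorem g_mem {M : Subfield Ω} (hM : D.F.toSubfield ≤ M) {w : Ω} (hw : w ∈ M) : D.g w ∈ M :=
  M.add_mem (pow_mem hw _) (sum_mem fun i _ => M.mul_mem (hM (D.ha i)) (pow_mem hw i))

/-- The polynomial `g - b` over a field. -/
noncomputable def poly {M : Subfield Ω} (hM : D.F.toSubfield ≤ M) (b : M) : Polynomial M :=
  X ^ S.p + ((∑ i ∈ Finset.Ioo 0 S.p, C ⟨D.a i, hM (D.ha i)⟩ * X ^ i) - C b)

theorem aeval_poly {M : Subfield Ω} (hM : D.F.toSubfield ≤ M) (b : M) (z : Ω) :
    aeval z (D.poly hM b) = D.g z - b := by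
  simp only [poly, g, map_add, map_sub, map_sum, map_mul, map_pow, aeval_X, aeval_C]
  rw [add_sub_assoc]
  rfl

theorem monic_poly {M : Subfield Ω} (hM : D.F.toSubfield ≤ M) (b : M) : (D.poly hM b).Monic := by
  refine monic_X_pow_add ((degree_sub_le _ _).trans_lt (max_lt ?_ ?_))
  · refine (degree_sum_le _ _).trans_lt ((Finset.sup_lt_iff ?_).2 fun i hi => ?_)
    · exact_mod_cast WithBot.bot_lt_coe _
    · exact (degree_C_mul_X_pow_le _ _).trans_lt (by exact_mod_cast (Finset.mem_Ioo.1 hi).2)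
  · exact degree_C_le.trans_lt (by exact_mod_cast S.hp.pos)

theorem isIntegral_root (F₁ : IntermediateField S.K Ω) (hF : D.F ≤ F₁) {w : Ω} (hw : D.g w ∈ F₁) :
    IsIntegral F₁ w := by
  have hM : D.F.toSubfield ≤ F₁.toSubfield := fun x hx => hF hx
  have h : aeval w (D.poly hM ⟨D.g w, hw⟩) = 0 := by rw [aeval_poly]; exact sub_self _
  exact ⟨D.poly hM ⟨D.g w, hw⟩, D.monic_poly hM _, h⟩

theorem exists_root [IsAlgClosed Ω] (F₁ : IntermediateField S.K Ω) [FiniteDimensional S.K F₁]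
    (hF : D.F ≤ F₁) {s : Ω} (hs : s ∈ F₁) :
    ∃ (F₂ : IntermediateField S.K Ω) (w : Ω), FiniteDimensional S.K F₂ ∧ F₁ ≤ F₂ ∧ w ∈ F₂ ∧
      D.g w = s := by
  have hM : D.F.toSubfield ≤ F₁.toSubfield := fun x hx => hF hx
  obtain ⟨w, hw⟩ := IsAlgClosed.exists_aeval_eq_zero (k := Ω) (D.poly hM ⟨s, hs⟩) (by
    have hdeg : (D.poly hM ⟨s, hs⟩).natDegree = S.p := by
      refine natDegree_eq_of_degree_eq_some ?_
      rw [poly, degree_add_eq_left_of_degree_lt] <;> rw [degree_X_pow]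
      refine (degree_sub_le _ _).trans_lt (max_lt ?_ ?_)
      · refine (degree_sum_le _ _).trans_lt ((Finset.sup_lt_iff ?_).2 fun i hi => ?_)
        · exact_mod_cast WithBot.bot_lt_coe _
        · exact (degree_C_mul_X_pow_le _ _).trans_lt (by exact_mod_cast (Finset.mem_Ioo.1 hi).2)
      · exact degree_C_le.trans_lt (by exact_mod_cast S.hp.pos)
    rw [degree_eq_natDegree (D.monic_poly hM _).ne_zero, hdeg]
    exact_mod_cast S.hp.ne_zero)
  rw [aeval_poly, sub_eq_zero] at hw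
  obtain ⟨F₂, h1, h2, h3⟩ := exists_ext S F₁ w (D.isIntegral_root F₁ hF (by rw [hw]; exact hs))
  exact ⟨F₂, w, h1, h2, h3, hw⟩

theorem va_nonneg (i : ℕ) : 0 ≤ S.v (D.a i) := by
  refine le_trans ?_ (D.va i)
  rw [← WithTop.coe_zero, WithTop.coe_le_coe]
  exact mul_nonneg (Nat.cast_nonneg _) D.δ_pos.le

/-- Elements of negative value are the roots of right hand sides of negative value. -/
theorem v_g_of_neg {z : Ω} {q : ℚ} (hz : S.v z = q) (hq : q < 0) :
    S.v (D.g z) = ((S.p * q : ℚ) : WithTop ℚ) ∧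
      ((S.p * q : ℚ) : WithTop ℚ) < S.v (D.g z - z ^ S.p) := by
  have h2 : ((S.p * q : ℚ) : WithTop ℚ) < S.v (∑ i ∈ Finset.Ioo 0 S.p, D.a i * z ^ i) := by
    refine S.v.map_lt_sum WithTop.coe_ne_top fun i hi => ?_
    have hi2 : (i : ℚ) < S.p := by exact_mod_cast (Finset.mem_Ioo.1 hi).2
    refine lt_of_lt_of_le (WithTop.coe_lt_coe.2 ((mul_lt_mul_of_neg_right hi2 hq))) ?_
    rw [S.v.map_mul, v_pow S.v hz]
    exact le_add_of_nonneg_left (D.va_nonneg i)
  have h3 := v_pow S.v hz S.p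
  refine ⟨?_, by rw [g, add_sub_cancel_left]; exact h2⟩
  rw [g, S.v.map_add_eq_of_lt_left (by rw [h3]; exact h2), h3]

theorem v_nonneg_of_g {z : Ω} (h : 0 ≤ S.v (D.g z)) : 0 ≤ S.v z := by
  by_contra hz
  rw [not_le] at hz
  obtain ⟨q, hq⟩ := val_exists S.v (x := z) fun h0 => by
    rw [h0, S.v.map_zero] at hz
    exact absurd hz (not_lt.2 le_top)
  rw [hq, ← WithTop.coe_zero, WithTop.coe_lt_coe] at hz
  rw [(D.v_g_of_neg hq hz).1, ← WithTop.coe_zero, WithTop.coe_le_coe] at h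
  have : (0 : ℚ) < S.p := by exact_mod_cast S.hp.pos
  nlinarith

/-- Elements `z` with `g z` in a given range have values in the corresponding range. -/
theorem v_ge_of_g {z : Ω} {q : ℚ} (hq : q ≤ 0) (h : ((q : ℚ) : WithTop ℚ) ≤ S.v (D.g z)) :
    ((q / S.p : ℚ) : WithTop ℚ) ≤ S.v z := by
  have hp : (0 : ℚ) < S.p := by exact_mod_cast S.hp.pos
  rcases le_or_gt 0 (S.v z) with h0 | h0
  · exact le_trans (by rw [← WithTop.coe_zero, WithTop.coe_le_coe]; exact div_nonpos_of_nonpos_of_nonneg hq hp.le) h0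
  obtain ⟨r, hr⟩ := val_exists S.v (x := z) fun hz => by
    rw [hz, S.v.map_zero] at h0
    exact absurd h0 (not_lt.2 le_top)
  rw [hr, ← WithTop.coe_zero, WithTop.coe_lt_coe] at h0
  rw [(D.v_g_of_neg hr h0).1, WithTop.coe_le_coe] at h
  rw [hr, WithTop.coe_le_coe, div_le_iff₀ hp]
  linarith

/-- Changing the right hand side by a value of `g`. -/
theorem red_of_shift {F₁ F₂ : IntermediateField S.K Ω} (hF : F₁ ≤ F₂) {b w : Ω}
    (hw : w ∈ comp S D.E F₂) (hcw : 1 + D.c * w ≠ 0) (hcs : 1 + D.c ^ S.p * D.g w ≠ 0)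
    (h : D.Red F₂ ((b - D.g w) / (1 + D.c ^ S.p * D.g w))) : D.Red F₁ b := by
  intro z hz
  let z' := (z - w) / (1 + D.c * w)
  have hzw : z = w + z' + D.c * w * z' := by
    have h1 : z' * (1 + D.c * w) = z - w := div_mul_cancel₀ _ hcw
    linear_combination -h1
  have hg : D.g z' = (b - D.g w) / (1 + D.c ^ S.p * D.g w) := by
    rw [eq_div_iff hcs, ← hz, hzw, g_law]
    ring
  obtain ⟨F', hfin, hle, hdisc⟩ := h z' hg
  refine ⟨F', hfin, hF.trans hle, hdisc.mono S.v (sup_le le_sup_left ?_)⟩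
  rw [Subfield.closure_le, Set.singleton_subset_iff, SetLike.mem_coe]
  have hM : comp S D.E F' ≤ comp S D.E F' ⊔ Subfield.closure {z'} := le_sup_left
  have hw' := hM (comp_mono S le_rfl hle hw)
  have hz' : z' ∈ comp S D.E F' ⊔ Subfield.closure {z'} :=
    (le_sup_right : Subfield.closure {z'} ≤ _) (Subfield.subset_closure rfl)
  rw [hzw]
  exact add_mem (add_mem hw' hz') (mul_mem (mul_mem (hM (le_comp_left S _ _ (D.mem_E D.hc))) hw') hz')

/-- The field `E · F₁` has the values of `F₁` and the residue field of `E`. -/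
theorem disc_comp {F₁ : IntermediateField S.K Ω} [FiniteDimensional S.K F₁] (hF : D.F ≤ F₁) :
    Disc S.v (comp S D.E F₁) (step S F₁) ∧
      ∀ y ∈ comp S D.E F₁, 0 ≤ S.v y → ∃ x ∈ D.E, 0 < S.v (y - x) := by
  haveI := D.fin
  exact mono S D.hFE D.disc hF

/-- Integral right hand sides give no ramification. -/
theorem red_of_nonneg [IsAlgClosed Ω] {F₁ : IntermediateField S.K Ω} [FiniteDimensional S.K F₁]
    (hF : D.F ≤ F₁) {b : Ω} (hb : b ∈ comp S D.E F₁) (hb0 : 0 ≤ S.v b) : D.Red F₁ b := by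
  intro z hz
  refine ⟨F₁, inferInstance, le_rfl, ?_⟩
  suffices hzmem : z ∈ comp S D.E F₁ from
    (D.disc_comp hF).1.mono S.v (sup_le le_rfl (Subfield.closure_le.2 (Set.singleton_subset_iff.2 hzmem)))
  haveI : Fact S.p.Prime := ⟨S.hp⟩
  have hz0 : 0 ≤ S.v z := D.v_nonneg_of_g (hz ▸ hb0)
  have hLM : S.L ≤ comp S D.E F₁ := D.hLE.trans le_sup_left
  have hFM : D.F.toSubfield ≤ comp S D.E F₁ := D.hFE.trans le_sup_left
  obtain ⟨N, l, hl, hzl⟩ := S.pins z hz0
  -- residue computations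
  haveI : CharP (IsLocalRing.ResidueField (O S.v)) S.p := (CharP.charP_iff_prime_eq_zero S.hp).2 (by
    rw [← map_natCast (IsLocalRing.residue (O S.v))]
    exact (residue_eq_zero S.v (x := ((S.p : O S.v) : Ω)) _).2 (by simpa using S.v_p))
  let res := IsLocalRing.residue (O S.v)
  let zO : O S.v := ⟨z, hz0⟩
  let bO : O S.v := ⟨b, hb0⟩
  let aO : ℕ → O S.v := fun i => ⟨D.a i, D.va_nonneg i⟩
  have hsum : zO ^ S.p + ∑ i ∈ Finset.Ioo 0 S.p, aO i * zO ^ i = bO := by
    refine Subtype.ext ?_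
    simpa [zO, bO, aO, g] using hz
  have ha1 : res (aO 1) = -1 := by
    rw [eq_neg_iff_add_eq_zero, ← map_one res, ← map_add]
    exact (residue_eq_zero S.v (aO 1 + 1).2).2 D.va1
  have hai : ∀ i, 1 < i → res (aO i) = 0 := fun i hi => (residue_eq_zero S.v _).2 <| by
    refine lt_of_lt_of_le ?_ (D.va i)
    rw [← WithTop.coe_zero, WithTop.coe_lt_coe]
    exact mul_pos (by exact_mod_cast Nat.mul_pos (by omega) D.hk) D.δ_pos
  have hrel : res zO ^ S.p = res zO + res bO := by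
    have h := congrArg res hsum
    rw [map_add, map_pow, map_sum, Finset.sum_eq_single 1
      (fun i hi h1 => by
        rw [map_mul, hai i (by have := (Finset.mem_Ioo.1 hi).1; omega), zero_mul])
      (fun h1 => absurd (Finset.mem_Ioo.2 ⟨one_pos, S.hp.one_lt⟩) h1), map_mul, ha1, map_pow,
      pow_one] at h
    linear_combination h
  have hiter : ∀ j : ℕ, res zO ^ S.p ^ j = res zO + ∑ i ∈ Finset.range j, res bO ^ S.p ^ i := by
    intro j
    induction j with
    | zero => simp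
    | succ j ih =>
      rw [Finset.sum_range_succ', pow_zero, pow_one, pow_succ, pow_mul, ih, add_pow_char,
        sum_pow_char, hrel]
      simp only [← pow_mul, ← pow_succ]
      ring
  let y : Ω := l - ∑ i ∈ Finset.range N, b ^ S.p ^ i
  have hy : y ∈ comp S D.E F₁ := sub_mem (hLM hl) (sum_mem fun i _ => pow_mem hb _)
  have hlO : l ∈ O S.v := by
    rw [show l = z ^ S.p ^ N - (z ^ S.p ^ N - l) by ring]
    exact sub_mem (pow_mem (show z ∈ O S.v from hz0) _) hzl.le
  have hzy : 0 < S.v (z - y) := by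
    refine (residue_eq_residue S.v (show z ∈ O S.v from hz0)
      (sub_mem hlO (sum_mem fun i _ => pow_mem (show b ∈ O S.v from hb0) _))).1 ?_
    show res zO = res (⟨l, hlO⟩ - ⟨∑ i ∈ Finset.range N, b ^ S.p ^ i, sum_mem fun i _ => pow_mem (show b ∈ O S.v from hb0) _⟩)
    have h1 : res ⟨l, hlO⟩ = res zO ^ S.p ^ N := by
      rw [← map_pow]
      exact ((residue_eq_residue S.v _ hlO).2 hzl).symm
    have h2 : (⟨∑ i ∈ Finset.range N, b ^ S.p ^ i,
        sum_mem fun i _ => pow_mem (show b ∈ O S.v from hb0) _⟩ : O S.v) =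
          ∑ i ∈ Finset.range N, bO ^ S.p ^ i := Subtype.ext (by simp [bO])
    rw [h2, map_sub, h1, map_sum, hiter N]
    simp only [map_pow, add_sub_cancel_right]
  -- separability
  let P := D.poly hFM ⟨b, hb⟩
  have hroot : aeval z P = 0 := by rw [aeval_poly, hz]; exact sub_self b
  have hder : aeval z (derivative P) ≠ 0 := by
    have h1 : aeval z (derivative P) = ((S.p : ℕ) : Ω) * z ^ (S.p - 1) +
        ∑ i ∈ Finset.Ioo 0 S.p, (i : Ω) * D.a i * z ^ (i - 1) := by
      simp only [P, poly, map_add, map_sub, derivative_X_pow, derivative_sum, derivative_C_mul_X_pow,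
        derivative_C, map_zero, sub_zero, map_mul, map_pow, aeval_X, aeval_C, map_sum, map_natCast]
      congr 1
      refine Finset.sum_congr rfl fun i _ => ?_
      rw [mul_comm (i : Ω)]
      rfl
    intro h0
    rw [h1] at h0
    have h2 : res ((S.p : O S.v) * zO ^ (S.p - 1) +
        ∑ i ∈ Finset.Ioo 0 S.p, (i : O S.v) * aO i * zO ^ (i - 1)) = 0 := by
      rw [← map_zero res]
      refine congrArg res (Subtype.ext ?_)
      simpa [zO, aO] using h0
    rw [map_add, map_mul, map_natCast, CharP.cast_eq_zero, zero_mul, zero_add, map_sum,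
      Finset.sum_eq_single 1
      (fun i hi h1 => by
        rw [map_mul, map_mul, hai i (by have := (Finset.mem_Ioo.1 hi).1; omega), mul_zero, zero_mul])
      (fun h1 => absurd (Finset.mem_Ioo.2 ⟨one_pos, S.hp.one_lt⟩) h1), map_mul, map_mul, ha1] at h2
    simp at h2
  have hsep : IsSeparable (comp S D.E F₁) z := by
    have hint : IsIntegral (comp S D.E F₁) z := ⟨P, D.monic_poly hFM _, hroot⟩
    refine (Polynomial.separable_iff_derivative_ne_zero (minpoly.irreducible hint)).2 fun h0 => ?_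
    obtain ⟨Q, hQ⟩ := minpoly.dvd _ z hroot
    refine hder ?_
    rw [hQ, derivative_mul, map_add, map_mul, map_mul, minpoly.aeval, h0, map_zero, zero_mul,
      zero_mul, add_zero]
  refine mem_of_near S hLM hsep hy hzy fun σ hσ => D.sep (σ z) z ?_ hσ hz0
  have : σ (D.g z) = D.g (σ z) := by
    simp only [g, map_add, map_pow, map_sum, map_mul]
    congr 1
    refine Finset.sum_congr rfl fun i _ => ?_
    rw [show σ (D.a i) = D.a i from σ.commutes ⟨D.a i, hFM (D.ha i)⟩]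
  show D.g (σ z) = D.g z
  rw [← this, hz]
  exact σ.commutes ⟨b, hb⟩

/-- A leading coefficient which is not a `p`-th power gives an inert step. -/
theorem red_of_notPow [IsAlgClosed Ω] {F₁ : IntermediateField S.K Ω} [FiniteDimensional S.K F₁]
    (hF : D.F ≤ F₁) {b s x : Ω} (hb : b ∈ comp S D.E F₁) (hs : s ∈ F₁) {q : ℚ} (hsq : S.v s = q)
    (hq : q < 0) (hx : x ∈ D.E) (hxn : NotPow S.v S.p D.E x)
    (hbx : ((q : ℚ) : WithTop ℚ) < S.v (b - s * x)) : D.Red F₁ b := by
  intro z hz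
  have hp : (0 : ℚ) < S.p := by exact_mod_cast S.hp.pos
  have hx0 : S.v x = 0 := le_antisymm (not_lt.1 fun h => hxn.2
    ⟨0, D.E.zero_mem, by rwa [zero_pow S.hp.ne_zero, sub_zero]⟩) hxn.1
  have hvb : S.v b = q := by
    have h1 : S.v (s * x) = q := by rw [S.v.map_mul, hx0, add_zero, hsq]
    rw [← h1] at hbx ⊢
    exact S.v.map_eq_of_lt_sub hbx
  have hvz : S.v z = ((q / S.p : ℚ) : WithTop ℚ) := by
    rcases le_or_gt 0 (S.v z) with h | h
    · exfalso
      have h1 : 0 ≤ S.v (D.g z) := by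
        refine S.v.map_le_add ?_ (S.v.map_le_sum fun i _ => ?_)
        · rw [S.v.map_pow]; exact nsmul_nonneg h _
        · rw [S.v.map_mul, S.v.map_pow]; exact add_nonneg (D.va_nonneg i) (nsmul_nonneg h _)
      rw [hz, hvb, ← WithTop.coe_zero, WithTop.coe_le_coe] at h1
      linarith
    obtain ⟨r, hr⟩ := val_exists S.v (x := z) fun h0 => by
      rw [h0, S.v.map_zero] at h
      exact absurd h (not_lt.2 le_top)
    rw [hr, ← WithTop.coe_zero, WithTop.coe_lt_coe] at h
    have h2 := (D.v_g_of_neg hr h).1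
    rw [hz, hvb, WithTop.coe_eq_coe] at h2
    rw [hr, WithTop.coe_eq_coe, h2]
    field_simp
  obtain ⟨r, hr⟩ := IsAlgClosed.exists_pow_nat_eq s S.hp.pos
  have hs0 : s ≠ 0 := ne_zero_of_eq S.v hsq
  have hr0 : r ≠ 0 := fun h => hs0 (by rw [← hr, h, zero_pow S.hp.ne_zero])
  obtain ⟨F₂, hfin, hF₂, hrF⟩ := exists_ext S F₁ r ⟨X ^ S.p - C ⟨s, hs⟩,
    monic_X_pow_sub_C _ S.hp.ne_zero, by simp [hr]⟩
  have hvr : S.v r = ((q / S.p : ℚ) : WithTop ℚ) := by
    obtain ⟨t, ht⟩ := val_exists S.v hr0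
    have h := v_pow S.v ht S.p
    rw [hr, hsq, WithTop.coe_eq_coe] at h
    rw [ht, WithTop.coe_eq_coe, h]
    field_simp
  refine ⟨F₂, hfin, hF₂, ?_⟩
  haveI := hfin
  obtain ⟨hdisc, hres⟩ := D.disc_comp (hF.trans hF₂)
  let ρ := z / r
  have hρ0 : 0 ≤ S.v ρ := by
    rw [v_div S.v hvz hvr, sub_self]
    exact le_of_eq rfl
  have hρx : 0 < S.v (ρ ^ S.p - x) := by
    have e : ρ ^ S.p - x = ((b - s * x) - (D.g z - z ^ S.p)) / s := by
      rw [div_pow, hr, hz]
      field_simp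
      ring
    rw [e, S.v.map_div, hsq]
    have h1 : ((q : ℚ) : WithTop ℚ) < S.v ((b - s * x) - (D.g z - z ^ S.p)) := by
      refine lt_of_lt_of_le (lt_min hbx ?_) (S.v.map_sub _ _)
      have h := (D.v_g_of_neg hvz (div_neg_of_neg_of_pos hq hp)).2
      rwa [mul_div_cancel₀ _ hp.ne'] at h
    rcases eq_or_ne ((b - s * x) - (D.g z - z ^ S.p)) 0 with h0 | h0
    · rw [h0, S.v.map_zero]; exact WithTop.coe_lt_top _
    obtain ⟨t, ht⟩ := val_exists S.v h0
    rw [ht, WithTop.coe_lt_coe] at h1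
    rw [ht, ← WithTop.LinearOrderedAddCommGroup.coe_sub, ← WithTop.coe_zero, WithTop.coe_lt_coe]
    linarith
  have hrE : r ∈ comp S D.E F₂ := le_comp_right S _ _ hrF
  have hbE : b ∈ comp S D.E F₂ := comp_mono S le_rfl hF₂ hb
  have hFM : D.F.toSubfield ≤ comp S D.E F₂ := D.hFE.trans le_sup_left
  let P := (D.poly hFM ⟨b, hbE⟩).scaleRoots (⟨r, hrE⟩⁻¹ : comp S D.E F₂)
  have hdeg : (D.poly hFM ⟨b, hbE⟩).natDegree = S.p := by
    refine natDegree_eq_of_degree_eq_some ?_
    rw [poly, degree_add_eq_left_of_degree_lt] <;> rw [degree_X_pow]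
    refine (degree_sub_le _ _).trans_lt (max_lt ?_ ?_)
    · refine (degree_sum_le _ _).trans_lt ((Finset.sup_lt_iff ?_).2 fun i hi => ?_)
      · exact_mod_cast WithBot.bot_lt_coe _
      · exact (degree_C_mul_X_pow_le _ _).trans_lt (by exact_mod_cast (Finset.mem_Ioo.1 hi).2)
    · exact degree_C_le.trans_lt (by exact_mod_cast S.hp.pos)
  have hP : P.Monic := by
    rw [Monic.def, leadingCoeff, natDegree_scaleRoots, coeff_scaleRoots_natDegree]
    exact (D.monic_poly hFM _).leadingCoeff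
  have hPd : P.natDegree = S.p := (natDegree_scaleRoots _ _).trans hdeg
  have hP0 : aeval ρ P = 0 := by
    have h : aeval z (D.poly hFM ⟨b, hbE⟩) = 0 := by rw [aeval_poly, hz]; exact sub_self b
    have h2 := scaleRoots_aeval_eq_zero (r := (⟨r, hrE⟩⁻¹ : comp S D.E F₂)) h
    have e : algebraMap (comp S D.E F₂) Ω (⟨r, hrE⟩⁻¹) * z = ρ := by
      rw [map_inv₀]
      show r⁻¹ * z = z / r
      rw [div_eq_inv_mul]
    rwa [e] at h2
  have hxn' : NotPow S.v S.p (comp S D.E F₂) x := hxn.of_residue S S.hp.pos hres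
  refine (span_disc_of_notPow S.v S.hp S.v_p hdisc (le_comp_left S _ _ hx) hxn' hρ0 hρx hP hPd
    hP0).mono S.v (sup_le le_sup_left ?_)
  rw [Subfield.closure_le, Set.singleton_subset_iff, SetLike.mem_coe]
  have : z = r * ρ := by rw [mul_div_cancel₀ _ hr0]
  rw [this]
  exact mul_mem ((le_sup_left : comp S D.E F₂ ≤ _) hrE)
    ((le_sup_right : Subfield.closure {ρ} ≤ _) (Subfield.subset_closure rfl))

end Eqn

end Groth.Agent.Epp23
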